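import Mathlib
import Cfsg.Prelude.Def_Sporadic_a

set_option autoImplicit false

namespace Cfsg.Agent.Lib.Helper8

open Cfsg

/-- index of a point: residues 0..22, the extra point is 23 -/
def idx : GolayPt → ℕ
  | none => 23
  | some x => ZMod.val x

/-- the point with a given index -/
def pt (i : ℕ) : GolayPt := if h : i < 23 then some (⟨i, h⟩ : Fin 23) else none

theorem idx_lt (p : GolayPt) : idx p < 24 := by
  cases p with
  | none => simp [idx]
  | some x => have := ZMod.val_lt x; simp only [idx]; omega

theorem pt_idx (p : GolayPt) : pt (idx p) = p := by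
  cases p with
  | none => simp [idx, pt]
  | some x =>
    have h : idx (some x) < 23 := ZMod.val_lt x
    unfold pt
    rw [dif_pos h]
    rfl

theorem idx_pt {i : ℕ} (h : i < 24) : idx (pt i) = i := by
  by_cases h' : i < 23
  · simp only [pt, h', dite_true, idx]; rfl
  · simp only [pt, h', dite_false, idx]; omega

theorem idx_injective : Function.Injective idx := fun p q h => by
  rw [← pt_idx p, ← pt_idx q, h]

theorem idx_eq_iff {p q : GolayPt} : idx p = idx q ↔ p = q := idx_injective.eq_iff

/-- sums over the 24 points as sums over `range 24` -/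
theorem sum_pts {M : Type*} [AddCommMonoid M] (f : ℕ → M) :
    ∑ p : GolayPt, f (idx p) = ∑ i ∈ Finset.range 24, f i := by
  rw [Fintype.sum_option, Finset.sum_range_succ, add_comm]
  congr 1

/-- the subset of the 24 points with a given bit mask -/
def setOf (m : ℕ) : Finset GolayPt := Finset.univ.filter fun p => m.testBit (idx p) = true

@[simp] theorem mem_setOf {m : ℕ} {p : GolayPt} : p ∈ setOf m ↔ m.testBit (idx p) = true := by
  simp [setOf]

/-- the bit mask of a subset of the 24 points -/
def maskS (s : Finset GolayPt) : ℕ := Nat.ofBits fun i : Fin 24 => decide (pt i ∈ s)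

theorem maskS_lt (s : Finset GolayPt) : maskS s < 2 ^ 24 := Nat.ofBits_lt_two_pow _

theorem testBit_maskS (s : Finset GolayPt) (p : GolayPt) :
    (maskS s).testBit (idx p) = decide (p ∈ s) := by
  rw [maskS, Nat.testBit_ofBits_lt _ _ (idx_lt p)]
  simp [pt_idx]

@[simp] theorem setOf_maskS (s : Finset GolayPt) : setOf (maskS s) = s := by
  ext p; simp [testBit_maskS]

theorem maskS_setOf {m : ℕ} (h : m < 2 ^ 24) : maskS (setOf m) = m := by
  apply Nat.eq_of_testBit_eq
  intro i
  by_cases hi : i < 24
  · have := testBit_maskS (setOf m) (pt i)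
    rw [idx_pt hi] at this
    rw [this]
    simp only [mem_setOf, idx_pt hi]
    cases m.testBit i <;> simp
  · have h1 : maskS (setOf m) < 2 ^ i :=
      lt_of_lt_of_le (maskS_lt _) (Nat.pow_le_pow_right (by norm_num) (by omega))
    have h2 : m < 2 ^ i := lt_of_lt_of_le h (Nat.pow_le_pow_right (by norm_num) (by omega))
    rw [Nat.testBit_lt_two_pow h1, Nat.testBit_lt_two_pow h2]

theorem maskS_injective : Function.Injective maskS := fun s t h => by
  rw [← setOf_maskS s, ← setOf_maskS t, h]

theorem setOf_inj {a b : ℕ} (ha : a < 2 ^ 24) (hb : b < 2 ^ 24) : setOf a = setOf b ↔ a = b := by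
  constructor
  · intro h; rw [← maskS_setOf ha, ← maskS_setOf hb, h]
  · intro h; rw [h]

theorem setOf_and (a b : ℕ) : setOf (a &&& b) = setOf a ∩ setOf b := by
  ext p; simp [Nat.testBit_and]

theorem setOf_or (a b : ℕ) : setOf (a ||| b) = setOf a ∪ setOf b := by
  ext p; simp [Nat.testBit_or]

theorem setOf_xor (a b : ℕ) : setOf (a ^^^ b) = symmDiff (setOf a) (setOf b) := by
  ext p
  simp only [mem_setOf, Nat.testBit_xor, Finset.mem_symmDiff]
  cases a.testBit (idx p) <;> cases b.testBit (idx p) <;> simp

theorem setOf_zero : setOf 0 = ∅ := by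
  ext p; simp

theorem setOf_full : setOf 16777215 = Finset.univ := by
  ext p
  simp only [mem_setOf, Finset.mem_univ, iff_true]
  have h : (16777215 : ℕ) = 2 ^ 24 - 1 := by norm_num
  rw [h, Nat.testBit_two_pow_sub_one]
  simp [idx_lt p]

theorem setOf_two_pow {i : ℕ} (h : i < 24) : setOf (2 ^ i) = {pt i} := by
  ext p
  simp only [mem_setOf, Nat.testBit_two_pow, decide_eq_true_eq, Finset.mem_singleton]
  constructor
  · intro h'; rw [h', pt_idx]
  · intro h'; rw [h', idx_pt h]

theorem subset_iff_and {a b : ℕ} (ha : a < 2 ^ 24) : setOf a ⊆ setOf b ↔ a &&& b = a := by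
  rw [← Finset.inter_eq_left, ← setOf_and, setOf_inj (lt_of_le_of_lt Nat.and_le_left ha) ha]

/-- slow population count of the low 24 bits -/
def popc (m : ℕ) : ℕ :=
  Nat.rec (motive := fun _ => ℕ) 0 (fun i acc => acc + ((m >>> i) &&& 1)) 24

theorem popc_aux (m n : ℕ) :
    Nat.rec (motive := fun _ => ℕ) 0 (fun i acc => acc + ((m >>> i) &&& 1)) n
      = ∑ i ∈ Finset.range n, if m.testBit i = true then 1 else 0 := by
  induction n with
  | zero => simp
  | succ k ih =>
    rw [Finset.sum_range_succ, ← ih]
    rw [Nat.testBit, Nat.and_comm]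
    rcases Nat.mod_two_eq_zero_or_one (m >>> k) with h | h <;> simp [h]

theorem card_setOf (m : ℕ) : (setOf m).card = popc m := by
  rw [popc, popc_aux, setOf, Finset.card_filter]
  exact sum_pts (fun i => if m.testBit i = true then 1 else 0)

/-- conjunction as a definition (a delta step keeps the kernel's recursion shallow) -/
def andB (b k : Bool) : Bool := Bool.rec false k b

/-- call by value application for kernel evaluation -/
def force {α : Sort _} (n : ℕ) (f : ℕ → α) : α := Nat.rec (f 0) (fun k _ => f (k + 1)) n

theorem force_eq {α : Sort _} (n : ℕ) (f : ℕ → α) : force n f = f n := by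
  cases n <;> rfl

/-- `p k` for all `k < n`, written with recursors for fast kernel evaluation -/
def allBelow (n : ℕ) (p : ℕ → Bool) : Bool :=
  Nat.rec (motive := fun _ => Bool) true (fun k ih => andB (p k) ih) n

theorem allBelow_iff (n : ℕ) (p : ℕ → Bool) : allBelow n p = true ↔ ∀ k < n, p k = true := by
  induction n with
  | zero => simp [allBelow]
  | succ k ih =>
    have : allBelow (k + 1) p = Bool.rec false (allBelow k p) (p k) := rfl
    rw [this]
    constructor
    · intro h j hj
      cases hp : p k with
      | false => rw [hp] at h; exact absurd h (by simp)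
      | true =>
        rw [hp] at h
        rcases Nat.lt_succ_iff_lt_or_eq.mp hj with h' | h'
        · exact ih.mp h j h'
        · rw [h']; exact hp
    · intro h
      rw [h k (Nat.lt_succ_self k)]
      exact ih.mpr fun j hj => h j (Nat.lt_succ_of_lt hj)

theorem of_allBelow {n : ℕ} {p : ℕ → Bool} (h : allBelow n p = true) : ∀ k < n, p k = true :=
  (allBelow_iff n p).mp h

/-- accumulator loop for `countBelow` -/
def countGo (p : ℕ → Bool) (n : ℕ) : ℕ → ℕ :=
  Nat.rec (motive := fun _ => ℕ → ℕ) (fun acc => acc)
    (fun k ih acc => force (Bool.rec acc (acc + 1) (p k)) ih) n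

/-- number of `k < n` with `p k` -/
def countBelow (n : ℕ) (p : ℕ → Bool) : ℕ := countGo p n 0

theorem countGo_eq (n : ℕ) (p : ℕ → Bool) (acc : ℕ) :
    countGo p n acc = acc + ((Finset.range n).filter fun k => p k = true).card := by
  induction n generalizing acc with
  | zero => simp [countGo]
  | succ k ih =>
    have : countGo p (k + 1) acc = force (Bool.rec acc (acc + 1) (p k)) (countGo p k) := rfl
    rw [this, force_eq, ih, Finset.range_add_one, Finset.filter_insert]
    cases hp : p k with
    | false => simp
    | true =>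
      simp only [if_true]
      rw [Finset.card_insert_of_notMem (by simp)]
      omega

theorem countBelow_eq (n : ℕ) (p : ℕ → Bool) :
    countBelow n p = ((Finset.range n).filter fun k => p k = true).card := by
  rw [countBelow, countGo_eq, Nat.zero_add]

end Cfsg.Agent.Lib.Helper8
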