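import Cfsg.Agent.Lib.Helper8.Base1
import Cfsg.Agent.Lib.Helper8.Base2

set_option autoImplicit false

namespace Cfsg.Agent.Lib.Helper8

open Cfsg
open scoped Pointwise

theorem code_trans {s s' : Finset GolayPt}
    (hs : s ∈ supports (golayCode : Set (GolayPt → ZMod 2)))
    (hs' : s' ∈ supports (golayCode : Set (GolayPt → ZMod 2))) (h : s.card = s'.card) :
    ∃ g ∈ M24, g • s = s' := by
  obtain ⟨g, hg, hgs⟩ := codeOrb_trans orbM24 hs hs' (by
    intro a ha
    simp only [List.mem_singleton] at ha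
    rw [ha, card_inter_full, card_inter_full, h])
  exact ⟨g, hg.1, hgs⟩

theorem octad_trans {o o' : Finset GolayPt} (ho : o ∈ octads) (ho' : o' ∈ octads) :
    ∃ g ∈ M24, g • o = o' := code_trans ho.1 ho'.1 (ho.2.trans ho'.2.symm)

theorem dodecad_trans {o o' : Finset GolayPt} (ho : o ∈ dodecads) (ho' : o' ∈ dodecads) :
    ∃ g ∈ M24, g • o = o' := code_trans ho.1 ho'.1 (ho.2.trans ho'.2.symm)

theorem O0_mem : setOf 8536111 ∈ octads := setOf_mem_octads (by decide +kernel)
theorem O1_mem : setOf 8394986 ∈ octads := setOf_mem_octads (by decide +kernel)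
theorem O2_mem : setOf 5279 ∈ octads := setOf_mem_octads (by decide +kernel)
theorem D0_mem : setOf 340831 ∈ dodecads := setOf_mem_dodecads (by decide +kernel)
theorem D0c_mem : setOf 16436384 ∈ dodecads := setOf_mem_dodecads (by decide +kernel)

theorem norm_O {o : Finset GolayPt} (ho : o ∈ octads) : ∃ g ∈ M24, g • o = setOf 8536111 :=
  octad_trans ho O0_mem

theorem norm_D {d : Finset GolayPt} (hd : d ∈ dodecads) : ∃ g ∈ M24, g • d = setOf 340831 :=
  dodecad_trans hd D0_mem

/-- moving a point and a code word at the same time -/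
theorem norm_P_code {x : GolayPt} {s : Finset GolayPt}
    (hs : s ∈ supports (golayCode : Set (GolayPt → ZMod 2))) {m : ℕ}
    (hm : setOf m ∈ supports (golayCode : Set (GolayPt → ZMod 2))) (hc : s.card = (setOf m).card)
    (hx : x ∈ s ↔ pt 23 ∈ setOf m) : ∃ g ∈ M24, g x = pt 23 ∧ g • s = setOf m := by
  obtain ⟨g, hg, h1⟩ := move1 x
  have hx1 : pt 23 ∈ g • s ↔ pt 23 ∈ setOf m := by rw [← hx, ← h1, apply_mem_smul_iff]
  obtain ⟨k, hk, h2⟩ := codeOrb_trans orbP (smul_mem_supports hg hs) hm (by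
    intro a ha
    simp only [List.mem_cons, List.not_mem_nil, or_false] at ha
    rcases ha with rfl | rfl
    · rw [card_inter_full, card_inter_full, Finset.card_smul_finset, hc]
    · by_cases h : pt 23 ∈ setOf m
      · rw [card_inter_pt_of_mem (by norm_num) h, card_inter_pt_of_mem (by norm_num) (hx1.mpr h)]
      · rw [card_inter_pt_of_notMem (by norm_num) h,
          card_inter_pt_of_notMem (by norm_num) (fun h' => h (hx1.mp h'))])
  refine ⟨k * g, M24.mul_mem hk.1 hg, ?_, by rw [mul_smul, h2]⟩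
  rw [Equiv.Perm.mul_apply, h1, GInv_fix hk (by norm_num) (by simp)]

theorem iff_of_true' {a b : Prop} (ha : a) (hb : b) : a ↔ b := ⟨fun _ => hb, fun _ => ha⟩
theorem iff_of_false' {a b : Prop} (ha : ¬a) (hb : ¬b) : a ↔ b :=
  ⟨fun h => absurd h ha, fun h => absurd h hb⟩

theorem norm_PO_in {x : GolayPt} {o : Finset GolayPt} (ho : o ∈ octads) (hx : x ∈ o) :
    ∃ g ∈ M24, g x = pt 23 ∧ g • o = setOf 8536111 :=
  norm_P_code ho.1 O0_mem.1 (ho.2.trans O0_mem.2.symm)
    (iff_of_true' hx ((pt_mem_setOf (by norm_num) _).mpr (by decide)))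

theorem norm_PO_out {x : GolayPt} {o : Finset GolayPt} (ho : o ∈ octads) (hx : x ∉ o) :
    ∃ g ∈ M24, g x = pt 23 ∧ g • o = setOf 5279 :=
  norm_P_code ho.1 O2_mem.1 (ho.2.trans O2_mem.2.symm)
    (iff_of_false' hx (fun h => absurd ((pt_mem_setOf (by norm_num) _).mp h) (by decide)))

theorem norm_PD_in {x : GolayPt} {o : Finset GolayPt} (ho : o ∈ dodecads) (hx : x ∈ o) :
    ∃ g ∈ M24, g x = pt 23 ∧ g • o = setOf 16436384 :=
  norm_P_code ho.1 D0c_mem.1 (ho.2.trans D0c_mem.2.symm)
    (iff_of_true' hx ((pt_mem_setOf (by norm_num) _).mpr (by decide)))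

theorem norm_PD_out {x : GolayPt} {o : Finset GolayPt} (ho : o ∈ dodecads) (hx : x ∉ o) :
    ∃ g ∈ M24, g x = pt 23 ∧ g • o = setOf 340831 :=
  norm_P_code ho.1 D0_mem.1 (ho.2.trans D0_mem.2.symm)
    (iff_of_false' hx (fun h => absurd ((pt_mem_setOf (by norm_num) _).mp h) (by decide)))

/-- moving two points and a code word at the same time -/
theorem norm_PQ_code {x y : GolayPt} (hxy : x ≠ y) {s : Finset GolayPt}
    (hs : s ∈ supports (golayCode : Set (GolayPt → ZMod 2))) {m : ℕ}
    (hm : setOf m ∈ supports (golayCode : Set (GolayPt → ZMod 2))) (hc : s.card = (setOf m).card)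
    (hx : x ∈ s ↔ pt 23 ∈ setOf m) (hy : y ∈ s ↔ pt 0 ∈ setOf m) :
    ∃ g ∈ M24, g x = pt 23 ∧ g y = pt 0 ∧ g • s = setOf m := by
  obtain ⟨g, hg, h1, h1'⟩ := move2 hxy
  have hx1 : pt 23 ∈ g • s ↔ pt 23 ∈ setOf m := by rw [← hx, ← h1, apply_mem_smul_iff]
  have hy1 : pt 0 ∈ g • s ↔ pt 0 ∈ setOf m := by rw [← hy, ← h1', apply_mem_smul_iff]
  obtain ⟨k, hk, h2⟩ := codeOrb_trans orbPQ (smul_mem_supports hg hs) hm (by
    intro a ha
    simp only [List.mem_cons, List.not_mem_nil, or_false] at ha
    rcases ha with rfl | rfl | rfl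
    · rw [card_inter_full, card_inter_full, Finset.card_smul_finset, hc]
    · by_cases h : pt 23 ∈ setOf m
      · rw [card_inter_pt_of_mem (by norm_num) h, card_inter_pt_of_mem (by norm_num) (hx1.mpr h)]
      · rw [card_inter_pt_of_notMem (by norm_num) h,
          card_inter_pt_of_notMem (by norm_num) (fun h' => h (hx1.mp h'))]
    · by_cases h : pt 0 ∈ setOf m
      · rw [card_inter_pt_of_mem (by norm_num) h, card_inter_pt_of_mem (by norm_num) (hy1.mpr h)]
      · rw [card_inter_pt_of_notMem (by norm_num) h,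
          card_inter_pt_of_notMem (by norm_num) (fun h' => h (hy1.mp h'))])
  refine ⟨k * g, M24.mul_mem hk.1 hg, ?_, ?_, by rw [mul_smul, h2]⟩
  · rw [Equiv.Perm.mul_apply, h1, GInv_fix hk (by norm_num) (by simp)]
  · rw [Equiv.Perm.mul_apply, h1', GInv_fix hk (by norm_num) (by simp)]

/-! ### orders -/

theorem card_GInv_nil : Nat.card (GInv []) = 244823040 := by rw [GInv_nil, card_M24]

theorem card_P1 : Nat.card (GInv [2 ^ 23]) = 10200960 := by
  have h := level_card chain0
  rw [card_GInv_nil] at h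
  have e : popc 16777215 = 24 := by decide +kernel
  rw [e] at h
  omega

theorem card_P2 : Nat.card (GInv [2 ^ 0, 2 ^ 23]) = 443520 := by
  have h := level_card chain1
  rw [card_P1] at h
  have e : popc 8388607 = 23 := by decide +kernel
  rw [e] at h
  omega

theorem card_P3 : Nat.card (GInv [2 ^ 1, 2 ^ 0, 2 ^ 23]) = 20160 := by
  have h := level_card chain2
  rw [card_P2] at h
  have e : popc 8388606 = 22 := by decide +kernel
  rw [e] at h
  omega

theorem card_P4 : Nat.card (GInv [2 ^ 2, 2 ^ 1, 2 ^ 0, 2 ^ 23]) = 960 := by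
  have h := level_card chain3
  rw [card_P3] at h
  have e : popc 8388604 = 21 := by decide +kernel
  rw [e] at h
  omega

theorem card_P5 : Nat.card (GInv [2 ^ 3, 2 ^ 2, 2 ^ 1, 2 ^ 0, 2 ^ 23]) = 48 := by
  have h := level_card chain4
  rw [card_P4] at h
  have e : popc 8388600 = 20 := by decide +kernel
  rw [e] at h
  omega

theorem card_O : Nat.card (GInv [8536111]) = 322560 := by
  have h := codeOrb_card' orbM24 (prog := []) (by decide +kernel) (m := 8536111)
    (by decide +kernel) (by norm_num)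
  rw [card_GInv_nil] at h
  have e : countBelow 4096 (fun c => sameK [16777215] 8536111 (cwOf c)) = 759 := by decide +kernel
  rw [e] at h
  omega

theorem card_D : Nat.card (GInv [340831]) = 95040 := by
  have h := codeOrb_card' orbM24 (prog := []) (by decide +kernel) (m := 340831)
    (by decide +kernel) (by norm_num)
  rw [card_GInv_nil] at h
  have e : countBelow 4096 (fun c => sameK [16777215] 340831 (cwOf c)) = 2576 := by decide +kernel
  rw [e] at h
  omega

theorem card_PD : Nat.card (GInv [16436384, 2 ^ 23]) = 7920 := by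
  have h := codeOrb_card' orbP (prog := []) (by decide +kernel) (m := 16436384)
    (by decide +kernel) (by norm_num)
  rw [card_P1] at h
  have e : countBelow 4096 (fun c => sameK [16777215, 2 ^ 23] 16436384 (cwOf c)) = 1288 := by
    decide +kernel
  rw [e] at h
  omega

end Cfsg.Agent.Lib.Helper8
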