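import Mathlib

set_option autoImplicit false

namespace Cfsg.Agent.Lib.Helper8

open Subgroup

variable {G : Type*} [Group G] [Finite G]

theorem factorization_eq_one_of {p n : ℕ} (hp : p.Prime) (h1 : p ∣ n) (h2 : ¬ p ^ 2 ∣ n)
    (hn : n ≠ 0) : n.factorization p = 1 := by
  have ha : 1 ≤ n.factorization p := (hp.dvd_iff_one_le_factorization hn).mp h1
  have hb : ¬ 2 ≤ n.factorization p := fun h =>
    h2 ((hp.pow_dvd_iff_le_factorization hn).mpr h)
  omega

/-- the cyclic group generated by an element of order `p` as a Sylow subgroup, when `p ∥ |G|` -/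
noncomputable def sylZ {p : ℕ} [Fact p.Prime] (hp2 : ¬ p ^ 2 ∣ Nat.card G) {x : G}
    (hx : orderOf x = p) : Sylow p G :=
  Sylow.ofCard (zpowers x) (by
    rw [Nat.card_zpowers, hx, factorization_eq_one_of Fact.out (hx ▸ orderOf_dvd_natCard x) hp2
      Nat.card_pos.ne', pow_one])

theorem coe_sylZ {p : ℕ} [Fact p.Prime] (hp2 : ¬ p ^ 2 ∣ Nat.card G) {x : G}
    (hx : orderOf x = p) : (sylZ hp2 hx : Subgroup G) = zpowers x := Sylow.coe_ofCard _ _

theorem exists_conj_pow {p : ℕ} [Fact p.Prime] (hp2 : ¬ p ^ 2 ∣ Nat.card G) {x x' : G}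
    (hx : orderOf x = p) (hx' : orderOf x' = p) : ∃ (g : G) (j : ℤ), x = g * x' ^ j * g⁻¹ := by
  obtain ⟨g, hg⟩ := MulAction.exists_smul_eq G (sylZ hp2 hx') (sylZ hp2 hx)
  have h1 : x ∈ (sylZ hp2 hx : Subgroup G) := by rw [coe_sylZ]; exact mem_zpowers x
  rw [← hg, Sylow.smul_def, Sylow.pointwise_smul_def, coe_sylZ, Subgroup.pointwise_smul_def] at h1
  obtain ⟨y, hy, hyx⟩ := h1
  obtain ⟨j, rfl⟩ := mem_zpowers_iff.mp hy
  exact ⟨g, j, hyx.symm⟩

theorem card_mod_of_fpf {p : ℕ} [hp : Fact p.Prime] {x : G} (hx : orderOf x = p)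
    (hC : ∀ c : G, Commute c x → c ∈ zpowers x) (R : Subgroup G)
    (hR : ∀ n ∈ R, x * n * x⁻¹ ∈ R) (hcop : ¬ p ∣ Nat.card R) : Nat.card R % p = 1 := by
  classical
  have := Fintype.ofFinite R
  have hR' : ∀ n ∈ R, x⁻¹ * n * x ∈ R := by
    -- `x⁻¹ = x ^ (p - 1)`
    have hk : ∀ k : ℕ, ∀ n ∈ R, x ^ k * n * (x ^ k)⁻¹ ∈ R := by
      intro k
      induction k with
      | zero => intro n hn; simpa using hn
      | succ k ih =>
        intro n hn
        have := hR _ (ih n hn)
        have e : x ^ (k + 1) * n * (x ^ (k + 1))⁻¹ = x * (x ^ k * n * (x ^ k)⁻¹) * x⁻¹ := by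
          rw [pow_succ']; group
        rw [e]; exact this
    intro n hn
    have h1 : x ^ (p - 1) = x⁻¹ := by
      apply eq_inv_of_mul_eq_one_left
      rw [← pow_succ, Nat.sub_add_cancel hp.out.one_le, ← hx, pow_orderOf_eq_one]
    have := hk (p - 1) n hn
    rwa [h1, inv_inv] at this
  let σ : Equiv.Perm R :=
    ⟨fun n => ⟨x * n * x⁻¹, hR n n.2⟩, fun n => ⟨x⁻¹ * n * x, hR' n n.2⟩,
      fun n => by apply Subtype.ext; simp [mul_assoc],
      fun n => by apply Subtype.ext; simp [mul_assoc]⟩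
  have hpow : ∀ k : ℕ, ∀ n : R, (((σ ^ k) n : R) : G) = x ^ k * n * (x ^ k)⁻¹ := by
    intro k
    induction k with
    | zero => intro n; simp
    | succ k ih =>
      intro n
      rw [pow_succ', Equiv.Perm.mul_apply]
      show x * (((σ ^ k) n : R) : G) * x⁻¹ = _
      rw [ih, pow_succ']; group
  have hσ : σ ^ p ^ 1 = 1 := by
    ext n
    rw [pow_one, hpow, ← hx, pow_orderOf_eq_one]; simp
  have h1 := Equiv.Perm.card_compl_support_modEq hσ
  have h2 : σ.supportᶜ = {1} := by
    ext n
    simp only [Finset.mem_compl, Equiv.Perm.mem_support, not_not, Finset.mem_singleton]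
    constructor
    · intro h
      have h' : x * (n : G) * x⁻¹ = n := congrArg Subtype.val h
      have hc : Commute (n : G) x := by
        show (n : G) * x = x * n
        rw [mul_inv_eq_iff_eq_mul] at h'
        exact h'.symm
      have hz := hC _ hc
      -- order of `n` divides `p` and `|R|`
      have d1 : orderOf (n : G) ∣ p := by
        rw [← hx, ← Nat.card_zpowers x]
        have := orderOf_dvd_natCard (⟨(n : G), hz⟩ : zpowers x)
        rwa [← Subgroup.orderOf_coe] at this
      have d2 : orderOf (n : G) ∣ Nat.card R := by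
        rw [Subgroup.orderOf_coe]; exact orderOf_dvd_natCard n
      rcases (Nat.dvd_prime hp.out).mp d1 with h3 | h3
      · exact Subtype.ext (orderOf_eq_one_iff.mp h3)
      · exact absurd (h3 ▸ d2) hcop
    · rintro rfl
      apply Subtype.ext
      show x * ((1 : R) : G) * x⁻¹ = _
      simp
  rw [h2, Finset.card_singleton, ← Nat.card_eq_fintype_card] at h1
  have := h1.symm
  rw [Nat.ModEq, Nat.mod_eq_of_lt hp.out.one_lt] at this
  exact this

theorem eq_bot_of_not_dvd {p : ℕ} [hp : Fact p.Prime] {x : G} (hx : orderOf x = p)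
    (hp2 : ¬ p ^ 2 ∣ Nat.card G)
    (hC : ∀ c : G, Commute c x → c ∈ zpowers x)
    (harith : ∀ r k : ℕ, r.Prime → r ≠ p → 0 < k → r ^ k ∣ Nat.card G → r ^ k % p ≠ 1)
    (N : Subgroup G) [N.Normal] (hN : ¬ p ∣ Nat.card N) : N = ⊥ := by
  by_contra hne
  have hcard : Nat.card N ≠ 1 := fun h => hne (Subgroup.card_eq_one.mp h)
  set r := (Nat.card N).minFac with hr
  have hrp : r.Prime := Nat.minFac_prime hcard
  have : Fact r.Prime := ⟨hrp⟩
  have hrN : r ∣ Nat.card N := Nat.minFac_dvd _
  have hrne : r ≠ p := fun h => hN (h ▸ hrN)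
  obtain ⟨R⟩ : Nonempty (Sylow r N) := inferInstance
  set R' : Subgroup G := (R : Subgroup N).map N.subtype with hR'
  have hfr : normalizer (R' : Set G) ⊔ N = ⊤ := Sylow.normalizer_sup_eq_top R
  have hcR : Nat.card R' = r ^ (Nat.card N).factorization r := by
    rw [hR', Subgroup.card_map_of_injective N.subtype_injective, Sylow.card_eq_multiplicity]
  have hk : 0 < (Nat.card N).factorization r := hrp.factorization_pos_of_dvd Nat.card_pos.ne' hrN
  have hpA : p ∣ Nat.card (normalizer (R' : Set G)) := by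
    have h1 : N.relIndex (N ⊔ normalizer (R' : Set G)) = N.relIndex (normalizer (R' : Set G)) :=
      Subgroup.relIndex_sup_left _ _
    rw [sup_comm, hfr, Subgroup.relIndex_top_right] at h1
    have h2 : N.index ∣ Nat.card (normalizer (R' : Set G)) := h1 ▸ Subgroup.relIndex_dvd_card _ _
    have h3 : p ∣ Nat.card N * N.index := by
      rw [Subgroup.card_mul_index, ← hx]; exact orderOf_dvd_natCard x
    exact ((hp.out.dvd_mul.mp h3).resolve_left hN).trans h2
  obtain ⟨a, ha⟩ := exists_prime_orderOf_dvd_card' p hpA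
  have ha' : orderOf (a : G) = p := by rw [Subgroup.orderOf_coe]; exact ha
  obtain ⟨g, j, hgj⟩ := exists_conj_pow hp2 hx ha'
  set R'' := R'.map (MulAut.conj g).toMonoidHom with hR''
  have hinv : ∀ n ∈ R'', x * n * x⁻¹ ∈ R'' := by
    rintro _ ⟨n, hn, rfl⟩
    refine ⟨(a : G) ^ j * n * ((a : G) ^ j)⁻¹, ?_, ?_⟩
    · have : (a : G) ^ j ∈ normalizer (R' : Set G) := zpow_mem a.2 j
      exact (mem_normalizer_iff.mp this n).mp hn
    · simp only [MulEquiv.coe_toMonoidHom, MulAut.conj_apply, hgj]; group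
  have hc'' : Nat.card R'' = Nat.card R' :=
    Subgroup.card_map_of_injective (MulAut.conj g).injective
  have h1 := card_mod_of_fpf hx hC R'' hinv (by
    rw [hc'', hcR]; intro h
    exact hrne ((Nat.prime_dvd_prime_iff_eq hp.out hrp).mp (hp.out.dvd_of_dvd_pow h)).symm)
  exact harith r _ hrp hrne hk (by rw [← hcR]; exact Subgroup.card_subgroup_dvd_card R')
    (by rw [← hcR, ← hc'']; exact h1)

theorem simple_of_self_centralizing {p q : ℕ} [hp : Fact p.Prime] (hq : q.Prime)
    {x : G} (hx : orderOf x = p) (hp2 : ¬ p ^ 2 ∣ Nat.card G)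
    (hC : ∀ c : G, Commute c x → c ∈ zpowers x)
    (hNq : Nat.card (normalizer (zpowers x : Set G)) = p * q)
    (hbig : p * q < Nat.card G)
    (harith : ∀ r k : ℕ, r.Prime → r ≠ p → 0 < k → r ^ k ∣ Nat.card G → r ^ k % p ≠ 1) :
    IsSimpleGroup G := by
  have : Nontrivial G := by
    rw [← Finite.one_lt_card_iff_nontrivial]
    have := hp.out.pos
    have := hq.pos
    nlinarith
  refine ⟨fun N hN => ?_⟩
  by_cases hbot : N = ⊥
  · left; exact hbot
  right
  have hpN : p ∣ Nat.card N := by
    by_contra h; exact hbot (eq_bot_of_not_dvd hx hp2 hC harith N h)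
  obtain ⟨y, hy⟩ := exists_prime_orderOf_dvd_card' p hpN
  obtain ⟨g, j, hgj⟩ := exists_conj_pow hp2 hx (x' := (y : G))
    (by rw [Subgroup.orderOf_coe]; exact hy)
  have hxN : x ∈ N := by rw [hgj]; exact hN.conj_mem _ (N.zpow_mem y.2 j) g
  set P := sylZ hp2 hx with hP
  have hPc : (P : Subgroup G) = zpowers x := coe_sylZ hp2 hx
  have hPN : (P : Subgroup G) ≤ N := by rw [hPc, zpowers_le]; exact hxN
  have hfr : normalizer ((P : Subgroup G) : Set G) ⊔ N = ⊤ := Sylow.normalizer_sup_eq_top' P hPN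
  rw [hPc] at hfr
  set A := normalizer (zpowers x : Set G) with hA
  have hzA : zpowers x ≤ A := le_normalizer
  have hzB : zpowers x ≤ A ⊓ N := le_inf hzA (by rw [zpowers_le]; exact hxN)
  have d1 : p ∣ Nat.card (A ⊓ N : Subgroup G) := by
    have := Subgroup.card_dvd_of_le hzB
    rwa [Nat.card_zpowers, hx] at this
  have d2 : Nat.card (A ⊓ N : Subgroup G) ∣ p * q := hNq ▸ Subgroup.card_dvd_of_le inf_le_left
  obtain ⟨m, hm⟩ := d1
  rw [hm] at d2
  have hmq : m ∣ q := Nat.dvd_of_mul_dvd_mul_left hp.out.pos d2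
  rcases (Nat.dvd_prime hq).mp hmq with rfl | rfl
  · -- `N_N(P) = P`: Burnside
    exfalso
    have hB : A ⊓ N = zpowers x := by
      symm
      apply Subgroup.eq_of_le_of_card_ge hzB
      rw [hm, Nat.card_zpowers, hx, mul_one]
    set PN : Sylow p N := P.subtype hPN with hPNdef
    have hmemPN : ∀ n : N, n ∈ PN ↔ (n : G) ∈ zpowers x := by
      intro n
      rw [← hPc]
      exact Iff.rfl
    have hnc : normalizer ((PN : Subgroup N) : Set N) ≤ centralizer ((PN : Subgroup N) : Set N) := by
      intro n hn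
      have hnA : (n : G) ∈ A := by
        rw [hA, mem_normalizer_iff]
        intro z
        constructor
        · intro hz
          have hzN : z ∈ N := (zpowers_le.mpr hxN) hz
          have := (mem_normalizer_iff.mp hn ⟨z, hzN⟩).mp ((hmemPN _).mpr hz)
          exact (hmemPN _).mp this
        · intro hz
          have hzN : z ∈ N := by
            have h1 : (n : G) * z * (n : G)⁻¹ ∈ N := (zpowers_le.mpr hxN) hz
            have h2 := N.mul_mem (N.mul_mem (N.inv_mem n.2) h1) n.2
            have e : (n : G)⁻¹ * ((n : G) * z * (n : G)⁻¹) * (n : G) = z := by group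
            rwa [e] at h2
          have := (mem_normalizer_iff.mp hn ⟨z, hzN⟩).mpr ((hmemPN _).mpr hz)
          exact (hmemPN _).mp this
      have hnz : (n : G) ∈ zpowers x := by rw [← hB]; exact ⟨hnA, n.2⟩
      rw [mem_centralizer_iff]
      intro z hz
      have hz' : (z : G) ∈ zpowers x := (hmemPN z).mp hz
      obtain ⟨i, hi⟩ := mem_zpowers_iff.mp hnz
      obtain ⟨i', hi'⟩ := mem_zpowers_iff.mp hz'
      apply Subtype.ext
      show (z : G) * n = n * z
      rw [← hi, ← hi', ← zpow_add, ← zpow_add, add_comm]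
    set φ := MonoidHom.transferSylow PN hnc with hφ
    have hcompl := MonoidHom.ker_transferSylow_isComplement' PN hnc
    have hndvd := MonoidHom.not_dvd_card_ker_transferSylow PN hnc
    have hcPN : Nat.card PN = p := by
      have : Nat.card PN = Nat.card (zpowers x) := by
        apply Nat.card_congr
        exact ⟨fun n => ⟨(n : N), (hmemPN _).mp n.2⟩,
          fun z => ⟨⟨z, (zpowers_le.mpr hxN) z.2⟩, (hmemPN _).mpr z.2⟩,
          fun n => rfl, fun z => rfl⟩
      rw [this, Nat.card_zpowers, hx]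
    set M : Subgroup G := φ.ker.map N.subtype with hM
    have hcM : Nat.card M = Nat.card φ.ker := Subgroup.card_map_of_injective N.subtype_injective
    have hMn : M.Normal := by
      constructor
      rintro _ ⟨m, hm', rfl⟩ g
      have hyN : g * (m : G) * g⁻¹ ∈ N := hN.conj_mem _ m.2 g
      refine ⟨⟨_, hyN⟩, ?_, rfl⟩
      show (⟨_, hyN⟩ : N) ∈ φ.ker
      rw [MonoidHom.mem_ker]
      have o1 : orderOf (φ ⟨_, hyN⟩) ∣ orderOf (⟨_, hyN⟩ : N) := orderOf_map_dvd φ _
      have o2 : orderOf (⟨_, hyN⟩ : N) = orderOf m := by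
        rw [← Subgroup.orderOf_coe, ← Subgroup.orderOf_coe]
        show orderOf (g * (m : G) * g⁻¹) = _
        exact (MulAut.conj g).orderOf_eq (m : G)
      have o3 : orderOf m ∣ Nat.card φ.ker := by
        have := orderOf_dvd_natCard (⟨m, hm'⟩ : φ.ker)
        rwa [← Subgroup.orderOf_coe] at this
      have o4 : orderOf (φ ⟨_, hyN⟩) ∣ p := by
        have := orderOf_dvd_natCard (φ ⟨_, hyN⟩)
        rwa [hcPN] at this
      rcases (Nat.dvd_prime hp.out).mp o4 with h | h
      · exact orderOf_eq_one_iff.mp h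
      · rw [h, o2] at o1
        exact absurd (o1.trans o3) hndvd
    have hMbot : M = ⊥ := eq_bot_of_not_dvd hx hp2 hC harith M (by rw [hcM]; exact hndvd)
    have hker1 : Nat.card φ.ker = 1 := by rw [← hcM, hMbot, Subgroup.card_bot]
    have hcN : Nat.card N = p := by
      rw [← hcompl.card_mul_card, hker1, one_mul, hcPN]
    have hNz : zpowers x = N := by
      apply Subgroup.eq_of_le_of_card_ge (zpowers_le.mpr hxN)
      rw [hcN, Nat.card_zpowers, hx]
    have hAtop : A = ⊤ := by
      rw [hA, hNz]; exact Subgroup.normalizer_eq_top N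
    rw [hAtop, Subgroup.card_top] at hNq
    omega
  · have hB : A ⊓ N = A := by
      apply Subgroup.eq_of_le_of_card_ge inf_le_left
      rw [hm, hNq]
    have hAN : A ≤ N := inf_eq_left.mp hB
    rwa [sup_eq_right.mpr hAN] at hfr

theorem card_normalizer_of_self_centralizing {p : ℕ} [hp : Fact p.Prime] {x : G}
    (hx : orderOf x = p) (hp2 : ¬ p ^ 2 ∣ Nat.card G)
    (hC : ∀ c : G, Commute c x → c ∈ zpowers x) :
    ∃ m s, m ∣ p - 1 ∧ Nat.card (normalizer (zpowers x : Set G)) = p * m ∧
      Nat.card G = p * m * s ∧ s % p = 1 := by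
  set H := zpowers x with hH
  have hcH : Nat.card H = p := by rw [hH, Nat.card_zpowers, hx]
  have key := Subgroup.card_dvd_of_injective _ (QuotientGroup.kerLift_injective H.normalizerMonoidHom)
  rw [normalizerMonoidHom_ker, ← index, ← relIndex] at key
  have hcyc : IsCyclic H := by rw [hH]; infer_instance
  rw [hcyc.card_mulAut, hcH, Nat.totient_prime hp.out] at key
  have hcent : centralizer (H : Set G) = H := by
    apply le_antisymm
    · intro c hc
      apply hC
      exact (mem_centralizer_iff.mp hc x (mem_zpowers x)).symm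
    · intro c hc
      rw [mem_centralizer_iff]
      intro z hz
      obtain ⟨i, rfl⟩ := mem_zpowers_iff.mp hc
      obtain ⟨i', rfl⟩ := mem_zpowers_iff.mp hz
      rw [← zpow_add, ← zpow_add, add_comm]
  rw [hcent] at key
  have h1 : H.relIndex (normalizer (H : Set G)) * Nat.card H = Nat.card (normalizer (H : Set G)) := by
    have := Subgroup.relIndex_mul_relIndex ⊥ H (normalizer (H : Set G)) bot_le le_normalizer
    rw [Subgroup.relIndex_bot_left, Subgroup.relIndex_bot_left] at this
    rw [← this, mul_comm]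
  have h2 : Nat.card (Sylow p G) = (normalizer (((sylZ hp2 hx : Sylow p G) : Subgroup G) : Set G)).index :=
    Sylow.card_eq_index_normalizer (sylZ hp2 hx)
  rw [coe_sylZ] at h2
  have h3 : Nat.card (Sylow p G) ≡ 1 [MOD p] := card_sylow_modEq_one p G
  refine ⟨H.relIndex (normalizer (H : Set G)), (normalizer (H : Set G)).index, key, ?_, ?_, ?_⟩
  · rw [← h1, hcH, mul_comm]
  · rw [← Subgroup.card_mul_index (normalizer (H : Set G)), ← h1, hcH, mul_comm p]
  · rw [← h2]
    rw [Nat.ModEq, Nat.mod_eq_of_lt hp.out.one_lt] at h3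
    exact h3

end Cfsg.Agent.Lib.Helper8
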