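import Cfsg.Agent.Lib.Helper8.M12
import Cfsg.Agent.Lib.Helper8.Norm
import Cfsg.Agent.Lib.Helper8.SimpleCrit

set_option autoImplicit false

namespace Cfsg.Agent.Lib.Helper8

open Cfsg
open scoped Pointwise

/-- iterates of a table -/
def itT (T : ℕ) : ℕ → ℕ → ℕ
  | 0, j => j
  | e + 1, j => img T (itT T e j)

theorem itT_lt {T : ℕ} (h : validT T = true) {j : ℕ} (hj : j < 24) (e : ℕ) : itT T e j < 24 := by
  induction e with
  | zero => exact hj
  | succ e ih => exact img_lt h ih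

theorem toPerm_pow_pt {T : ℕ} (h : validT T = true) {j : ℕ} (hj : j < 24) (e : ℕ) :
    (toPerm T ^ e) (pt j) = pt (itT T e j) := by
  induction e with
  | zero => rfl
  | succ e ih => rw [pow_succ', Equiv.Perm.mul_apply, ih, toPerm_pt h (itT_lt h hj e)]; rfl

theorem commute_prop {T : ℕ} (h : validT T = true) {c : Equiv.Perm GolayPt}
    (hc : c * toPerm T = toPerm T * c) {s u : ℕ} (hs : s < 24) (hu : u < 24)
    (hsu : c (pt s) = pt u) (e : ℕ) : c (pt (itT T e s)) = pt (itT T e u) := by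
  induction e with
  | zero => exact hsu
  | succ e ih =>
    show c (pt (img T (itT T e s))) = pt (img T (itT T e u))
    rw [← toPerm_pt h (itT_lt h hs e), ← toPerm_pt h (itT_lt h hu e), ← ih]
    exact congrFun (congrArg DFunLike.coe hc) _

theorem img_ne_of_commute {T : ℕ} (h : validT T = true) {c : Equiv.Perm GolayPt}
    (hc : c * toPerm T = toPerm T * c) {s : ℕ} (hs : s < 24) (hne : img T s ≠ s) :
    img T (idx (c (pt s))) ≠ idx (c (pt s)) := by
  intro hu
  apply hne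
  have h1 : toPerm T (c (pt s)) = c (pt s) := by
    rw [toPerm_apply h, hu, pt_idx]
  have h2 : c (toPerm T (pt s)) = toPerm T (c (pt s)) := congrFun (congrArg DFunLike.coe hc) _
  rw [h1, toPerm_pt h hs] at h2
  have h3 := c.injective h2
  have := congrArg idx h3
  rwa [idx_pt (img_lt h hs), idx_pt hs] at this

theorem cent_of {L : List ℕ} {T : ℕ} (hT : invTest L T = true) {s : ℕ} (hs : s < 24)
    (h1 : ∀ c ∈ GInv L, c * toPerm T = toPerm T * c → ∃ e, c (pt s) = pt (itT T e s))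
    (h2 : ∀ c ∈ GInv L, (∀ e, c (pt (itT T e s)) = pt (itT T e s)) → c = 1) :
    ∀ c ∈ GInv L, c * toPerm T = toPerm T * c → ∃ e : ℕ, c = toPerm T ^ e := by
  intro c hc hcomm
  obtain ⟨hv, hX⟩ := toPerm_mem_GInv hT
  obtain ⟨e, he⟩ := h1 c hc hcomm
  refine ⟨e, ?_⟩
  have hc' : (toPerm T ^ e)⁻¹ * c ∈ GInv L := mul_mem (inv_mem (pow_mem hX e)) hc
  have hcomm' : (toPerm T ^ e)⁻¹ * c * toPerm T = toPerm T * ((toPerm T ^ e)⁻¹ * c) := by
    have h3 : Commute (toPerm T) ((toPerm T ^ e)⁻¹) := ((Commute.refl (toPerm T)).pow_right e).inv_right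
    rw [mul_assoc, hcomm, ← mul_assoc, ← mul_assoc, h3.eq]
  have hfix : ((toPerm T ^ e)⁻¹ * c) (pt s) = pt s := by
    rw [Equiv.Perm.mul_apply, he, ← toPerm_pow_pt hv hs e]; simp
  have := h2 _ hc' (fun i => commute_prop hv hcomm' hs hs hfix i)
  exact (inv_mul_eq_one.mp this).symm

theorem simple_GInv {L : List ℕ} {T p q n : ℕ} [hp : Fact p.Prime] (hq : q.Prime)
    (hT : invTest L T = true) (hn : Nat.card (GInv L) = n)
    (hord : allBelow 24 (fun j => Nat.beq (itT T p j) j) = true) {j0 : ℕ} (hj0 : j0 < 24)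
    (hne : img T j0 ≠ j0)
    (hC : ∀ c ∈ GInv L, c * toPerm T = toPerm T * c → ∃ e : ℕ, c = toPerm T ^ e)
    (hp2 : ¬ p ^ 2 ∣ n)
    (hm : ∀ m s, m ∣ p - 1 → n = p * m * s → s % p = 1 → m = q)
    (hbig : p * q < n)
    (harith : ∀ r k : ℕ, r.Prime → r ≠ p → 0 < k → r ^ k ∣ n → r ^ k % p ≠ 1) :
    IsSimpleGroup (GInv L) := by
  obtain ⟨hv, hX⟩ := toPerm_mem_GInv hT
  have hoX : orderOf (toPerm T) = p := by
    apply orderOf_eq_prime
    · ext x : 1
      rw [← pt_idx x, toPerm_pow_pt hv (idx_lt x),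
        Nat.eq_of_beq_eq_true (of_allBelow hord _ (idx_lt x))]
      rfl
    · intro h
      apply hne
      have := toPerm_pt hv hj0
      rw [h, Equiv.Perm.one_apply] at this
      have := congrArg idx this
      rw [idx_pt hj0, idx_pt (img_lt hv hj0)] at this
      exact this.symm
  set x : GInv L := ⟨toPerm T, hX⟩ with hx
  have hox : orderOf x = p := by rw [← hoX, ← Subgroup.orderOf_coe]
  have hCx : ∀ c : GInv L, Commute c x → c ∈ Subgroup.zpowers x := by
    intro c hc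
    obtain ⟨e, he⟩ := hC c c.2 (congrArg Subtype.val hc.eq)
    rw [Subgroup.mem_zpowers_iff]
    refine ⟨e, ?_⟩
    apply Subtype.ext
    rw [zpow_natCast, he]
    rfl
  have hp2' : ¬ p ^ 2 ∣ Nat.card (GInv L) := by rw [hn]; exact hp2
  obtain ⟨m, s, h1, h2, h3, h4⟩ := card_normalizer_of_self_centralizing hox hp2' hCx
  have hmq : m = q := hm m s h1 (hn ▸ h3) h4
  subst hmq
  exact simple_of_self_centralizing hq hox hp2' hCx h2 (by rw [hn]; exact hbig)
    (by rw [hn]; exact harith)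

end Cfsg.Agent.Lib.Helper8
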