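import Cfsg.Agent.Lib.Helper8.GList

set_option autoImplicit false

namespace Cfsg.Agent.Lib.Helper8

open Cfsg
open scoped Pointwise

def Th4 : ℕ := 17245574542909814142487754691873857
def TA11 : ℕ := 606831475540845686821192094583131712
def TB11 : ℕ := 476054983562986674867534103465691264
def U8a : ℕ := 724960942463723835700434986862191808
def U8b : ℕ := 984152626222834787761596723409002598
def invT12 : List ℕ := [297853012595550532289735591224488457, 965103652104144463782590445260998918, 984778947275340660717821982278781344, 724756710987418279858067208432530476, 309819573775293593295161594635891747, 980669342947961527871715639881643049, 969229369346576351140260673870729801, 984404615340628635531544718971832448, 895315753051310065218259353346352704, 984655815796685678630592355939485744, 470131810618993101226067891151020033, 965307259743426653693366607300446209]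
def invO12 : List ℕ := [1584464, 9462812, 13370381, 1084018, 3474978, 8798658, 10584520, 12747077, 542009, 13631886, 1687640, 8592704]
def extra12 : List ℕ := []
def coef12 : List ℕ := [2055, 2782, 3617, 2750, 2049, 1853, 1727, 3160, 25, 367, 3228, 570]

end Cfsg.Agent.Lib.Helper8
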