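import Cfsg.Agent.Lib.Helper8.Cls2
import Cfsg.Agent.Lib.Helper8.OutData12

set_option autoImplicit false

namespace Cfsg.Agent.Lib.Helper8

open Cfsg
open scoped Pointwise

theorem card_fixF_eq {σ : Equiv.Perm GolayPt} {f : ℕ → ℕ} (h : ∀ j < 24, σ (pt j) = pt (f j))
    (hf : ∀ j < 24, f j < 24) : (fixF σ).card = countBelow 24 (fun j => Nat.beq (f j) j) := by
  rw [countBelow_eq]
  apply Finset.card_bij (fun p _ => idx p)
  · intro p hp
    rw [Finset.mem_filter, Finset.mem_range]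
    refine ⟨idx_lt p, ?_⟩
    have h1 := h _ (idx_lt p)
    rw [pt_idx, mem_fixF.mp hp] at h1
    have h2 := congrArg idx h1
    rw [idx_pt (hf _ (idx_lt p))] at h2
    rw [← h2]; exact Nat.beq_refl _
  · intro a _ b _ e
    rw [← pt_idx a, ← pt_idx b, e]
  · intro j hj
    rw [Finset.mem_filter, Finset.mem_range] at hj
    refine ⟨pt j, ?_, idx_pt hj.1⟩
    rw [mem_fixF, h j hj.1, Nat.eq_of_beq_eq_true hj.2]

def cntFix (n Th T : ℕ) : ℕ := countBelow 24 (fun j => Nat.beq ((Ucomp Th T)^[n] j) j)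

theorem card_fixF_pow {Th T : ℕ} (hTh : validT Th = true) (hT : validT T = true) (n : ℕ) :
    (fixF ((toPerm Th * toPerm T) ^ n)).card = cntFix n Th T :=
  card_fixF_eq (fun _ hj => mul_pow_pt hTh hT hj n) (fun _ hj => iter_lt hTh hT hj n)

theorem powOK_of {Th T n : ℕ} (hTh : validT Th = true) (hT : validT T = true)
    (hpow : (toPerm Th * toPerm T) ^ n = 1) : powOK n Th T = true := by
  rw [powOK, allBelow_iff]
  intro j hj
  have h1 := mul_pow_pt hTh hT hj n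
  rw [hpow, Equiv.Perm.one_apply] at h1
  have h2 := congrArg idx h1
  rw [idx_pt hj, idx_pt (iter_lt hTh hT hj n)] at h2
  rw [← h2]; exact Nat.beq_refl _

/-- a check over a coset of the stabiliser of four points -/
theorem coset_forall {Th : ℕ} (P : Equiv.Perm GolayPt → Prop) (c : ℕ → Bool)
    (hc : ∀ T, validT T = true → c T = true → P (toPerm Th * toPerm T))
    (chk : allBelow 960 (fun i => c (getR 120 q960A i)) = true) :
    ∀ s ∈ GInv [2 ^ 2, 2 ^ 1, 2 ^ 0, 2 ^ 23], P (toPerm Th * s) := by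
  intro s hs
  obtain ⟨i, hi, rfl⟩ := list_complete card_P4 q960_mem q960_inc s hs
  have hv : validT (getR 120 q960A i) = true := by
    have := of_allBelow q960_mem i hi
    rw [invTestF_eq] at this
    exact (toPerm_mem_GInv this).1
  exact hc _ hv (of_allBelow chk i hi)

theorem Th4_mem : inM24 Th4 = true := by decide +kernel

theorem Th4_img : img Th4 23 = 0 ∧ img Th4 0 = 1 ∧ img Th4 1 = 2 ∧ img Th4 2 = 3 := by
  decide +kernel

theorem chk8 : allBelow 960 (fun i => !(powOK 8 Th4 (getR 120 q960A i)) ||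
    Nat.beq (cntFix 1 Th4 (getR 120 q960A i)) 2) = true := by decide +kernel

theorem chk6 : allBelow 960 (fun i => !(powOK 6 Th4 (getR 120 q960A i)) ||
    (Nat.beq (cntFix 2 Th4 (getR 120 q960A i)) 0 && Nat.beq (cntFix 3 Th4 (getR 120 q960A i)) 0) ||
    (Nat.beq (cntFix 2 Th4 (getR 120 q960A i)) 6 && Nat.beq (cntFix 3 Th4 (getR 120 q960A i)) 8))
      = true := by decide +kernel

theorem coset8 : ∀ s ∈ GInv [2 ^ 2, 2 ^ 1, 2 ^ 0, 2 ^ 23], (toPerm Th4 * s) ^ 8 = 1 →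
    (fixF (toPerm Th4 * s)).card = 2 := by
  have hv := validT_of_inM24 Th4_mem
  refine coset_forall (fun σ => σ ^ 8 = 1 → (fixF σ).card = 2)
    (fun T => !(powOK 8 Th4 T) || Nat.beq (cntFix 1 Th4 T) 2) ?_ chk8
  intro T hT hc hpow
  rw [powOK_of hv hT hpow] at hc
  simp only [Bool.not_true, Bool.false_or] at hc
  have := card_fixF_pow hv hT 1
  rw [pow_one] at this
  rw [this]; exact Nat.eq_of_beq_eq_true hc

theorem coset6 : ∀ s ∈ GInv [2 ^ 2, 2 ^ 1, 2 ^ 0, 2 ^ 23], (toPerm Th4 * s) ^ 6 = 1 →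
    ((fixF ((toPerm Th4 * s) ^ 2)).card = 0 ∧ (fixF ((toPerm Th4 * s) ^ 3)).card = 0) ∨
    ((fixF ((toPerm Th4 * s) ^ 2)).card = 6 ∧ (fixF ((toPerm Th4 * s) ^ 3)).card = 8) := by
  have hv := validT_of_inM24 Th4_mem
  refine coset_forall (fun σ => σ ^ 6 = 1 → ((fixF (σ ^ 2)).card = 0 ∧ (fixF (σ ^ 3)).card = 0) ∨
    ((fixF (σ ^ 2)).card = 6 ∧ (fixF (σ ^ 3)).card = 8))
    (fun T => !(powOK 6 Th4 T) || (Nat.beq (cntFix 2 Th4 T) 0 && Nat.beq (cntFix 3 Th4 T) 0) ||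
      (Nat.beq (cntFix 2 Th4 T) 6 && Nat.beq (cntFix 3 Th4 T) 8)) ?_ chk6
  intro T hT hc hpow
  rw [powOK_of hv hT hpow] at hc
  simp only [Bool.not_true, Bool.false_or, Bool.or_eq_true, Bool.and_eq_true, Nat.beq_eq] at hc
  rw [card_fixF_pow hv hT 2, card_fixF_pow hv hT 3]
  exact hc

/-- an element with a cycle of length at least five is conjugate into the coset -/
theorem to_coset4 {g : Equiv.Perm GolayPt} (hg : g ∈ M24) {p : GolayPt} (h1 : g p ≠ p)
    (h2 : g (g p) ≠ p) (h3 : g (g (g p)) ≠ p) (h4 : g (g (g (g p))) ≠ p) :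
    ∃ w ∈ M24, ∃ s ∈ GInv [2 ^ 2, 2 ^ 1, 2 ^ 0, 2 ^ 23], w * g * w⁻¹ = toPerm Th4 * s := by
  have i1 : ∀ {a b : GolayPt}, g a ≠ g b → a ≠ b := fun h e => h (by rw [e])
  have j1 : ∀ {a b : GolayPt}, a ≠ b → g a ≠ g b := fun h e => h (g.injective e)
  obtain ⟨w, hw, w0, w1, w2, w3, w4⟩ := move5 (x0 := p) (x1 := g p) (x2 := g (g p))
    (x3 := g (g (g p))) (x4 := g (g (g (g p)))) h1.symm h2.symm (j1 h1.symm) h3.symm (j1 h2.symm)
    (j1 (j1 h1.symm)) h4.symm (j1 h3.symm) (j1 (j1 h2.symm)) (j1 (j1 (j1 h1.symm)))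
  have hv := validT_of_inM24 Th4_mem
  set g' := w * g * w⁻¹ with hg'
  have hg'M : g' ∈ M24 := M24.mul_mem (M24.mul_mem hw hg) (M24.inv_mem hw)
  have a23 : g' (pt 23) = pt 0 := conj_map w0 rfl w1
  have a0 : g' (pt 0) = pt 1 := conj_map w1 rfl w2
  have a1 : g' (pt 1) = pt 2 := conj_map w2 rfl w3
  have a2 : g' (pt 2) = pt 3 := conj_map w3 rfl w4
  refine ⟨w, hw, (toPerm Th4)⁻¹ * g', mem_Q0_of (toPerm_mem_M24 Th4_mem) hg'M ?_ ?_ ?_ ?_, ?_⟩
  · rw [toPerm_pt hv (by norm_num), Th4_img.1, a23]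
  · rw [toPerm_pt hv (by norm_num), Th4_img.2.1, a0]
  · rw [toPerm_pt hv (by norm_num), Th4_img.2.2.1, a1]
  · rw [toPerm_pt hv (by norm_num), Th4_img.2.2.2, a2]
  · exact (mul_inv_cancel_left _ _).symm

theorem conj_pow' (w g : Equiv.Perm GolayPt) (n : ℕ) : (w * g * w⁻¹) ^ n = w * g ^ n * w⁻¹ :=
  conj_pow

theorem fix8 : ∀ u ∈ M24, orderOf u = 8 → (fixF u).card = 2 := by
  intro u hu ho
  have h8 : u ^ 8 = 1 := by rw [← ho]; exact pow_orderOf_eq_one u
  have h4 : u ^ 4 ≠ 1 := by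
    intro h
    have := orderOf_dvd_of_pow_eq_one h
    rw [ho] at this
    omega
  obtain ⟨p, hp⟩ : ∃ p, (u ^ 4) p ≠ p := by
    by_contra hn
    push Not at hn
    exact h4 (Equiv.ext hn)
  have e4 : (u ^ 4) p = u (u (u (u p))) := by
    simp [pow_succ, Equiv.Perm.mul_apply]
  have e8 : u (u (u (u (u (u (u (u p))))))) = p := by
    have : (u ^ 8) p = u (u (u (u (u (u (u (u p))))))) := by
      simp [pow_succ, Equiv.Perm.mul_apply]
    rw [← this, h8]; rfl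
  rw [e4] at hp
  have n1 : u p ≠ p := fun h => hp (by rw [h, h, h, h])
  have n2 : u (u p) ≠ p := fun h => hp (by rw [h, h])
  have n3 : u (u (u p)) ≠ p := by
    intro h
    apply n1
    have : u (u (u (u (u (u (u (u (u p)))))))) = p := by rw [h, h, h]
    exact (congrArg u e8).symm.trans this
  obtain ⟨w, hw, s, hs, e⟩ := to_coset4 hu n1 n2 n3 hp
  have := coset8 s hs (by rw [← e, conj_pow', h8]; group)
  rw [← e, card_fixF_conj] at this
  exact this

end Cfsg.Agent.Lib.Helper8
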