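import Cfsg.Agent.Lib.Helper8.PairsA
import Cfsg.Agent.Lib.Helper8.PairsB
import Cfsg.Agent.Lib.Helper8.PairsC

set_option autoImplicit false

namespace Cfsg.Agent.Lib.Helper8

open Cfsg
open scoped Pointwise

theorem sx_hmem : ∀ i < 1771, famOf (objL 6 sxA i) ∈ sextets :=
  fun i hi => (isSextetL_sound _ (of_allBelow sx_chk i hi)).2
theorem sx_hsurj : ∀ a ∈ sextets, ∃ i < 1771, famOf (objL 6 sxA i) = a := sextet_enum.2.1
theorem sx_hinj : ∀ i j, i < 1771 → j < 1771 → famOf (objL 6 sxA i) = famOf (objL 6 sxA j) → i = j :=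
  fam_inj_of_checks (fun l hl => (isSextetL_sound l hl).1) sx_chk sx_inc
theorem tr_hmem : ∀ i < 3795, famOf (objL 3 trA i) ∈ trios :=
  fun i hi => (isTrioL_sound _ (of_allBelow tr_chk i hi)).2
theorem tr_hsurj : ∀ a ∈ trios, ∃ i < 3795, famOf (objL 3 trA i) = a := trio_enum.2.1
theorem tr_hinj : ∀ i j, i < 3795 → j < 3795 → famOf (objL 3 trA i) = famOf (objL 3 trA j) → i = j :=
  fam_inj_of_checks (fun l hl => (isTrioL_sound l hl).1) tr_chk tr_inc

theorem card_stab_sx0 : Nat.card (MulAction.stabilizer M24 (famOf sx0)) = 138240 := by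
  rw [card_stab_M24, ← GInv_nil]; exact card_GFam_sx0

theorem card_stab_tr0 : Nat.card (MulAction.stabilizer M24 (famOf tr0)) = 64512 := by
  rw [card_stab_M24, ← GInv_nil]; exact card_GFam_tr0

theorem fam_hact (T : ℕ) (hT : validT T = true) (c : List ℕ) :
    famOf (actL T c) = toPerm T • famOf c := famOf_actL hT c

theorem fam_heqv (a b : List ℕ) (h : eqvL a b = true) : famOf a = famOf b := famOf_eq_of_eqvL h

theorem decomp_sx_sx : Decomp M24 (famOf sx0) sextets [1, 90, 240, 1440] :=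
  decomp_of_cert (famOf sx0) (famTest sx0) (famTest_sound sx0) sextets
    (fun _ hg _ ha => smul_mem_sextets hg ha) famOf actL eqvL fam_hact fam_heqv _ 1771 sx_hmem
    sx_hsurj sx_hinj sxsxTs sxsx_ts _ _ _ _ _ sxsx_cert _ sxsx_cls 138240 card_stab_sx0
    (by decide +kernel)

theorem decomp_tr_tr : Decomp M24 (famOf tr0) trios [1, 42, 56, 1008, 2688] :=
  decomp_of_cert (famOf tr0) (famTest tr0) (famTest_sound tr0) trios
    (fun _ hg _ ha => smul_mem_trios hg ha) famOf actL eqvL fam_hact fam_heqv _ 3795 tr_hmem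
    tr_hsurj tr_hinj trtrTs trtr_ts _ _ _ _ _ trtr_cert _ trtr_cls 64512 card_stab_tr0
    (by decide +kernel)

theorem decomp_oc_tr : Decomp M24 (setOf 8536111) trios [15, 420, 3360] :=
  decomp_of_cert (setOf 8536111) (maskTest 8536111) (maskTest_sound 8536111) trios
    (fun _ hg _ ha => smul_mem_trios hg ha) famOf actL eqvL fam_hact fam_heqv _ 3795 tr_hmem
    tr_hsurj tr_hinj octrTs octr_ts _ _ _ _ _ octr_cert _ octr_cls 322560 card_stab_O0
    (by decide +kernel)

theorem decomp_oc_sx : Decomp M24 (setOf 8536111) sextets [35, 840, 896] :=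
  decomp_of_cert (setOf 8536111) (maskTest 8536111) (maskTest_sound 8536111) sextets
    (fun _ hg _ ha => smul_mem_sextets hg ha) famOf actL eqvL fam_hact fam_heqv _ 1771 sx_hmem
    sx_hsurj sx_hinj ocsxTs ocsx_ts _ _ _ _ _ ocsx_cert _ ocsx_cls 322560 card_stab_O0
    (by decide +kernel)

theorem decomp_sx_oc : Decomp M24 (famOf sx0) octads [15, 360, 384] :=
  decomp_of_cert (famOf sx0) (famTest sx0) (famTest_sound sx0) octads
    (fun _ hg _ ha => smul_mem_octads hg ha) setOf applyMaskG Nat.beq mask_hact mask_heqv _ 759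
    oc_hmem oc_hsurj oc_hinj sxocTs sxoc_ts _ _ _ _ _ sxoc_cert _ sxoc_cls 138240 card_stab_sx0
    (by decide +kernel)

theorem decomp_sx_tr : Decomp M24 (famOf sx0) trios [15, 180, 720, 2880] :=
  decomp_of_cert (famOf sx0) (famTest sx0) (famTest_sound sx0) trios
    (fun _ hg _ ha => smul_mem_trios hg ha) famOf actL eqvL fam_hact fam_heqv _ 3795 tr_hmem
    tr_hsurj tr_hinj sxtrTs sxtr_ts _ _ _ _ _ sxtr_cert _ sxtr_cls 138240 card_stab_sx0
    (by decide +kernel)

theorem decomp_tr_oc : Decomp M24 (famOf tr0) octads [3, 84, 672] :=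
  decomp_of_cert (famOf tr0) (famTest tr0) (famTest_sound tr0) octads
    (fun _ hg _ ha => smul_mem_octads hg ha) setOf applyMaskG Nat.beq mask_hact mask_heqv _ 759
    oc_hmem oc_hsurj oc_hinj trocTs troc_ts _ _ _ _ _ troc_cert _ troc_cls 64512 card_stab_tr0
    (by decide +kernel)

theorem decomp_tr_sx : Decomp M24 (famOf tr0) sextets [7, 84, 336, 1344] :=
  decomp_of_cert (famOf tr0) (famTest tr0) (famTest_sound tr0) sextets
    (fun _ hg _ ha => smul_mem_sextets hg ha) famOf actL eqvL fam_hact fam_heqv _ 1771 sx_hmem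
    sx_hsurj sx_hinj trsxTs trsx_ts _ _ _ _ _ trsx_cert _ trsx_cls 64512 card_stab_tr0
    (by decide +kernel)

/-! ### arbitrary base objects -/

theorem exists_smul_sx0 {S : Finset (Finset GolayPt)} (hS : S ∈ sextets) :
    ∃ g : M24, g • famOf sx0 = S := by
  obtain ⟨g, hg, e⟩ := sextet_trans S hS
  exact ⟨⟨g, hg.1⟩, e⟩

theorem exists_smul_tr0 {S : Finset (Finset GolayPt)} (hS : S ∈ trios) :
    ∃ g : M24, g • famOf tr0 = S := by
  obtain ⟨g, hg, e⟩ := trio_trans S hS
  exact ⟨⟨g, hg.1⟩, e⟩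

theorem exists_smul_O0 {o : Finset GolayPt} (ho : o ∈ octads) :
    ∃ g : M24, g • setOf 8536111 = o := by
  obtain ⟨g, hg, e⟩ := octad_trans O0_mem ho
  exact ⟨⟨g, hg⟩, e⟩

theorem sextets_inv (g : M24) (a : Finset (Finset GolayPt)) : g • a ∈ sextets ↔ a ∈ sextets :=
  smul_mem_sextets_iff g.2
theorem trios_inv (g : M24) (a : Finset (Finset GolayPt)) : g • a ∈ trios ↔ a ∈ trios :=
  smul_mem_trios_iff g.2
theorem octads_inv (g : M24) (a : Finset GolayPt) : g • a ∈ octads ↔ a ∈ octads :=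
  smul_mem_octads_iff g.2

end Cfsg.Agent.Lib.Helper8
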