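import Cfsg.Agent.Lib.Helper8.Cls2
import Cfsg.Agent.Lib.Helper8.Decomps

set_option autoImplicit false

namespace Cfsg.Agent.Lib.Helper8

open Cfsg
open scoped Pointwise

theorem ncard_enum_filter {X : Type*} (A : Set X) (f : ℕ → X) (N : ℕ)
    (hmem : ∀ i < N, f i ∈ A) (hsurj : ∀ a ∈ A, ∃ i < N, f i = a)
    (hinj : ∀ i j, i < N → j < N → f i = f j → i = j)
    (Q : X → Prop) (q : ℕ → Bool) (hq : ∀ i < N, q i = true ↔ Q (f i)) :
    {a | a ∈ A ∧ Q a}.ncard = countBelow N q := by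
  have e : {a | a ∈ A ∧ Q a} =
      f '' (((Finset.range N).filter fun k => q k = true : Finset ℕ) : Set ℕ) := by
    ext a
    simp only [Set.mem_ofPred_eq, Set.mem_image, Finset.coe_filter, Finset.mem_range]
    constructor
    · rintro ⟨ha, hQ⟩
      obtain ⟨i, hi, rfl⟩ := hsurj a ha
      exact ⟨i, ⟨hi, (hq i hi).mpr hQ⟩, rfl⟩
    · rintro ⟨i, ⟨hi, hqi⟩, rfl⟩
      exact ⟨hmem i hi, (hq i hi).mp hqi⟩
  rw [e, Set.InjOn.ncard_image, Set.ncard_coe_finset, countBelow_eq]
  intro i hi j hj hij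
  simp only [Finset.coe_filter, Finset.mem_range, Set.mem_ofPred_eq] at hi hj
  exact hinj i j hi.1 hj.1 hij

theorem ncard_fix_conj {X : Type*} [MulAction (Equiv.Perm GolayPt) X] (A : Set X)
    {k : Equiv.Perm GolayPt} (hA : ∀ a, k • a ∈ A ↔ a ∈ A) (g : Equiv.Perm GolayPt) :
    {a | a ∈ A ∧ g • a = a}.ncard = {a | a ∈ A ∧ (k * g * k⁻¹) • a = a}.ncard := by
  rw [← ncard_smul_pred k (fun a => a ∈ A ∧ (k * g * k⁻¹) • a = a)]
  congr 1
  ext a
  simp only [Set.mem_ofPred_eq]
  rw [hA, mul_smul, mul_smul, inv_smul_smul, smul_left_cancel_iff]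

theorem eqvL_of_famOf_eq {l l' : List ℕ} (b : ∀ a ∈ l, a < 2 ^ 24) (b' : ∀ a ∈ l', a < 2 ^ 24)
    (e : famOf l = famOf l') : eqvL l l' = true := by
  rw [eqvL, Bool.and_eq_true, subL_iff, subL_iff]
  constructor
  · intro a ha
    have : setOf a ∈ famOf l' := by rw [← e]; exact mem_famOf.mpr ⟨a, ha, rfl⟩
    obtain ⟨c, hc, hca⟩ := mem_famOf.mp this
    rw [setOf_inj (b' c hc) (b a ha)] at hca
    rw [← hca]; exact hc
  · intro a ha
    have : setOf a ∈ famOf l := by rw [e]; exact mem_famOf.mpr ⟨a, ha, rfl⟩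
    obtain ⟨c, hc, hca⟩ := mem_famOf.mp this
    rw [setOf_inj (b c hc) (b' a ha)] at hca
    rw [← hca]; exact hc

theorem famTest_iff {T : ℕ} (hT : validT T = true) {l : List ℕ} (hl : sortedL l = true) :
    famTest l T = true ↔ toPerm T • famOf l = famOf l := by
  constructor
  · intro h
    rw [← famOf_actL hT]
    exact famOf_eq_of_eqvL h
  · intro h
    rw [← famOf_actL hT] at h
    apply eqvL_of_famOf_eq _ (sortedL_spec hl).2 h
    intro a ha
    obtain ⟨c, _, rfl⟩ := List.mem_map.mp ha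
    rw [applyMaskG_eq]
    exact applyMask_lt hT c

def fixMask (T m : ℕ) : Bool := Nat.beq (applyMaskG T m) (Nat.land m 16777215)

theorem fixMask_iff {T : ℕ} (hT : validT T = true) (m : ℕ) :
    fixMask T m = true ↔ toPerm T • setOf m = setOf m := by
  have e : setOf m = setOf (m &&& 16777215) := by
    rw [setOf_and, setOf_full, Finset.inter_univ]
  rw [toPerm_smul_setOf hT, fixMask, Nat.beq_eq, applyMaskG_eq]
  constructor
  · intro h
    rw [h]; exact e.symm
  · intro h
    refine (setOf_inj (applyMask_lt hT _) ?_).mp (h.trans e)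
    exact lt_of_le_of_lt Nat.and_le_right (by norm_num)

theorem fix_octads {T : ℕ} (hT : validT T = true) :
    {o : Finset GolayPt | o ∈ octads ∧ toPerm T • o = o}.ncard =
      countBelow 4096 (fun c => Nat.beq (popF (cwOf c)) 8 && fixMask T (cwOf c)) :=
  ncard_octads_filter _ _ (fixMask_iff hT)

theorem fix_dodecads {T : ℕ} (hT : validT T = true) :
    {o : Finset GolayPt | o ∈ dodecads ∧ toPerm T • o = o}.ncard =
      countBelow 4096 (fun c => Nat.beq (popF (cwOf c)) 12 && fixMask T (cwOf c)) :=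
  ncard_dodecads_filter _ _ (fixMask_iff hT)

theorem fix_sextets {T : ℕ} (hT : validT T = true) :
    {S : Finset (Finset GolayPt) | S ∈ sextets ∧ toPerm T • S = S}.ncard =
      countBelow 1771 (fun i => famTest (objL 6 sxA i) T) :=
  ncard_enum_filter sextets (fun i => famOf (objL 6 sxA i)) 1771 sx_hmem sx_hsurj sx_hinj _ _
    (fun i hi => famTest_iff hT (isSextetL_sound _ (of_allBelow sx_chk i hi)).1)

theorem fix_trios {T : ℕ} (hT : validT T = true) :
    {S : Finset (Finset GolayPt) | S ∈ trios ∧ toPerm T • S = S}.ncard =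
      countBelow 3795 (fun i => famTest (objL 3 trA i) T) :=
  ncard_enum_filter trios (fun i => famOf (objL 3 trA i)) 3795 tr_hmem tr_hsurj tr_hinj _ _
    (fun i hi => famTest_iff hT (isTrioL_sound _ (of_allBelow tr_chk i hi)).1)

theorem oct_R2A_cnt : {o : Finset GolayPt | o ∈ octads ∧ toPerm R2A • o = o}.ncard = 71 := by
  rw [fix_octads (validT_of_inM24 R2A_mem)]; decide +kernel
theorem oct_R2B_cnt : {o : Finset GolayPt | o ∈ octads ∧ toPerm R2B • o = o}.ncard = 15 := by
  rw [fix_octads (validT_of_inM24 R2B_mem)]; decide +kernel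
theorem oct_R3A_cnt : {o : Finset GolayPt | o ∈ octads ∧ toPerm R3A • o = o}.ncard = 21 := by
  rw [fix_octads (validT_of_inM24 R3A_mem)]; decide +kernel
theorem dod_R3A_cnt : {o : Finset GolayPt | o ∈ dodecads ∧ toPerm R3A • o = o}.ncard = 20 := by
  rw [fix_dodecads (validT_of_inM24 R3A_mem)]; decide +kernel

theorem sx_R2A_cnt :
    {S : Finset (Finset GolayPt) | S ∈ sextets ∧ toPerm R2A • S = S}.ncard = 91 := by
  rw [fix_sextets (validT_of_inM24 R2A_mem)]; decide +kernel
theorem sx_R2B_cnt :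
    {S : Finset (Finset GolayPt) | S ∈ sextets ∧ toPerm R2B • S = S}.ncard = 51 := by
  rw [fix_sextets (validT_of_inM24 R2B_mem)]; decide +kernel
theorem sx_R3A_cnt :
    {S : Finset (Finset GolayPt) | S ∈ sextets ∧ toPerm R3A • S = S}.ncard = 16 := by
  rw [fix_sextets (validT_of_inM24 R3A_mem)]; decide +kernel
theorem sx_R3B_cnt :
    {S : Finset (Finset GolayPt) | S ∈ sextets ∧ toPerm R3B • S = S}.ncard = 7 := by
  rw [fix_sextets (validT_of_inM24 R3B_mem)]; decide +kernel

theorem tr_R2A_cnt :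
    {S : Finset (Finset GolayPt) | S ∈ trios ∧ toPerm R2A • S = S}.ncard = 99 := by
  rw [fix_trios (validT_of_inM24 R2A_mem)]; decide +kernel
theorem tr_R2B_cnt :
    {S : Finset (Finset GolayPt) | S ∈ trios ∧ toPerm R2B • S = S}.ncard = 75 := by
  rw [fix_trios (validT_of_inM24 R2B_mem)]; decide +kernel
theorem tr_R3A_cnt :
    {S : Finset (Finset GolayPt) | S ∈ trios ∧ toPerm R3A • S = S}.ncard = 15 := by
  rw [fix_trios (validT_of_inM24 R3A_mem)]; decide +kernel
theorem tr_R3B_cnt :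
    {S : Finset (Finset GolayPt) | S ∈ trios ∧ toPerm R3B • S = S}.ncard = 15 := by
  rw [fix_trios (validT_of_inM24 R3B_mem)]; decide +kernel

/-- conjugators to the representatives, by the number of fixed points -/
theorem to_R2A {g : Equiv.Perm GolayPt} (hg : g ∈ M24) (h2 : orderOf g = 2) (hf : fixF g ≠ ∅) :
    ∃ k ∈ M24, k * g * k⁻¹ = toPerm R2A := by
  obtain ⟨k, hk, h | h⟩ := inv_class hg h2
  · exact ⟨k, hk, h⟩
  · exact absurd (by rw [fixF_of_conj h, fix_R2B, Finset.smul_finset_empty]) hf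

theorem to_R2B {g : Equiv.Perm GolayPt} (hg : g ∈ M24) (h2 : orderOf g = 2) (hf : fixF g = ∅) :
    ∃ k ∈ M24, k * g * k⁻¹ = toPerm R2B := by
  obtain ⟨k, hk, h | h⟩ := inv_class hg h2
  · exfalso
    rw [fixF_of_conj h, fix_R2A, Finset.smul_finset_eq_empty] at hf
    have := congrArg Finset.card hf
    rw [card_setOf] at this
    revert this; decide +kernel
  · exact ⟨k, hk, h⟩

theorem to_R3A {g : Equiv.Perm GolayPt} (hg : g ∈ M24) (h3 : orderOf g = 3) (hf : fixF g ≠ ∅) :
    ∃ k ∈ M24, k * g * k⁻¹ = toPerm R3A := by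
  obtain ⟨k, hk, h | h⟩ := ord3_class hg h3
  · exact ⟨k, hk, h⟩
  · exact absurd (by rw [fixF_of_conj h, fix_R3B, Finset.smul_finset_empty]) hf

theorem to_R3B {g : Equiv.Perm GolayPt} (hg : g ∈ M24) (h3 : orderOf g = 3) (hf : fixF g = ∅) :
    ∃ k ∈ M24, k * g * k⁻¹ = toPerm R3B := by
  obtain ⟨k, hk, h | h⟩ := ord3_class hg h3
  · exfalso
    rw [fixF_of_conj h, fix_R3A, Finset.smul_finset_eq_empty] at hf
    have := congrArg Finset.card hf
    rw [card_setOf] at this
    revert this; decide +kernel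
  · exact ⟨k, hk, h⟩

theorem cnt_octads {g k R : Equiv.Perm GolayPt} (hk : k ∈ M24) (e : k * g * k⁻¹ = R) :
    {o : Finset GolayPt | o ∈ octads ∧ g • o = o}.ncard =
      {o : Finset GolayPt | o ∈ octads ∧ R • o = o}.ncard := by
  rw [← e]; exact ncard_fix_conj octads (fun _ => smul_mem_octads_iff hk) g

theorem cnt_dodecads {g k R : Equiv.Perm GolayPt} (hk : k ∈ M24) (e : k * g * k⁻¹ = R) :
    {o : Finset GolayPt | o ∈ dodecads ∧ g • o = o}.ncard =
      {o : Finset GolayPt | o ∈ dodecads ∧ R • o = o}.ncard := by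
  rw [← e]; exact ncard_fix_conj dodecads (fun _ => smul_mem_dodecads_iff hk) g

theorem cnt_sextets {g k R : Equiv.Perm GolayPt} (hk : k ∈ M24) (e : k * g * k⁻¹ = R) :
    {o : Finset (Finset GolayPt) | o ∈ sextets ∧ g • o = o}.ncard =
      {o : Finset (Finset GolayPt) | o ∈ sextets ∧ R • o = o}.ncard := by
  rw [← e]; exact ncard_fix_conj sextets (fun _ => smul_mem_sextets_iff hk) g

theorem cnt_trios {g k R : Equiv.Perm GolayPt} (hk : k ∈ M24) (e : k * g * k⁻¹ = R) :
    {o : Finset (Finset GolayPt) | o ∈ trios ∧ g • o = o}.ncard =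
      {o : Finset (Finset GolayPt) | o ∈ trios ∧ R • o = o}.ncard := by
  rw [← e]; exact ncard_fix_conj trios (fun _ => smul_mem_trios_iff hk) g

end Cfsg.Agent.Lib.Helper8
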