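import Cfsg.Agent.Lib.Helper8.GList

set_option autoImplicit false

namespace Cfsg.Agent.Lib.Helper8

open Cfsg
open scoped Pointwise

theorem o16lev : levelCheck [2 ^ 0, 2 ^ 1, 2 ^ 2, 2 ^ 3, 2 ^ 5, 2 ^ 14, 2 ^ 17, 2 ^ 23] [966182099583441531322624363496310816, 980224387687010295957922729495201824, 976448692869377735270425038196672544, 981818691054096003685363657089320992] [(1, 0, 1), (1, 9, 2), (1, 10, 3), (1, 11, 4), (1, 12, 5), (1, 13, 6), (1, 14, 7), (1, 15, 8)] 4 8241104
    26136900408481419555080250564018176 950442426616897254146965504 5236784713391222003890679472717824 = true := by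
  decide +kernel

theorem o16rig : rigidCheck [2 ^ 4, 2 ^ 0, 2 ^ 1, 2 ^ 2, 2 ^ 3, 2 ^ 5, 2 ^ 14, 2 ^ 17, 2 ^ 23] [(1, 0, 1), (1, 10, 2), (1, 11, 3), (1, 12, 4), (1, 13, 5), (1, 14, 6), (1, 15, 7), (1, 16, 8), (1, 17, 9), (1, 1, 2), (1, 19, 3), (1, 20, 4), (1, 21, 5), (2, 22, 5279), (0, 18, 23), (1, 18, 24), (1, 2, 6), (1, 26, 24), (2, 27, 15777), (0, 25, 28), (1, 25, 29), (1, 2, 3), (1, 31, 29), (2, 32, 5286147), (0, 30, 33), (1, 30, 34), (1, 2, 4), (1, 36, 29), (2, 37, 2173253), (0, 35, 38), (1, 35, 39), (1, 2, 7), (1, 41, 24), (2, 42, 6837377), (0, 34, 43), (1, 34, 44), (0, 39, 43), (1, 39, 46), (0, 40, 43), (1, 40, 48), (1, 1, 44), (1, 50, 24), (2, 51, 4202192), (0, 29, 52), (1, 29, 53), (0, 47, 52), (1, 47, 55), (0, 49, 52), (1, 49, 57), (1, 21, 7), (2, 59, 1065303), (0, 54, 60), (1, 54, 61), (0, 45, 60), (1, 45, 63), (1, 20, 6), (1, 65, 7), (2, 66, 4216883), (0, 24, 67), (1, 24, 68), (1, 65, 8), (2, 70, 1188915), (0, 69, 71), (1, 69, 72)] = true := by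
  decide +kernel

def o16A : ℕ := 70363637220314119334749784548876273346997952784969242510753274962415452916460501560556043135856002193000618630498827077904631216344203356212025804388180169045013609302002762051962072105552354749677379796249626445619890984306182549259123064660595191545183897988567438557096295893744752997602038214863609640152318016279082773997825893229786900446083414583117709486876984773591981410689958245793660341756366516415143815908899168990226190532413298022702787968031905339052261184086370451720292257292846362684364059153737907088782797940078749248430295259617320450098632833131041884192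

theorem o16_mem : allBelow 16 (fun i => invTestF [2 ^ 0, 2 ^ 1, 2 ^ 2, 2 ^ 3, 2 ^ 5, 2 ^ 14, 2 ^ 17, 2 ^ 23] (getR 120 o16A i)) = true := by
  decide +kernel

theorem o16_inc : incCheck (getR 120 o16A) 16 = true := by
  decide +kernel

def fix6A : ℕ := 685715739696193671152507749728803467990514153013659440922270644183074039400165930380454848994410619175337183553607515322732238087495488914235927157425715750401119845483381273785150023232588837008548432861276741004012129373333698705863749752599335313427340344104833410822431465929655070420363473003905811952458683192833580636756216137122959213863423410847936983717095516087885356218949216634731655783431605679228390304963373217176201388228620253165285073585191524535502080320798620095034659850158510341975679922119686036087966945996772710074600783456608364389534596736946442870103718665852872114163231532738603007067677491056814705576116937265992089972333901027342695850204824414990766723822309188424554781655825653637414302739375415688047199767928487840548347484335126055917182667614934041415019528800460552072439379678155035651942968232899713502721645021944107599904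

theorem fix6_check : allBelow 24 (fun j => (8388623 : ℕ).testBit j || (invTestF [2 ^ j, 2 ^ 3, 2 ^ 2, 2 ^ 1, 2 ^ 0, 2 ^ 23] (getR 120 fix6A j) && movesT (getR 120 fix6A j))) = true := by
  decide +kernel

end Cfsg.Agent.Lib.Helper8
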