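import Cfsg.Agent.Lib.Helper8.LeechGen
import Cfsg.Agent.Lib.Helper8.Norm

set_option autoImplicit false

namespace Cfsg.Agent.Lib.Helper8

open Cfsg
open scoped Pointwise

theorem octB_isOct : octB.all isOct = true := by decide +kernel

/-- every code support is a symmetric difference of octads -/
theorem CS_induction (P : Finset GolayPt → Prop) (h0 : P ∅)
    (hx : ∀ a b, P a → P b → P (symmDiff a b)) (ho : ∀ o ∈ octads, P o)
    {A : Finset GolayPt} (hA : A ∈ CS) : P A := by
  have P0 : P (setOf 0) := by rw [setOf_zero]; exact h0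
  have Px : ∀ a b, P (setOf a) → P (setOf b) → P (setOf (a ^^^ b)) := by
    intro a b h1 h2
    rw [setOf_xor]
    exact hx _ _ h1 h2
  have Poct : ∀ b ∈ octB, P (setOf b) := by
    intro b hb
    exact ho _ (setOf_mem_octads (List.all_eq_true.mp octB_isOct _ hb))
  have Pbasis : ∀ b ∈ basisL, P (setOf b) := by
    intro b hb
    obtain ⟨i, hi, rfl⟩ := List.getElem_of_mem hb
    have hi' : i < octCoef.length := hi
    have hz : (basisL[i], octCoef[i]) ∈ basisL.zip octCoef := by
      have : (basisL.zip octCoef)[i]'(by simp [List.length_zip]; exact ⟨hi, hi'⟩) =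
        (basisL[i], octCoef[i]) := List.getElem_zip
      rw [← this]; exact List.getElem_mem _
    have := Nat.eq_of_beq_eq_true (List.all_eq_true.mp octB_span _ hz)
    have h2 := xorSel_induction (fun a => P (setOf a)) P0 Px octB Poct octCoef[i]
    rw [show xorSel octB octCoef[i] = basisL[i] from this] at h2
    exact h2
  obtain ⟨c, _, rfl⟩ := exists_of_mem_supports hA
  exact xorSel_induction (fun a => P (setOf a)) P0 Px basisL Pbasis c

theorem smul_symmDiff' (g : Equiv.Perm GolayPt) (a b : Finset GolayPt) :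
    g • symmDiff a b = symmDiff (g • a) (g • b) := by
  ext p
  simp only [Finset.mem_symmDiff, ← Finset.inv_smul_mem_iff]

theorem M24_eq_octAut : M24 = setSystemAut octads := by
  ext g
  constructor
  · intro hg
    have hg' : g • CS = CS := hg
    show g • octads = octads
    have key : ∀ h : Equiv.Perm GolayPt, h • CS = CS → h • octads ⊆ octads := by
      rintro h hh _ ⟨o, ho, rfl⟩
      refine ⟨?_, ?_⟩
      · show h • o ∈ CS
        rw [← hh]; exact ⟨o, ho.1, rfl⟩
      · show (h • o).card = 8
        rw [Finset.card_smul_finset]; exact ho.2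
    apply Set.Subset.antisymm (key g hg')
    have h2 : g⁻¹ • CS = CS := by
      conv_lhs => rw [← hg']
      rw [inv_smul_smul]
    have := key g⁻¹ h2
    intro o ho
    exact ⟨g⁻¹ • o, this ⟨o, ho, rfl⟩, by simp⟩
  · intro hg
    have hg' : g • octads = octads := hg
    show g • CS = CS
    have key : ∀ h : Equiv.Perm GolayPt, h • octads = octads → h • CS ⊆ CS := by
      rintro h hh _ ⟨A, hA, rfl⟩
      show h • A ∈ CS
      refine CS_induction (fun A => h • A ∈ CS) ?_ ?_ ?_ hA
      · simpa using empty_mem_CS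
      · intro a b ha hb
        rw [smul_symmDiff']
        exact symmDiff_mem_supports ha hb
      · intro o ho
        have : h • o ∈ octads := by rw [← hh]; exact ⟨o, ho, rfl⟩
        exact this.1
    apply Set.Subset.antisymm (key g hg')
    have h2 : g⁻¹ • octads = octads := by
      conv_lhs => rw [← hg']
      rw [inv_smul_smul]
    have := key g⁻¹ h2
    intro o ho
    exact ⟨g⁻¹ • o, this ⟨o, ho, rfl⟩, by simp⟩

theorem support₂_add (v w : GolayPt → ZMod 2) :
    support₂ (v + w) = symmDiff (support₂ v) (support₂ w) := by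
  ext p
  simp only [support₂, Finset.mem_filter, Finset.mem_univ, true_and, Finset.mem_symmDiff,
    Pi.add_apply]
  rcases zmod2_cases (v p) with h | h <;> rcases zmod2_cases (w p) with h' | h' <;>
    simp [h, h'] <;> decide

theorem support₂_perm (σ : Equiv.Perm GolayPt) (w : GolayPt → ZMod 2) :
    support₂ (fun p => w (σ.symm p)) = σ • support₂ w := by
  ext p
  rw [← Finset.inv_smul_mem_iff]
  simp only [support₂, Finset.mem_filter, Finset.mem_univ, true_and]
  rfl

theorem D1_mem : setOf 12739422 ∈ dodecads := setOf_mem_dodecads (by decide +kernel)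
theorem O3_mem : setOf 13062145 ∈ octads := setOf_mem_octads (by decide +kernel)
theorem D0_D1 : symmDiff (setOf 340831) (setOf 12739422) = setOf 13062145 := by
  rw [← setOf_xor]; rfl

theorem golay_irred (W : Submodule (ZMod 2) (GolayPt → ZMod 2))
    (h1 : (fun _ => (1 : ZMod 2)) ∈ W) (hW : W ≤ golayCode)
    (hinv : ∀ σ ∈ M24, ∀ w ∈ W, (fun p => w (σ.symm p)) ∈ W) :
    W = Submodule.span (ZMod 2) {fun _ => (1 : ZMod 2)} ∨ W = golayCode := by
  set SW : Set (Finset GolayPt) := support₂ '' (W : Set (GolayPt → ZMod 2)) with hSW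
  have hS0 : (∅ : Finset GolayPt) ∈ SW := ⟨0, W.zero_mem, by simp [support₂]⟩
  have hS1 : (Finset.univ : Finset GolayPt) ∈ SW := ⟨_, h1, by simp [support₂]⟩
  have hSx : ∀ a b, a ∈ SW → b ∈ SW → symmDiff a b ∈ SW := by
    rintro _ _ ⟨v, hv, rfl⟩ ⟨w, hw, rfl⟩
    exact ⟨v + w, W.add_mem hv hw, support₂_add v w⟩
  have hSg : ∀ σ ∈ M24, ∀ a ∈ SW, σ • a ∈ SW := by
    rintro σ hσ _ ⟨w, hw, rfl⟩
    exact ⟨_, hinv σ hσ w hw, support₂_perm σ w⟩
  have hSC : SW ⊆ CS := by
    rintro _ ⟨w, hw, rfl⟩
    exact ⟨w, hW hw, rfl⟩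
  have full : (∃ o ∈ octads, o ∈ SW) → W = golayCode := by
    rintro ⟨o, ho, hoS⟩
    apply le_antisymm hW
    intro w hw
    have hA : support₂ w ∈ CS := ⟨w, hw, rfl⟩
    have : support₂ w ∈ SW := by
      refine CS_induction (fun A => A ∈ SW) hS0 hSx ?_ hA
      intro o' ho'
      obtain ⟨g, hg, rfl⟩ := octad_trans ho ho'
      exact hSg g hg o hoS
    obtain ⟨w', hw', h⟩ := this
    rw [← support₂_injective h]; exact hw'
  by_cases hall : ∀ A ∈ SW, A = ∅ ∨ A = Finset.univ
  · left
    apply le_antisymm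
    · intro w hw
      rcases hall _ ⟨w, hw, rfl⟩ with h | h
      · have : w = 0 := support₂_injective (h.trans (by simp [support₂]))
        rw [this]; exact Submodule.zero_mem _
      · have : w = fun _ => (1 : ZMod 2) := support₂_injective (h.trans (by simp [support₂]))
        rw [this]; exact Submodule.subset_span rfl
    · rw [Submodule.span_le]
      rintro _ rfl
      exact h1
  · right
    push Not at hall
    obtain ⟨A, hA, hA0, hA1⟩ := hall
    have hAC := hSC hA
    rcases card_of_mem_supports hAC with h | h | h | h | h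
    · exact absurd (Finset.card_eq_zero.mp h) hA0.ne_empty
    · exact full ⟨A, ⟨hAC, h⟩, hA⟩
    · apply full
      have hD : A ∈ dodecads := ⟨hAC, h⟩
      obtain ⟨g, hg, hg0⟩ := dodecad_trans hD D0_mem
      obtain ⟨g', hg', hg1⟩ := dodecad_trans hD D1_mem
      refine ⟨_, O3_mem, ?_⟩
      rw [← D0_D1, ← hg0, ← hg1]
      exact hSx _ _ (hSg g hg A hA) (hSg g' hg' A hA)
    · apply full
      refine ⟨Aᶜ, ⟨compl_mem_CS hAC, ?_⟩, ?_⟩
      · rw [Finset.card_compl, h]; simp [GolayPt, Fintype.card_option, ZMod.card]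
      · have := hSx _ _ hA hS1
        rwa [← Finset.top_eq_univ, symmDiff_top] at this
    · exact absurd ((Finset.card_eq_iff_eq_univ A).mp (h.trans card_pts.symm)) hA1

end Cfsg.Agent.Lib.Helper8
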