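import Cfsg.Agent.Lib.Helper8.Perm

set_option autoImplicit false

namespace Cfsg.Agent.Lib.Helper8

open Cfsg
open scoped Pointwise

def Talpha : ℕ := 956302485175575353788796878166559809
def Tgamma : ℕ := 1795248432537898728475572672376535
def Tdelta : ℕ := 974380510768821363662145534143076928

theorem inM24_alpha : inM24 Talpha = true := by decide +kernel
theorem inM24_gamma : inM24 Tgamma = true := by decide +kernel
theorem inM24_delta : inM24 Tdelta = true := by decide +kernel

theorem alpha_eq : Equiv.optionCongr (Equiv.addRight (1 : ZMod 23)) = toPerm Talpha := by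
  apply eq_toPerm (validT_of_inM24 inM24_alpha)
  decide +kernel

theorem gamma_eq : projInv = toPerm Tgamma := by
  apply eq_toPerm (validT_of_inM24 inM24_gamma)
  decide +kernel

theorem delta_eq : cubeTwist = toPerm Tdelta := by
  apply eq_toPerm (validT_of_inM24 inM24_delta)
  have : ∀ p, cubeTwistFun p = pt (img Tdelta (idx p)) := by decide +kernel
  exact this

theorem alpha_mem : Equiv.optionCongr (Equiv.addRight (1 : ZMod 23)) ∈ M24 := by
  rw [alpha_eq]; exact toPerm_mem_M24 inM24_alpha

theorem gamma_mem : projInv ∈ M24 := by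
  rw [gamma_eq]; exact toPerm_mem_M24 inM24_gamma

theorem delta_mem : cubeTwist ∈ M24 := by
  rw [delta_eq]; exact toPerm_mem_M24 inM24_delta

/-- table of multiplication by `a` -/
def mulT (a : ℕ) : ℕ :=
  Nat.rec (motive := fun _ => ℕ) (23 <<< 115) (fun i acc => acc ||| ((a * i % 23) <<< (5 * i))) 23

theorem mulT_check : ∀ r : ZMod 23, r ≠ 0 → inM24 (mulT (ZMod.val (r * r))) = true := by
  decide +kernel

theorem mulT_apply : ∀ a : ZMod 23, ∀ p : GolayPt,
    Option.map (fun x => a * x) p = pt (img (mulT (ZMod.val a)) (idx p)) := by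
  decide +kernel

theorem mulLeft_mem (u : (ZMod 23)ˣ) (hu : IsSquare u) :
    Equiv.optionCongr (Units.mulLeft u) ∈ M24 := by
  obtain ⟨r, rfl⟩ := hu
  have : Fact (Nat.Prime 23) := ⟨by norm_num⟩
  have h := mulT_check (r : ZMod 23) (Units.ne_zero r)
  have : Equiv.optionCongr (Units.mulLeft (r * r)) =
      toPerm (mulT (ZMod.val ((r : ZMod 23) * (r : ZMod 23)))) := by
    apply eq_toPerm (validT_of_inM24 h)
    intro p
    rw [← mulT_apply]
    rfl
  rw [this]
  exact toPerm_mem_M24 h

end Cfsg.Agent.Lib.Helper8
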