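import Cfsg.Agent.Lib.Helper8.Cent
import Cfsg.Agent.Lib.Helper8.Named

set_option autoImplicit false

namespace Cfsg.Agent.Lib.Helper8

open Cfsg
open scoped Pointwise

theorem arith23 : ∀ r k : ℕ, r.Prime → r ≠ 23 → 0 < k → r ^ k ∣ 244823040 → r ^ k % 23 ≠ 1 := by
  intro r k hr hne hk hd
  have hrd : r ∣ 244823040 := (dvd_pow_self r hk.ne').trans hd
  have e : (244823040 : ℕ) = 2 ^ 10 * 3 ^ 3 * 5 * 7 * 11 * 23 := by norm_num
  have hcases : r = 2 ∨ r = 3 ∨ r = 5 ∨ r = 7 ∨ r = 11 ∨ r = 23 := by
    rw [e] at hrd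
    simp only [hr.dvd_mul] at hrd
    rcases hrd with ((((h | h) | h) | h) | h) | h
    · left; exact (Nat.prime_dvd_prime_iff_eq hr Nat.prime_two).mp (hr.dvd_of_dvd_pow h)
    · right; left; exact (Nat.prime_dvd_prime_iff_eq hr Nat.prime_three).mp (hr.dvd_of_dvd_pow h)
    · right; right; left; exact (Nat.prime_dvd_prime_iff_eq hr (by norm_num)).mp h
    · right; right; right; left; exact (Nat.prime_dvd_prime_iff_eq hr (by norm_num)).mp h
    · right; right; right; right; left; exact (Nat.prime_dvd_prime_iff_eq hr (by norm_num)).mp h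
    · right; right; right; right; right; exact (Nat.prime_dvd_prime_iff_eq hr (by norm_num)).mp h
  rcases hcases with rfl | rfl | rfl | rfl | rfl | rfl
  · have hk' : k ≤ 10 := by
      by_contra h
      have : 2 ^ 11 ∣ 244823040 := (pow_dvd_pow 2 (by omega)).trans hd
      norm_num at this
    interval_cases k <;> norm_num
  · have hk' : k ≤ 3 := by
      by_contra h
      have : 3 ^ 4 ∣ 244823040 := (pow_dvd_pow 3 (by omega)).trans hd
      norm_num at this
    interval_cases k <;> norm_num
  · have hk' : k ≤ 1 := by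
      by_contra h
      have : 5 ^ 2 ∣ 244823040 := (pow_dvd_pow 5 (by omega)).trans hd
      norm_num at this
    interval_cases k <;> norm_num
  · have hk' : k ≤ 1 := by
      by_contra h
      have : 7 ^ 2 ∣ 244823040 := (pow_dvd_pow 7 (by omega)).trans hd
      norm_num at this
    interval_cases k <;> norm_num
  · have hk' : k ≤ 1 := by
      by_contra h
      have : 11 ^ 2 ∣ 244823040 := (pow_dvd_pow 11 (by omega)).trans hd
      norm_num at this
    interval_cases k <;> norm_num
  · exact absurd rfl hne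

theorem arith11 : ∀ r k : ℕ, r.Prime → r ≠ 11 → 0 < k → r ^ k ∣ 1330560 → r ^ k % 11 ≠ 1 := by
  intro r k hr hne hk hd
  have hrd : r ∣ 1330560 := (dvd_pow_self r hk.ne').trans hd
  have e : (1330560 : ℕ) = 2 ^ 7 * 3 ^ 3 * 5 * 7 * 11 := by norm_num
  have hcases : r = 2 ∨ r = 3 ∨ r = 5 ∨ r = 7 ∨ r = 11 := by
    rw [e] at hrd
    simp only [hr.dvd_mul] at hrd
    rcases hrd with (((h | h) | h) | h) | h
    · left; exact (Nat.prime_dvd_prime_iff_eq hr Nat.prime_two).mp (hr.dvd_of_dvd_pow h)
    · right; left; exact (Nat.prime_dvd_prime_iff_eq hr Nat.prime_three).mp (hr.dvd_of_dvd_pow h)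
    · right; right; left; exact (Nat.prime_dvd_prime_iff_eq hr (by norm_num)).mp h
    · right; right; right; left; exact (Nat.prime_dvd_prime_iff_eq hr (by norm_num)).mp h
    · right; right; right; right; exact (Nat.prime_dvd_prime_iff_eq hr (by norm_num)).mp h
  rcases hcases with rfl | rfl | rfl | rfl | rfl
  · have hk' : k ≤ 7 := by
      by_contra h
      have : 2 ^ 8 ∣ 1330560 := (pow_dvd_pow 2 (by omega)).trans hd
      norm_num at this
    interval_cases k <;> norm_num
  · have hk' : k ≤ 3 := by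
      by_contra h
      have : 3 ^ 4 ∣ 1330560 := (pow_dvd_pow 3 (by omega)).trans hd
      norm_num at this
    interval_cases k <;> norm_num
  · have hk' : k ≤ 1 := by
      by_contra h
      have : 5 ^ 2 ∣ 1330560 := (pow_dvd_pow 5 (by omega)).trans hd
      norm_num at this
    interval_cases k <;> norm_num
  · have hk' : k ≤ 1 := by
      by_contra h
      have : 7 ^ 2 ∣ 1330560 := (pow_dvd_pow 7 (by omega)).trans hd
      norm_num at this
    interval_cases k <;> norm_num
  · exact absurd rfl hne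

theorem eq_one_of_fix_but_one {c : Equiv.Perm GolayPt} {k : ℕ}
    (h : ∀ j < 24, j ≠ k → c (pt j) = pt j) : c = 1 := by
  have key : ∀ j < 24, c (pt j) = pt j := by
    intro j hj
    by_cases hjk : j = k
    · by_contra hne
      have hv : idx (c (pt j)) ≠ k := by
        intro hv
        apply hne
        rw [← pt_idx (c (pt j)), hv, hjk]
      have h1 := h _ (idx_lt (c (pt j))) hv
      rw [pt_idx] at h1
      exact hne (c.injective h1)
    · exact h j hj hjk
  ext p : 1
  rw [← pt_idx p, key _ (idx_lt p)]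
  rfl

/-! ### the prime 23 -/

theorem alpha_test : invTest [] Talpha = true := by decide +kernel
theorem alpha_test' : invTest [2 ^ 23] Talpha = true := by decide +kernel
theorem alpha_orb : ∀ u < 24, img Talpha u ≠ u → itT Talpha u 0 = u := by decide +kernel
theorem alpha_orb' : ∀ u < 24, u ≠ 23 → itT Talpha u 0 = u := by decide +kernel

theorem cent_alpha : ∀ c ∈ GInv [], c * toPerm Talpha = toPerm Talpha * c →
    ∃ e : ℕ, c = toPerm Talpha ^ e := by
  apply cent_of alpha_test (s := 0) (by norm_num)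
  · intro c _ hcomm
    have hv := (toPerm_mem_GInv alpha_test).1
    have h1 := img_ne_of_commute hv hcomm (s := 0) (by norm_num) (by decide +kernel)
    refine ⟨idx (c (pt 0)), ?_⟩
    rw [alpha_orb _ (idx_lt _) h1, pt_idx]
  · intro c _ h
    apply eq_one_of_fix_but_one (k := 23)
    intro j hj hj'
    have := h j
    rwa [alpha_orb' j hj hj'] at this

instance fact23 : Fact (Nat.Prime 23) := ⟨by norm_num⟩
instance fact11 : Fact (Nat.Prime 11) := ⟨by norm_num⟩

theorem simple_M24' : IsSimpleGroup (GInv []) := by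
  refine simple_GInv (p := 23) (q := 11) (by norm_num) alpha_test card_GInv_nil (by decide +kernel)
    (j0 := 0) (by norm_num) (by decide +kernel) cent_alpha (by norm_num) ?_ (by norm_num) arith23
  intro m s hm hn hs
  have hm22 : m ≤ 22 := Nat.le_of_dvd (by norm_num) hm
  interval_cases m <;> first | rfl | (exfalso; omega)

theorem simple_M23' : IsSimpleGroup (GInv [2 ^ 23]) := by
  refine simple_GInv (p := 23) (q := 11) (by norm_num) alpha_test' card_P1 (by decide +kernel)
    (j0 := 0) (by norm_num) (by decide +kernel)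
    (fun c hc => cent_alpha c (GInv_mono (by simp) hc)) (by norm_num) ?_ (by norm_num) ?_
  · intro m s hm hn hs
    have hm22 : m ≤ 22 := Nat.le_of_dvd (by norm_num) hm
    interval_cases m <;> first | rfl | (exfalso; omega)
  · intro r k hr hne hk hd
    exact arith23 r k hr hne hk (hd.trans (by norm_num))

/-! ### the prime 11 in `M22` -/

def Tbeta : ℕ := 983435072843990828779021698901151808

theorem beta_test : invTest [2 ^ 0, 2 ^ 23] Tbeta = true := by decide +kernel
theorem beta_orb : ∀ u < 24, img Tbeta u ≠ u →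
    (∃ e < 11, itT Tbeta e 1 = u) ∨ (∃ e < 11, itT Tbeta e 5 = u) := by decide +kernel
theorem beta_D : ∀ j < 24, (340831 : ℕ).testBit j = true → j = 0 ∨ ∃ i < 11, itT Tbeta i 1 = j := by
  decide +kernel
theorem beta_N : ∀ e < 11, ∀ i < 11, (8047777 : ℕ).testBit (itT Tbeta i (itT Tbeta e 5)) = true := by
  decide +kernel
theorem rigid_Q : rigidCheck [2 ^ 6, 2 ^ 4, 2 ^ 3, 2 ^ 2, 2 ^ 1, 2 ^ 0, 2 ^ 23] [(1, 0, 1), (1, 8, 2), (1, 9, 3), (1, 10, 4), (1, 11, 5), (1, 12, 6), (1, 13, 7), (1, 1, 2), (1, 15, 3), (1, 16, 4), (1, 17, 5), (2, 18, 8683614), (0, 14, 19), (1, 14, 20), (1, 15, 6), (1, 22, 20), (2, 23, 442481), (0, 21, 24), (1, 21, 25), (1, 1, 3), (1, 27, 25), (2, 28, 2769128), (0, 26, 29), (1, 26, 30), (1, 15, 30), (2, 32, 6889680), (0, 31, 33), (1, 31, 34), (1, 1, 4), (1, 36, 25), (2, 37, 157028), (0, 34, 38), (1, 34, 39), (0, 35, 38), (1, 35, 41), (1, 1, 42), (2, 43, 1710664), (0, 25, 44), (1, 25, 45), (0, 30, 44), (1, 30, 47), (1, 5, 20), (1, 49, 46), (2, 50, 8704546), (0, 42, 51), (1, 42, 52), (1,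 15, 5), (1, 54, 48), (2, 55, 2150610), (0, 20, 56), (1, 20, 57), (0, 46, 56), (1, 46, 59), (0, 52, 56), (1, 52, 61), (1, 16, 5), (1, 63, 6), (2, 64, 2162811), (0, 48, 65), (1, 48, 66), (0, 40, 65), (1, 40, 68), (1, 63, 45), (2, 70, 150618), (0, 41, 71), (1, 41, 72), (0, 53, 71), (1, 53, 74)] = true := by
  decide +kernel

theorem cent_beta : ∀ c ∈ GInv [2 ^ 0, 2 ^ 23], c * toPerm Tbeta = toPerm Tbeta * c →
    ∃ e : ℕ, c = toPerm Tbeta ^ e := by
  have hv := (toPerm_mem_GInv beta_test).1
  apply cent_of beta_test (s := 1) (by norm_num)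
  · intro c hc hcomm
    have h1 := img_ne_of_commute hv hcomm (s := 1) (by norm_num) (by decide +kernel)
    rcases beta_orb _ (idx_lt _) h1 with ⟨e, _, he⟩ | ⟨e, he11, he⟩
    · exact ⟨e, by rw [he, pt_idx]⟩
    · exfalso
      have hc1 : c (pt 1) = pt (itT Tbeta e 5) := by rw [he, pt_idx]
      have hc0 : c (pt 0) = pt 0 := GInv_fix hc (by norm_num) (by simp)
      have hsub : c • setOf 340831 ⊆ setOf 8047777 := by
        intro y hy
        obtain ⟨p, hp, rfl⟩ := Finset.mem_smul_finset.mp hy
        rw [mem_setOf] at hp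
        rw [Equiv.Perm.smul_def]
        rcases beta_D _ (idx_lt p) hp with h0 | ⟨i, hi, h0⟩
        · rw [← pt_idx p, h0, hc0, pt_mem_setOf (by norm_num)]; decide
        · rw [← pt_idx p, ← h0,
            commute_prop hv hcomm (by norm_num) (itT_lt hv (by norm_num) e) hc1 i,
            pt_mem_setOf (itT_lt hv (itT_lt hv (by norm_num) e) i)]
          exact beta_N e he11 i hi
      have hcard : (setOf 8047777).card ≤ (c • setOf 340831).card := by
        rw [Finset.card_smul_finset, card_setOf, card_setOf]; decide +kernel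
      have heq := Finset.eq_of_subset_of_card_le hsub hcard
      have hmem := smul_mem_supports hc.1 D0_mem.1
      rw [heq, setOf_mem_supports_iff (by norm_num)] at hmem
      revert hmem; decide +kernel
  · intro c hc h
    have hbot := GInv_eq_bot rigid_Q
    have : c ∈ GInv [2 ^ 6, 2 ^ 4, 2 ^ 3, 2 ^ 2, 2 ^ 1, 2 ^ 0, 2 ^ 23] := by
      refine ⟨hc.1, ?_⟩
      intro m hm
      simp only [List.mem_cons, List.not_mem_nil, or_false] at hm
      rcases hm with rfl | rfl | rfl | rfl | rfl | rfl | rfl
      · exact Inv.of_fix (by norm_num) (h 9)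
      · exact Inv.of_fix (by norm_num) (h 2)
      · exact Inv.of_fix (by norm_num) (h 8)
      · exact Inv.of_fix (by norm_num) (h 1)
      · exact Inv.of_fix (by norm_num) (h 0)
      · exact hc.2 _ (by simp)
      · exact hc.2 _ (by simp)
    rw [hbot] at this
    exact Subgroup.mem_bot.mp this

theorem simple_M22' : IsSimpleGroup (GInv [2 ^ 0, 2 ^ 23]) := by
  refine simple_GInv (p := 11) (q := 5) (by norm_num) beta_test card_P2 (by decide +kernel)
    (j0 := 1) (by norm_num) (by decide +kernel) cent_beta (by norm_num) ?_ (by norm_num) ?_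
  · intro m s hm hn hs
    have hm22 : m ≤ 10 := Nat.le_of_dvd (by norm_num) hm
    interval_cases m <;> first | rfl | (exfalso; omega)
  · intro r k hr hne hk hd
    exact arith11 r k hr hne hk (hd.trans (by norm_num))

/-! ### the prime 11 in `M12` and `M11` -/

def Televen : ℕ := 962178901235543033246291199672207491

theorem eleven_test : invTest [340831] Televen = true := by decide +kernel
theorem eleven_test' : invTest [16436384, 2 ^ 23] Televen = true := by decide +kernel
theorem eleven_orb : ∀ u < 24, (340831 : ℕ).testBit u = true → img Televen u ≠ u →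
    ∃ e < 11, itT Televen e 0 = u := by decide +kernel
theorem eleven_five : ∀ j < 5, ∃ e < 11, itT Televen e 0 = j := by decide +kernel

theorem cent_eleven : ∀ c ∈ GInv [340831], c * toPerm Televen = toPerm Televen * c →
    ∃ e : ℕ, c = toPerm Televen ^ e := by
  have hv := (toPerm_mem_GInv eleven_test).1
  apply cent_of eleven_test (s := 0) (by norm_num)
  · intro c hc hcomm
    have h1 := img_ne_of_commute hv hcomm (s := 0) (by norm_num) (by decide +kernel)
    have h2 : c (pt 0) ∈ setOf 340831 := by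
      rw [GInv_apply_mem hc (by simp), pt_mem_setOf (by norm_num)]; decide
    rw [mem_setOf] at h2
    obtain ⟨e, _, he⟩ := eleven_orb _ (idx_lt _) h2 h1
    exact ⟨e, by rw [he, pt_idx]⟩
  · intro c hc h
    have hfix : ∀ j < 5, c (pt j) = pt j := by
      intro j hj
      obtain ⟨e, _, he⟩ := eleven_five j hj
      have := h e
      rwa [he] at this
    have : c ∈ GInv [2 ^ 4, 2 ^ 3, 2 ^ 2, 2 ^ 1, 2 ^ 0, 340831] := by
      refine ⟨hc.1, ?_⟩
      intro m hm
      simp only [List.mem_cons, List.not_mem_nil, or_false] at hm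
      rcases hm with rfl | rfl | rfl | rfl | rfl | rfl
      · exact Inv.of_fix (by norm_num) (hfix 4 (by norm_num))
      · exact Inv.of_fix (by norm_num) (hfix 3 (by norm_num))
      · exact Inv.of_fix (by norm_num) (hfix 2 (by norm_num))
      · exact Inv.of_fix (by norm_num) (hfix 1 (by norm_num))
      · exact Inv.of_fix (by norm_num) (hfix 0 (by norm_num))
      · exact hc.2 _ (by simp)
    rw [GInv_D5_eq_bot] at this
    exact Subgroup.mem_bot.mp this

theorem simple_M12' : IsSimpleGroup (GInv [340831]) := by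
  refine simple_GInv (p := 11) (q := 5) (by norm_num) eleven_test card_D (by decide +kernel)
    (j0 := 0) (by norm_num) (by decide +kernel) cent_eleven (by norm_num) ?_ (by norm_num) ?_
  · intro m s hm hn hs
    have hm22 : m ≤ 10 := Nat.le_of_dvd (by norm_num) hm
    interval_cases m <;> first | rfl | (exfalso; omega)
  · intro r k hr hne hk hd
    exact arith11 r k hr hne hk (hd.trans (by norm_num))

theorem GInv_PD_le : GInv [16436384, 2 ^ 23] ≤ GInv [340831] := by
  intro c hc
  refine ⟨hc.1, ?_⟩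
  intro m hm
  rw [List.mem_singleton] at hm
  subst hm
  have h := (hc.2 16436384 (by simp)).xor (Inv.full c)
  have e : (16436384 ^^^ 16777215 : ℕ) = 340831 := by decide +kernel
  rwa [e] at h

theorem simple_M11' : IsSimpleGroup (GInv [16436384, 2 ^ 23]) := by
  refine simple_GInv (p := 11) (q := 5) (by norm_num) eleven_test' card_PD (by decide +kernel)
    (j0 := 0) (by norm_num) (by decide +kernel)
    (fun c hc => cent_eleven c (GInv_PD_le hc)) (by norm_num) ?_ (by norm_num) ?_
  · intro m s hm hn hs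
    have hm22 : m ≤ 10 := Nat.le_of_dvd (by norm_num) hm
    interval_cases m <;> first | rfl | (exfalso; omega)
  · intro r k hr hne hk hd
    exact arith11 r k hr hne hk (hd.trans (by norm_num))

/-- a subgroup of `M24` conjugate to `GInv L` is isomorphic to it -/
noncomputable def mulEquivGInv (K : Subgroup M24) (L : List ℕ) {g : Equiv.Perm GolayPt} (hg : g ∈ M24)
    (h : ∀ k : M24, k ∈ K ↔ g * (k : Equiv.Perm GolayPt) * g⁻¹ ∈ GInv L) : K ≃* GInv L where
  toFun k := ⟨g * (k : M24) * g⁻¹, (h k.1).mp k.2⟩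
  invFun x := ⟨⟨g⁻¹ * x * g, M24.mul_mem (M24.mul_mem (M24.inv_mem hg) x.2.1) hg⟩, by
    rw [h]
    have : g * (g⁻¹ * (x : Equiv.Perm GolayPt) * g) * g⁻¹ = x := by group
    show g * (g⁻¹ * (x : Equiv.Perm GolayPt) * g) * g⁻¹ ∈ GInv L
    rw [this]; exact x.2⟩
  left_inv k := by
    apply Subtype.ext; apply Subtype.ext
    show g⁻¹ * (g * ((k : M24) : Equiv.Perm GolayPt) * g⁻¹) * g = _
    group
  right_inv x := by
    apply Subtype.ext
    show g * (g⁻¹ * (x : Equiv.Perm GolayPt) * g) * g⁻¹ = _
    group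
  map_mul' a b := by
    apply Subtype.ext
    show g * (((a : M24) : Equiv.Perm GolayPt) * ((b : M24) : Equiv.Perm GolayPt)) * g⁻¹ =
      (g * ((a : M24) : Equiv.Perm GolayPt) * g⁻¹) * (g * ((b : M24) : Equiv.Perm GolayPt) * g⁻¹)
    group

end Cfsg.Agent.Lib.Helper8
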