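import Cfsg.Agent.Lib.Helper8.OutGen
import Cfsg.Agent.Lib.Helper8.OutData
import Cfsg.Agent.Lib.Helper8.SimpleM
import Cfsg.Agent.Lib.Helper8.OctSpan
import Cfsg.Agent.Lib.Helper8.Oct16

set_option autoImplicit false

namespace Cfsg.Agent.Lib.Helper8

open Cfsg
open scoped Pointwise

theorem orderOf_toPerm {T p : ℕ} [hp : Fact p.Prime] (hv : validT T = true)
    (hord : allBelow 24 (fun j => Nat.beq (itT T p j) j) = true) {j0 : ℕ} (hj0 : j0 < 24)
    (hne : img T j0 ≠ j0) : orderOf (toPerm T) = p := by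
  apply orderOf_eq_prime
  · ext x : 1
    rw [← pt_idx x, toPerm_pow_pt hv (idx_lt x),
      Nat.eq_of_beq_eq_true (of_allBelow hord _ (idx_lt x))]
    rfl
  · intro h
    apply hne
    have := toPerm_pt hv hj0
    rw [h, Equiv.Perm.one_apply] at this
    have := congrArg idx this
    rw [idx_pt hj0, idx_pt (img_lt hv hj0)] at this
    exact this.symm

theorem fixF_toPerm {T m : ℕ} (hv : validT T = true)
    (hm : allBelow 24 (fun j => (m.testBit j) == (Nat.beq (img T j) j)) = true) :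
    fixF (toPerm T) = setOf m := by
  ext p
  rw [mem_fixF, mem_setOf, toPerm_apply hv]
  have h := of_allBelow hm _ (idx_lt p)
  rw [beq_iff_eq] at h
  rw [h]
  constructor
  · intro e
    have := congrArg idx e
    rw [idx_pt (img_lt hv (idx_lt p))] at this
    rw [this]; exact Nat.beq_refl _
  · intro e
    rw [Nat.eq_of_beq_eq_true e, pt_idx]

/-- all elements of prime order `r ∥ |M24|` have the same number of fixed points -/
theorem fix_card_of_order {r f T m : ℕ} [hr : Fact r.Prime] (hr2 : ¬ r ^ 2 ∣ 244823040)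
    (hT : inM24 T = true)
    (hord : allBelow 24 (fun j => Nat.beq (itT T r j) j) = true) {j0 : ℕ} (hj0 : j0 < 24)
    (hne : img T j0 ≠ j0)
    (hm : allBelow 24 (fun j => (m.testBit j) == (Nat.beq (img T j) j)) = true)
    (hf : popc m = f) :
    ∀ x ∈ M24, orderOf x = r → (fixF x).card = f := by
  intro x hx hox
  have hv := validT_of_inM24 hT
  have h0 : orderOf (toPerm T) = r := orderOf_toPerm hv hord hj0 hne
  have hr2' : ¬ r ^ 2 ∣ Nat.card M24 := by rw [card_M24]; exact hr2
  have o1 : orderOf (⟨x, hx⟩ : M24) = r := by rw [← hox, ← Subgroup.orderOf_coe]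
  have o2 : orderOf (⟨toPerm T, toPerm_mem_M24 hT⟩ : M24) = r := by
    rw [← h0, ← Subgroup.orderOf_coe]
  obtain ⟨g, j, e⟩ := exists_conj_pow hr2' o1 o2
  obtain ⟨g', j', e'⟩ := exists_conj_pow hr2' o2 o1
  have e1 : x = (g : Equiv.Perm GolayPt) * toPerm T ^ j * (g : Equiv.Perm GolayPt)⁻¹ :=
    congrArg Subtype.val e
  have e2 : toPerm T = (g' : Equiv.Perm GolayPt) * x ^ j' * (g' : Equiv.Perm GolayPt)⁻¹ :=
    congrArg Subtype.val e'
  have l1 := card_fixF_le e1
  have l2 := card_fixF_le e2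
  rw [fixF_toPerm hv hm, card_setOf, hf] at l1 l2
  omega

instance fact7 : Fact (Nat.Prime 7) := ⟨by norm_num⟩
instance fact5 : Fact (Nat.Prime 5) := ⟨by norm_num⟩

theorem fix23 : ∀ x ∈ M24, orderOf x = 23 → (fixF x).card = 1 :=
  fix_card_of_order (T := Talpha) (m := 8388608) (by norm_num) (by decide +kernel)
    (by decide +kernel) (j0 := 0) (by norm_num) (by decide +kernel) (by decide +kernel)
    (by decide +kernel)

theorem fix11 : ∀ x ∈ M24, orderOf x = 11 → (fixF x).card = 2 :=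
  fix_card_of_order (T := Tbeta) (m := 8388609) (by norm_num) (by decide +kernel)
    (by decide +kernel) (j0 := 1) (by norm_num) (by decide +kernel) (by decide +kernel)
    (by decide +kernel)

theorem fix7 : ∀ x ∈ M24, orderOf x = 7 → (fixF x).card = 3 :=
  fix_card_of_order (T := Tseven) (m := 4198528) (by norm_num) (by decide +kernel)
    (by decide +kernel) (j0 := 0) (by norm_num) (by decide +kernel) (by decide +kernel)
    (by decide +kernel)

theorem fix5 : ∀ x ∈ M24, orderOf x = 5 → (fixF x).card = 4 :=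
  fix_card_of_order (T := Tfive) (m := 8388615) (by norm_num) (by decide +kernel)
    (by decide +kernel) (j0 := 3) (by norm_num) (by decide +kernel) (by decide +kernel)
    (by decide +kernel)

theorem exists_order (K : Subgroup (Equiv.Perm GolayPt)) {r : ℕ} [Fact r.Prime]
    (hr : r ∣ Nat.card K) : ∃ x ∈ K, orderOf x = r := by
  obtain ⟨x, hx⟩ := exists_prime_orderOf_dvd_card' r hr
  exact ⟨x, x.2, by rw [Subgroup.orderOf_coe]; exact hx⟩

theorem orb_step (K : Subgroup (Equiv.Perm GolayPt)) (hK : K ≤ M24) (F : Finset GolayPt)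
    (hF : ∀ g ∈ K, ∀ a ∈ F, g a = a) {ω : GolayPt} (hω : ω ∉ F) {r f : ℕ} [Fact r.Prime]
    (hfix : ∀ x ∈ M24, orderOf x = r → (fixF x).card = f) (hr : r ∣ Nat.card K) :
    ∃ c, c + F.card ≤ f ∧ (MulAction.orbit K ω).ncard % r = c % r := by
  obtain ⟨x, hx, hox⟩ := exists_order K hr
  refine ⟨_, ?_, orbit_mod K hx (by rw [← hox]; exact pow_orderOf_eq_one x) ω⟩
  rw [← hfix x (hK hx) hox]
  exact orbit_inter_le K F hF hω hx

/-! ### elements of order 5 -/

def commT (T S : ℕ) : Bool := allBelow 24 fun i => Nat.beq (img T (img S i)) (img S (img T i))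

theorem commT_of_commute {T S : ℕ} (hT : validT T = true) (hS : validT S = true)
    (h : toPerm T * toPerm S = toPerm S * toPerm T) : commT T S = true := by
  rw [commT, allBelow_iff]
  intro i hi
  have h1 := congrFun (congrArg DFunLike.coe h) (pt i)
  rw [Equiv.Perm.mul_apply, Equiv.Perm.mul_apply, toPerm_pt hS hi, toPerm_pt hT hi,
    toPerm_pt hT (img_lt hS hi), toPerm_pt hS (img_lt hT hi)] at h1
  have h2 := congrArg idx h1
  rw [idx_pt (img_lt hT (img_lt hS hi)), idx_pt (img_lt hS (img_lt hT hi))] at h2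
  rw [h2]; exact Nat.beq_refl _

theorem five_test : invTest [2 ^ 2, 2 ^ 1, 2 ^ 0, 2 ^ 23] Tfive = true := by decide +kernel

theorem fivePows_check : allBelow 5 (fun e => validT (fivePows.getD e 0) &&
    allBelow 24 (fun j => Nat.beq (img (fivePows.getD e 0) j) (itT Tfive e j))) = true := by
  decide +kernel

theorem fivePows_eq {T : ℕ} (hT : T ∈ fivePows) : ∃ e : ℕ, toPerm T = toPerm Tfive ^ e := by
  obtain ⟨e, he, rfl⟩ := List.getElem_of_mem hT
  have he5 : e < 5 := he
  refine ⟨e, ?_⟩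
  have h := of_allBelow fivePows_check e he5
  rw [Bool.and_eq_true, List.getD_eq_getElem _ _ he] at h
  symm
  apply eq_toPerm h.1
  intro p
  rw [Nat.eq_of_beq_eq_true (of_allBelow h.2 _ (idx_lt p))]
  conv_lhs => rw [← pt_idx p]
  exact toPerm_pow_pt (toPerm_mem_GInv five_test).1 (idx_lt p) e

theorem q960_comm : allBelow 960 (fun i => !(commT (getR 120 q960A i) Tfive) ||
    fivePows.contains (getR 120 q960A i)) = true := by
  decide +kernel

theorem cent_five : ∀ c ∈ GInv [2 ^ 2, 2 ^ 1, 2 ^ 0, 2 ^ 23],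
    c * toPerm Tfive = toPerm Tfive * c → ∃ e : ℕ, c = toPerm Tfive ^ e := by
  refine forall_of_list card_P4 q960_mem q960_inc
    (fun c => c * toPerm Tfive = toPerm Tfive * c → ∃ e : ℕ, c = toPerm Tfive ^ e)
    (fun T => !(commT T Tfive) || fivePows.contains T) ?_ q960_comm
  intro T hT hp hcomm
  have h1 := commT_of_commute hT (toPerm_mem_GInv five_test).1 hcomm
  rw [h1] at hp
  simp only [Bool.not_true, Bool.false_or] at hp
  exact fivePows_eq (by simpa using hp)

/-- the centraliser of an element of order 5 in the pointwise stabiliser of its fixed points -/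
theorem cent5 {z : Equiv.Perm GolayPt} (hz : z ∈ M24) (hoz : orderOf z = 5)
    {c : Equiv.Perm GolayPt} (hc : c ∈ M24) (hcomm : c * z = z * c)
    (hfix : ∀ a ∈ fixF z, c a = a) : ∃ k : ℤ, c = z ^ k := by
  have hT5 := toPerm_mem_GInv five_test
  have hv := hT5.1
  have h0 : orderOf (toPerm Tfive) = 5 :=
    orderOf_toPerm hv (by decide +kernel) (j0 := 3) (by norm_num) (by decide +kernel)
  have hr2' : ¬ 5 ^ 2 ∣ Nat.card M24 := by rw [card_M24]; norm_num
  have o1 : orderOf (⟨z, hz⟩ : M24) = 5 := by rw [← hoz, ← Subgroup.orderOf_coe]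
  have o2 : orderOf (⟨toPerm Tfive, hT5.2.1⟩ : M24) = 5 := by
    rw [← h0, ← Subgroup.orderOf_coe]
  obtain ⟨g, j, e⟩ := exists_conj_pow hr2' o2 o1
  have e1 : toPerm Tfive = (g : Equiv.Perm GolayPt) * z ^ j * (g : Equiv.Perm GolayPt)⁻¹ :=
    congrArg Subtype.val e
  set γ : Equiv.Perm GolayPt := (g : Equiv.Perm GolayPt) with hγ
  have hγM : γ ∈ M24 := g.2
  -- the fixed points of the standard element are the images of those of `z`
  have himg : (fixF z).image γ = fixF (toPerm Tfive) := by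
    apply Finset.eq_of_subset_of_card_le
    · intro b hb
      obtain ⟨a, ha, rfl⟩ := Finset.mem_image.mp hb
      have ha' : z a = a := mem_fixF.mp ha
      have hj : (z ^ j) a = a := Equiv.Perm.zpow_apply_eq_self_of_apply_eq_self ha' j
      rw [mem_fixF, e1]
      simp [hj]
    · rw [Finset.card_image_of_injective _ γ.injective, fix5 z hz hoz,
        fix5 _ hT5.2.1 h0]
  have hc' : γ * c * γ⁻¹ ∈ GInv [2 ^ 2, 2 ^ 1, 2 ^ 0, 2 ^ 23] := by
    refine ⟨M24.mul_mem (M24.mul_mem hγM hc) (M24.inv_mem hγM), ?_⟩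
    have key : ∀ i < 24, toPerm Tfive (pt i) = pt i → Inv (γ * c * γ⁻¹) (2 ^ i) := by
      intro i hi hi'
      apply Inv.of_fix hi
      have : pt i ∈ (fixF z).image γ := by rw [himg, mem_fixF]; exact hi'
      obtain ⟨a, ha, hae⟩ := Finset.mem_image.mp this
      rw [← hae]
      simp [hfix a ha]
    intro m hm
    simp only [List.mem_cons, List.not_mem_nil, or_false] at hm
    rcases hm with rfl | rfl | rfl | rfl
    · exact key 2 (by norm_num) (GInv_fix hT5.2 (by norm_num) (by simp))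
    · exact key 1 (by norm_num) (GInv_fix hT5.2 (by norm_num) (by simp))
    · exact key 0 (by norm_num) (GInv_fix hT5.2 (by norm_num) (by simp))
    · exact key 23 (by norm_num) (GInv_fix hT5.2 (by norm_num) (by simp))
  have hcj : Commute c (z ^ j) := (show Commute c z from hcomm).zpow_right j
  have hcomm' : γ * c * γ⁻¹ * toPerm Tfive = toPerm Tfive * (γ * c * γ⁻¹) := by
    rw [e1]
    have : γ * c * γ⁻¹ * (γ * z ^ j * γ⁻¹) = γ * (c * z ^ j) * γ⁻¹ := by group
    rw [this, hcj.eq]; group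
  obtain ⟨k, hk⟩ := cent_five _ hc' hcomm'
  refine ⟨j * k, ?_⟩
  have : c = γ⁻¹ * (γ * c * γ⁻¹) * γ := by group
  rw [this, hk, e1, conj_pow, zpow_mul, zpow_natCast]
  group

theorem no_order_40 (K : Subgroup (Equiv.Perm GolayPt)) (hK : K ≤ M24) (F : Finset GolayPt)
    (hFc : F.card = 4) (hF : ∀ g ∈ K, ∀ a ∈ F, g a = a) (hc : Nat.card K = 40) : False := by
  obtain ⟨z, hz⟩ := exists_prime_orderOf_dvd_card' (G := K) 5 (by rw [hc]; norm_num)
  have hoz : orderOf (z : Equiv.Perm GolayPt) = 5 := by rw [Subgroup.orderOf_coe]; exact hz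
  have hFz : fixF (z : Equiv.Perm GolayPt) = F := by
    symm
    apply Finset.eq_of_subset_of_card_le
    · intro a ha; exact mem_fixF.mpr (hF z z.2 a ha)
    · rw [fix5 _ (hK z.2) hoz, hFc]
  have hC : ∀ c : K, Commute c z → c ∈ Subgroup.zpowers z := by
    intro c hcz
    obtain ⟨k, hk⟩ := cent5 (hK z.2) hoz (hK c.2) (congrArg Subtype.val hcz.eq)
      (by rw [hFz]; exact hF c c.2)
    rw [Subgroup.mem_zpowers_iff]
    exact ⟨k, Subtype.ext (by rw [hk]; rfl)⟩
  obtain ⟨m, s, h1, _, h3, h4⟩ := card_normalizer_of_self_centralizing hz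
    (by rw [hc]; norm_num) hC
  rw [hc] at h3
  have hm4 : m ≤ 4 := Nat.le_of_dvd (by norm_num) h1
  interval_cases m <;> omega

/-! ### subgroups of index 24 in `M24` and of index 23 in `M23` fix a point -/

theorem card_Pt : Fintype.card GolayPt = 24 := by rw [← Finset.card_univ]; exact card_pts

theorem exists_notMem_pt (F : Finset GolayPt) (h : F.card < 24) : ∃ a, a ∉ F := by
  by_contra hn
  push Not at hn
  have : F = Finset.univ := Finset.eq_univ_iff_forall.mpr hn
  rw [this, card_pts] at h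
  omega

theorem fix_insert (K : Subgroup (Equiv.Perm GolayPt)) (F : Finset GolayPt)
    (hF : ∀ g ∈ K, ∀ a ∈ F, g a = a) (ω : GolayPt) :
    ∀ g ∈ K ⊓ MulAction.stabilizer (Equiv.Perm GolayPt) ω, ∀ a ∈ insert ω F, g a = a := by
  intro g hg a ha
  rcases Finset.mem_insert.mp ha with rfl | ha
  · exact hg.2
  · exact hF g hg.1 a ha

theorem fixed_point_M24 (K : Subgroup (Equiv.Perm GolayPt)) (hK : K ≤ M24)
    (hc : Nat.card K = 10200960) : ∃ q, ∀ g ∈ K, g q = q := by
  obtain ⟨x, hx, hox⟩ := exists_order K (r := 23) (by rw [hc]; norm_num)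
  obtain ⟨f1, hf1⟩ := Finset.card_eq_one.mp (fix23 x (hK hx) hox)
  have hxf : x f1 = f1 := mem_fixF.mp (by rw [hf1]; exact Finset.mem_singleton_self _)
  have hF0 : ∀ g ∈ K, ∀ a ∈ (∅ : Finset GolayPt), g a = a := by simp
  have m0 := orbit_mod K hx (r := 23) (by rw [← hox]; exact pow_orderOf_eq_one x) f1
  rw [orbit_inter_eq_one K ∅ hF0 (by simp) hx hxf (by rw [fix23 x (hK hx) hox]; rfl)] at m0
  have l0 := orbit_ncard_le K ∅ hF0 (ω := f1) (by simp)
  have p0 := orbit_ncard_pos K f1
  have s0 := card_step K f1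
  rw [card_Pt] at l0
  unfold Nat.ModEq at m0
  set A0 := (MulAction.orbit K f1).ncard with hA0
  have hA : A0 = 1 ∨ A0 = 24 := by
    simp only [Finset.card_empty] at l0
    omega
  rcases hA with hA | hA
  · exact ⟨f1, fixed_of_orbit_ncard_one K hA⟩
  exfalso
  -- level 1
  set K1 := K ⊓ MulAction.stabilizer (Equiv.Perm GolayPt) f1 with hK1
  have c1 : Nat.card K1 = 425040 := by rw [hc, hA] at s0; omega
  have hK1M : K1 ≤ M24 := inf_le_left.trans hK
  have hF1 := fix_insert K ∅ hF0 f1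
  rw [← hK1] at hF1
  set F1 : Finset GolayPt := insert f1 ∅ with hF1d
  have cF1 : F1.card = 1 := by simp [hF1d]
  obtain ⟨f2, hf2⟩ := exists_notMem_pt F1 (by rw [cF1]; norm_num)
  obtain ⟨c, hc1, hc2⟩ := orb_step K1 hK1M F1 hF1 hf2 fix23 (by rw [c1]; norm_num)
  have l1 := orbit_ncard_le K1 F1 hF1 hf2
  have p1 := orbit_ncard_pos K1 f2
  have s1 := card_step K1 f2
  rw [card_Pt] at l1
  set A1 := (MulAction.orbit K1 f2).ncard with hA1
  have hA1v : A1 = 23 := by omega
  -- level 2
  set K2 := K1 ⊓ MulAction.stabilizer (Equiv.Perm GolayPt) f2 with hK2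
  have c2 : Nat.card K2 = 18480 := by rw [c1, hA1v] at s1; omega
  have hK2M : K2 ≤ M24 := inf_le_left.trans hK1M
  have hF2 := fix_insert K1 F1 hF1 f2
  rw [← hK2] at hF2
  set F2 : Finset GolayPt := insert f2 F1 with hF2d
  have cF2 : F2.card = 2 := by rw [hF2d, Finset.card_insert_of_notMem hf2, cF1]
  obtain ⟨f3, hf3⟩ := exists_notMem_pt F2 (by rw [cF2]; norm_num)
  obtain ⟨c, hc3, hc4⟩ := orb_step K2 hK2M F2 hF2 hf3 fix11 (by rw [c2]; norm_num)
  obtain ⟨c', hc5, hc6⟩ := orb_step K2 hK2M F2 hF2 hf3 fix7 (by rw [c2]; norm_num)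
  have l2 := orbit_ncard_le K2 F2 hF2 hf3
  have p2 := orbit_ncard_pos K2 f3
  have s2 := card_step K2 f3
  rw [card_Pt] at l2
  set A2 := (MulAction.orbit K2 f3).ncard with hA2
  have hA2v : A2 = 22 := by omega
  -- level 3
  set K3 := K2 ⊓ MulAction.stabilizer (Equiv.Perm GolayPt) f3 with hK3
  have c3 : Nat.card K3 = 840 := by rw [c2, hA2v] at s2; omega
  have hK3M : K3 ≤ M24 := inf_le_left.trans hK2M
  have hF3 := fix_insert K2 F2 hF2 f3
  rw [← hK3] at hF3
  set F3 : Finset GolayPt := insert f3 F2 with hF3d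
  have cF3 : F3.card = 3 := by rw [hF3d, Finset.card_insert_of_notMem hf3, cF2]
  obtain ⟨f4, hf4⟩ := exists_notMem_pt F3 (by rw [cF3]; norm_num)
  obtain ⟨c, hc7, hc8⟩ := orb_step K3 hK3M F3 hF3 hf4 fix7 (by rw [c3]; norm_num)
  obtain ⟨c', hc9, hc10⟩ := orb_step K3 hK3M F3 hF3 hf4 fix5 (by rw [c3]; norm_num)
  have l3 := orbit_ncard_le K3 F3 hF3 hf4
  have p3 := orbit_ncard_pos K3 f4
  have s3 := card_step K3 f4
  rw [card_Pt] at l3
  set A3 := (MulAction.orbit K3 f4).ncard with hA3
  have hA3v : A3 = 21 := by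
    have h7 : A3 = 7 ∨ A3 = 14 ∨ A3 = 21 := by omega
    rcases h7 with h | h | h
    · rw [h] at hc10; omega
    · rw [h] at hc10; omega
    · exact h
  -- level 4
  set K4 := K3 ⊓ MulAction.stabilizer (Equiv.Perm GolayPt) f4 with hK4
  have c4 : Nat.card K4 = 40 := by rw [c3, hA3v] at s3; omega
  have hF4 := fix_insert K3 F3 hF3 f4
  rw [← hK4] at hF4
  exact no_order_40 K4 (inf_le_left.trans hK3M) (insert f4 F3)
    (by rw [Finset.card_insert_of_notMem hf4, cF3]) hF4 c4

theorem fixed_point_M23 (K : Subgroup (Equiv.Perm GolayPt)) (hK : K ≤ M24)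
    (hinf : ∀ g ∈ K, g (pt 23) = pt 23) (hc : Nat.card K = 443520) :
    ∃ q, q ≠ pt 23 ∧ ∀ g ∈ K, g q = q := by
  obtain ⟨x, hx, hox⟩ := exists_order K (r := 11) (by rw [hc]; norm_num)
  have hcx := fix11 x (hK hx) hox
  obtain ⟨f, hf, hfne⟩ := Finset.exists_mem_ne (s := fixF x) (by rw [hcx]; norm_num) (pt 23)
  have hxf : x f = f := mem_fixF.mp hf
  have hF : ∀ g ∈ K, ∀ a ∈ ({pt 23} : Finset GolayPt), g a = a := by
    intro g hg a ha
    rw [Finset.mem_singleton.mp ha]; exact hinf g hg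
  have hfF : f ∉ ({pt 23} : Finset GolayPt) := by simpa using hfne
  have m0 := orbit_mod K hx (r := 11) (by rw [← hox]; exact pow_orderOf_eq_one x) f
  rw [orbit_inter_eq_one K _ hF hfF hx hxf (by rw [hcx]; rfl)] at m0
  obtain ⟨c, hc1, hc2⟩ := orb_step K hK _ hF hfF fix7 (by rw [hc]; norm_num)
  have l0 := orbit_ncard_le K _ hF hfF
  have p0 := orbit_ncard_pos K f
  have s0 := card_step K f
  rw [card_Pt] at l0
  unfold Nat.ModEq at m0
  simp only [Finset.card_singleton] at l0 hc1
  set A0 := (MulAction.orbit K f).ncard with hA0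
  have hA : A0 = 1 ∨ A0 = 12 ∨ A0 = 23 := by omega
  rcases hA with hA | hA | hA
  · exact ⟨f, hfne, fixed_of_orbit_ncard_one K hA⟩
  · exfalso; omega
  · exfalso; rw [hc, hA] at s0; omega

/-! ### the normaliser of `M24` and `M23` -/

theorem ptsL_O0 : ptsL 8536111 = [2 ^ 0, 2 ^ 1, 2 ^ 2, 2 ^ 3, 2 ^ 5, 2 ^ 14, 2 ^ 17, 2 ^ 23] := by
  decide +kernel

theorem compl_O0 : ∀ j < 24, (8536111 : ℕ).testBit j = false → (8241104 : ℕ).testBit j = true := by
  decide +kernel

theorem oct_fix_trans {O : Finset GolayPt} (hO : O ∈ octads) {u v : GolayPt} (hu : u ∉ O)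
    (hv : v ∉ O) : ∃ e ∈ M24, (∀ a ∈ O, e a = a) ∧ e u = v := by
  obtain ⟨g, hg, hgO⟩ := norm_O hO
  have tb : ∀ w, w ∉ O → (8241104 : ℕ).testBit (idx (g w)) = true := by
    intro w hw
    apply compl_O0 _ (idx_lt _)
    have : g w ∉ setOf 8536111 := by rw [← hgO, apply_mem_smul_iff]; exact hw
    rw [mem_setOf] at this
    simpa using this
  obtain ⟨e0, he0, he0u⟩ := level_trans2 o16lev (tb u hu) (tb v hv)
  refine ⟨g⁻¹ * e0 * g, M24.mul_mem (M24.mul_mem (M24.inv_mem hg) he0.1) hg, ?_, ?_⟩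
  · apply (fix_conj_iff hgO).mp
    intro a ha
    rw [ptsL_O0] at ha
    have : g * (g⁻¹ * e0 * g) * g⁻¹ = e0 := by group
    rw [this]
    exact he0.2 a ha
  · rw [Equiv.Perm.mul_apply, Equiv.Perm.mul_apply, he0u]
    simp

theorem perm_maps_octad (π : Equiv.Perm GolayPt) {O : Finset GolayPt} (hO : O ∈ octads)
    (hconj : ∀ e ∈ M24, (∀ a ∈ O, e a = a) → π * e * π⁻¹ ∈ M24) : π • O ∈ octads := by
  have hcard : (π • O).card = 8 := by rw [Finset.card_smul_finset]; exact hO.2
  obtain ⟨S, hSO, hS⟩ := Finset.exists_subset_card_eq (s := π • O) (n := 5) (by rw [hcard]; norm_num)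
  obtain ⟨O', ⟨hO', hSO'⟩, huniq⟩ := steiner_octads.2 S hS
  by_contra hne
  have hne' : O' ≠ π • O := fun h => hne (h ▸ hO')
  have hex : ∃ u ∈ O', u ∉ π • O := by
    by_contra hn
    push Not at hn
    exact hne' (Finset.eq_of_subset_of_card_le hn (by rw [hcard, hO'.2]))
  obtain ⟨u, huO', hu⟩ := hex
  have hall : ∀ v, v ∉ π • O → v ∈ O' := by
    intro v hv
    have hu1 : π⁻¹ u ∉ O := by
      intro h; apply hu
      have := (apply_mem_smul_iff π (π⁻¹ u) O).mpr h
      simpa using this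
    have hv1 : π⁻¹ v ∉ O := by
      intro h; apply hv
      have := (apply_mem_smul_iff π (π⁻¹ v) O).mpr h
      simpa using this
    obtain ⟨e, he, hfix, heu⟩ := oct_fix_trans hO hu1 hv1
    have hh := hconj e he hfix
    set h := π * e * π⁻¹ with hh'
    have hhu : h u = v := by
      rw [hh', Equiv.Perm.mul_apply, Equiv.Perm.mul_apply, heu]; simp
    have hfixS : ∀ s ∈ S, h s = s := by
      intro s hs
      obtain ⟨a, ha, rfl⟩ := Finset.mem_smul_finset.mp (hSO hs)
      rw [hh', Equiv.Perm.mul_apply, Equiv.Perm.mul_apply, Equiv.Perm.smul_def]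
      simp [hfix a ha]
    have hS' : S ⊆ h • O' := by
      intro s hs
      rw [← hfixS s hs, apply_mem_smul_iff]
      exact hSO' hs
    have := huniq (h • O') ⟨smul_mem_octads hh hO', hS'⟩
    rw [← hhu, ← this, apply_mem_smul_iff]
    exact huO'
  have hsub : (π • O)ᶜ ⊆ O' := by
    intro v hv
    exact hall v (Finset.mem_compl.mp hv)
  have := Finset.card_le_card hsub
  rw [Finset.card_compl, hcard, hO'.2, card_Pt] at this
  omega

theorem mem_M24_of_octads (π : Equiv.Perm GolayPt) (h : ∀ O ∈ octads, π • O ∈ octads) :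
    π ∈ M24 := by
  rw [M24_eq_octAut]
  show π • octads = octads
  have hsub : π • octads ⊆ octads := by
    rintro _ ⟨O, hO, rfl⟩
    exact h O hO
  have hfin : octads.Finite := Set.toFinite _
  apply Set.eq_of_subset_of_ncard_le hsub _ hfin
  have : (π • octads).ncard = octads.ncard :=
    Set.ncard_image_of_injective _ (MulAction.injective π)
  rw [this]

theorem octB23_isOct : octB23.all (fun o => isOct o && o.testBit 23) = true := by decide +kernel
theorem octB23_span : (basisL.zip octCoef23).all (fun x => Nat.beq (xorSel octB23 x.2) x.1) = true := by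
  decide +kernel

/-- every code support is a symmetric difference of octads through the point `23` -/
theorem CS_induction23 (P : Finset GolayPt → Prop) (h0 : P ∅)
    (hx : ∀ a b, P a → P b → P (symmDiff a b)) (ho : ∀ o ∈ octads, pt 23 ∈ o → P o)
    {A : Finset GolayPt} (hA : A ∈ CS) : P A := by
  have P0 : P (setOf 0) := by rw [setOf_zero]; exact h0
  have Px : ∀ a b, P (setOf a) → P (setOf b) → P (setOf (a ^^^ b)) := by
    intro a b h1 h2
    rw [setOf_xor]
    exact hx _ _ h1 h2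
  have Poct : ∀ b ∈ octB23, P (setOf b) := by
    intro b hb
    have := List.all_eq_true.mp octB23_isOct _ hb
    rw [Bool.and_eq_true] at this
    exact ho _ (setOf_mem_octads this.1) ((pt_mem_setOf (by norm_num) b).mpr this.2)
  have Pbasis : ∀ b ∈ basisL, P (setOf b) := by
    intro b hb
    obtain ⟨i, hi, rfl⟩ := List.getElem_of_mem hb
    have hi' : i < octCoef23.length := hi
    have hz : (basisL[i], octCoef23[i]) ∈ basisL.zip octCoef23 := by
      have : (basisL.zip octCoef23)[i]'(by simp [List.length_zip]; exact ⟨hi, hi'⟩) =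
        (basisL[i], octCoef23[i]) := List.getElem_zip
      rw [← this]; exact List.getElem_mem _
    have := Nat.eq_of_beq_eq_true (List.all_eq_true.mp octB23_span _ hz)
    have h2 := xorSel_induction (fun a => P (setOf a)) P0 Px octB23 Poct octCoef23[i]
    rw [show xorSel octB23 octCoef23[i] = basisL[i] from this] at h2
    exact h2
  obtain ⟨c, _, rfl⟩ := exists_of_mem_supports hA
  exact xorSel_induction (fun a => P (setOf a)) P0 Px basisL Pbasis c

theorem mem_M24_of_octads23 (π : Equiv.Perm GolayPt)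
    (h : ∀ O ∈ octads, pt 23 ∈ O → π • O ∈ octads) : π ∈ M24 := by
  show π • CS = CS
  have hsub : π • CS ⊆ CS := by
    rintro _ ⟨A, hA, rfl⟩
    show π • A ∈ CS
    refine CS_induction23 (fun A => π • A ∈ CS) ?_ ?_ ?_ hA
    · simpa using empty_mem_CS
    · intro a b ha hb
      rw [smul_symmDiff']
      exact symmDiff_mem_supports ha hb
    · intro o ho h23
      exact (h o ho h23).1
  have hfin : CS.Finite := Set.toFinite _
  apply Set.eq_of_subset_of_ncard_le hsub _ hfin
  have : (π • CS).ncard = CS.ncard :=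
    Set.ncard_image_of_injective _ (MulAction.injective π)
  rw [this]

end Cfsg.Agent.Lib.Helper8
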