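import Cfsg.Agent.Lib.Helper8.Cent2BData
import Cfsg.Agent.Lib.Helper8.FixCount
import Cfsg.Agent.Lib.Helper8.Coset4
import Cfsg.Agent.Lib.Helper8.OutM

set_option autoImplicit false

namespace Cfsg.Agent.Lib.Helper8

open Cfsg
open scoped Pointwise

theorem commute_of_commT {T S : ℕ} (hT : validT T = true) (hS : validT S = true)
    (h : commT T S = true) : toPerm T * toPerm S = toPerm S * toPerm T := by
  apply Equiv.ext
  intro p
  have hi := idx_lt p
  rw [← pt_idx p, Equiv.Perm.mul_apply, Equiv.Perm.mul_apply, toPerm_pt hS hi, toPerm_pt hT hi,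
    toPerm_pt hT (img_lt hS hi), toPerm_pt hS (img_lt hT hi),
    Nat.eq_of_beq_eq_true (of_allBelow h _ hi)]

def comm3 (Th T R : ℕ) : Bool :=
  allBelow 24 fun i => Nat.beq (Ucomp Th T (img R i)) (img R (Ucomp Th T i))

theorem comm3_of {Th T R : ℕ} (hTh : validT Th = true) (hT : validT T = true)
    (hR : validT R = true)
    (h : (toPerm Th * toPerm T) * toPerm R = toPerm R * (toPerm Th * toPerm T)) :
    comm3 Th T R = true := by
  rw [comm3, allBelow_iff]
  intro i hi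
  have h1 := congrFun (congrArg DFunLike.coe h) (pt i)
  rw [Equiv.Perm.mul_apply, Equiv.Perm.mul_apply (toPerm R), toPerm_pt hR hi, mul_pt hTh hT hi,
    mul_pt hTh hT (img_lt hR hi), toPerm_pt hR (Ucomp_lt hTh hT hi)] at h1
  have h2 := congrArg idx h1
  rw [idx_pt (Ucomp_lt hTh hT (img_lt hR hi)), idx_pt (img_lt hR (Ucomp_lt hTh hT hi))] at h2
  rw [h2]; exact Nat.beq_refl _

/-- the centraliser in `M24` -/
def Cn (t : Equiv.Perm GolayPt) : Subgroup (Equiv.Perm GolayPt) :=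
  M24 ⊓ Subgroup.centralizer {t}

theorem mem_Cn {t c : Equiv.Perm GolayPt} : c ∈ Cn t ↔ c ∈ M24 ∧ c * t = t * c := by
  rw [Cn, Subgroup.mem_inf, Subgroup.mem_centralizer_singleton_iff]

theorem orbit_eq_setOf (H : Subgroup (Equiv.Perm GolayPt)) (x : GolayPt) (D : ℕ)
    (h1 : ∀ j < 24, D.testBit j = true → ∃ c ∈ H, c x = pt j)
    (h2 : ∀ c ∈ H, D.testBit (idx (c x)) = true) :
    (MulAction.orbit H x).ncard = popc D := by
  have : MulAction.orbit H x = ↑(setOf D) := by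
    ext y
    constructor
    · rintro ⟨⟨c, hc⟩, rfl⟩
      rw [Finset.mem_coe, mem_setOf]
      exact h2 c hc
    · intro hy
      rw [Finset.mem_coe, mem_setOf] at hy
      obtain ⟨c, hc, hcx⟩ := h1 _ (idx_lt y) hy
      exact ⟨⟨c, hc⟩, by show c x = y; rw [hcx, pt_idx]⟩
  rw [this, Set.ncard_coe_finset, card_setOf]

theorem c24_chk : allBelow 24 (fun j => inM24F (getR 120 c24A j) && commT (getR 120 c24A j) R2B &&
    Nat.beq (img (getR 120 c24A j) 23) j) = true := by decide +kernel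

theorem d24_chk : allBelow 24 (fun j => !((6291326 : ℕ).testBit j) ||
    (inM24F (getR 120 d24A j) && commT (getR 120 d24A j) R2B &&
    Nat.beq (img (getR 120 d24A j) 23) 23 && Nat.beq (img (getR 120 d24A j) 1) j)) = true := by
  decide +kernel

theorem Th7_mem : inM24 Th7 = true := by decide +kernel
theorem Th21_mem : inM24 Th21 = true := by decide +kernel
theorem Th7_img : img Th7 23 = 23 ∧ img Th7 0 = 0 ∧ img Th7 1 = 7 ∧ img Th7 2 = 21 := by
  decide +kernel
theorem Th21_img : img Th21 23 = 23 ∧ img Th21 0 = 0 ∧ img Th21 1 = 21 ∧ img Th21 2 = 7 := by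
  decide +kernel
theorem R2B_img : img R2B 23 = 0 ∧ img R2B 1 = 2 ∧ img R2B 7 = 21 ∧ img R2B 21 = 7 := by
  decide +kernel

theorem chk7 : allBelow 960 (fun i => !(comm3 Th7 (getR 120 q960A i) R2B)) = true := by
  decide +kernel
theorem chk21 : allBelow 960 (fun i => !(comm3 Th21 (getR 120 q960A i) R2B)) = true := by
  decide +kernel

theorem cnt16 : countBelow 960 (fun i => commT (getR 120 q960A i) R2B) = 16 := by decide +kernel

theorem C_trans23 : ∀ j < 24, ∃ c ∈ Cn (toPerm R2B), c (pt 23) = pt j := by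
  intro j hj
  have h := of_allBelow c24_chk j hj
  simp only [Bool.and_eq_true, inM24F_eq] at h
  obtain ⟨⟨h1, h2⟩, h3⟩ := h
  have hv := validT_of_inM24 h1
  refine ⟨toPerm (getR 120 c24A j), mem_Cn.mpr ⟨toPerm_mem_M24 h1,
    commute_of_commT hv (validT_of_inM24 R2B_mem) h2⟩, ?_⟩
  rw [toPerm_pt hv (by norm_num), Nat.eq_of_beq_eq_true h3]

theorem C1_trans : ∀ j < 24, (6291326 : ℕ).testBit j = true →
    ∃ c ∈ Cn (toPerm R2B) ⊓ MulAction.stabilizer (Equiv.Perm GolayPt) (pt 23),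
      c (pt 1) = pt j := by
  intro j hj hD
  have h := of_allBelow d24_chk j hj
  rw [hD] at h
  simp only [Bool.not_true, Bool.false_or, Bool.and_eq_true, inM24F_eq] at h
  obtain ⟨⟨⟨h1, h2⟩, h3⟩, h4⟩ := h
  have hv := validT_of_inM24 h1
  refine ⟨toPerm (getR 120 d24A j), ⟨mem_Cn.mpr ⟨toPerm_mem_M24 h1,
    commute_of_commT hv (validT_of_inM24 R2B_mem) h2⟩, ?_⟩, ?_⟩
  · show toPerm (getR 120 d24A j) (pt 23) = pt 23
    rw [toPerm_pt hv (by norm_num), Nat.eq_of_beq_eq_true h3]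
  · rw [toPerm_pt hv (by norm_num), Nat.eq_of_beq_eq_true h4]

theorem comm_apply {c t : Equiv.Perm GolayPt} (h : c * t = t * c) (x : GolayPt) :
    c (t x) = t (c x) := congrFun (congrArg DFunLike.coe h) x

theorem no_coset {Th a b : ℕ} (hTh : inM24 Th = true)
    (himg : img Th 23 = 23 ∧ img Th 0 = 0 ∧ img Th 1 = a ∧ img Th 2 = b) (ha : a < 24)
    (hab : img R2B a = b)
    (chk : allBelow 960 (fun i => !(comm3 Th (getR 120 q960A i) R2B)) = true) :
    ∀ c ∈ Cn (toPerm R2B), c (pt 23) = pt 23 → c (pt 1) ≠ pt a := by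
  intro c hc h23 h1
  obtain ⟨hcM, hcomm⟩ := mem_Cn.mp hc
  have hvR := validT_of_inM24 R2B_mem
  have hv := validT_of_inM24 hTh
  have h0 : c (pt 0) = pt 0 := by
    have := comm_apply hcomm (pt 23)
    rw [toPerm_pt hvR (by norm_num), R2B_img.1, h23, toPerm_pt hvR (by norm_num), R2B_img.1] at this
    exact this
  have h2 : c (pt 2) = pt b := by
    have := comm_apply hcomm (pt 1)
    rw [toPerm_pt hvR (by norm_num), R2B_img.2.1, h1, toPerm_pt hvR ha, hab] at this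
    exact this
  have hs : (toPerm Th)⁻¹ * c ∈ GInv [2 ^ 2, 2 ^ 1, 2 ^ 0, 2 ^ 23] := by
    apply mem_Q0_of (toPerm_mem_M24 hTh) hcM
    · rw [toPerm_pt hv (by norm_num), himg.1, h23]
    · rw [toPerm_pt hv (by norm_num), himg.2.1, h0]
    · rw [toPerm_pt hv (by norm_num), himg.2.2.1, h1]
    · rw [toPerm_pt hv (by norm_num), himg.2.2.2, h2]
  have key := coset_forall (Th := Th) (fun σ => ¬ (σ * toPerm R2B = toPerm R2B * σ))
    (fun T => !(comm3 Th T R2B)) (by
      intro T hT hcT hcm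
      rw [comm3_of hv hT hvR hcm] at hcT
      simp at hcT) chk _ hs
  rw [mul_inv_cancel_left] at key
  exact key hcomm

theorem tbD2B : ∀ j < 24, (j ≠ 23 ∧ j ≠ 0 ∧ j ≠ 7 ∧ j ≠ 21) → (6291326 : ℕ).testBit j = true := by
  decide

theorem card_C2 : Nat.card ↥(Cn (toPerm R2B) ⊓ MulAction.stabilizer (Equiv.Perm GolayPt) (pt 23) ⊓
    MulAction.stabilizer (Equiv.Perm GolayPt) (pt 1)) = 16 := by
  have hvR := validT_of_inM24 R2B_mem
  have hm : ∀ i < 960, validT (getR 120 q960A i) = true ∧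
      toPerm (getR 120 q960A i) ∈ GInv [2 ^ 2, 2 ^ 1, 2 ^ 0, 2 ^ 23] := by
    intro i hi
    have := of_allBelow q960_mem i hi
    rw [invTestF_eq] at this
    exact toPerm_mem_GInv this
  have hmono := strictMono_of_incCheck q960_inc
  have h := ncard_enum_filter (GInv [2 ^ 2, 2 ^ 1, 2 ^ 0, 2 ^ 23] : Set (Equiv.Perm GolayPt))
    (fun i => toPerm (getR 120 q960A i)) 960 (fun i hi => (hm i hi).2)
    (fun a ha => by
      obtain ⟨i, hi, e⟩ := list_complete card_P4 q960_mem q960_inc a ha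
      exact ⟨i, hi, e.symm⟩)
    (by
      intro i j hi hj e
      have e' := toPerm_inj (hm i hi).1 (hm j hj).1 (getR_lt _ _ _) (getR_lt _ _ _) e
      by_contra hne
      rcases Nat.lt_or_gt_of_ne hne with h | h
      · exact absurd e' (Nat.ne_of_lt (hmono i j h hj))
      · exact absurd e'.symm (Nat.ne_of_lt (hmono j i h hi)))
    (fun σ => σ * toPerm R2B = toPerm R2B * σ) (fun i => commT (getR 120 q960A i) R2B)
    (fun i hi => ⟨commute_of_commT (hm i hi).1 hvR, commT_of_commute (hm i hi).1 hvR⟩)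
  rw [cnt16] at h
  rw [← h]
  show Set.ncard _ = _
  congr 1
  ext c
  simp only [SetLike.mem_coe, Set.mem_ofPred_eq]
  constructor
  · rintro ⟨⟨hc, h23⟩, h1⟩
    obtain ⟨hcM, hcomm⟩ := mem_Cn.mp hc
    have h23' : c (pt 23) = pt 23 := h23
    have h1' : c (pt 1) = pt 1 := h1
    have h0 : c (pt 0) = pt 0 := by
      have := comm_apply hcomm (pt 23)
      rw [toPerm_pt hvR (by norm_num), R2B_img.1, h23', toPerm_pt hvR (by norm_num), R2B_img.1]
        at this
      exact this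
    have h2 : c (pt 2) = pt 2 := by
      have := comm_apply hcomm (pt 1)
      rw [toPerm_pt hvR (by norm_num), R2B_img.2.1, h1', toPerm_pt hvR (by norm_num), R2B_img.2.1]
        at this
      exact this
    refine ⟨?_, hcomm⟩
    have := mem_Q0_of (h := 1) (g' := c) M24.one_mem hcM h23'.symm h0.symm h1'.symm h2.symm
    simpa using this
  · rintro ⟨hc, hcomm⟩
    exact ⟨⟨mem_Cn.mpr ⟨hc.1, hcomm⟩, GInv_fix hc (by norm_num) (by simp)⟩,
      GInv_fix hc (by norm_num) (by simp)⟩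

theorem card_Cn : Nat.card ↥(Cn (toPerm R2B)) = 7680 := by
  have hvR := validT_of_inM24 R2B_mem
  rw [card_step (Cn (toPerm R2B)) (pt 23),
    card_step (Cn (toPerm R2B) ⊓ MulAction.stabilizer (Equiv.Perm GolayPt) (pt 23)) (pt 1),
    card_C2, orbit_eq_setOf _ _ 16777215 (fun j hj _ => C_trans23 j hj)
      (fun c _ => (testBit_full _).mpr (idx_lt _)),
    orbit_eq_setOf _ _ 6291326 C1_trans ?_]
  · decide +kernel
  · rintro c ⟨hc, h23⟩
    have h23' : c (pt 23) = pt 23 := h23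
    obtain ⟨hcM, hcomm⟩ := mem_Cn.mp hc
    have h0 : c (pt 0) = pt 0 := by
      have := comm_apply hcomm (pt 23)
      rw [toPerm_pt hvR (by norm_num), R2B_img.1, h23', toPerm_pt hvR (by norm_num), R2B_img.1]
        at this
      exact this
    apply tbD2B _ (idx_lt _)
    refine ⟨idx_ne ?_, idx_ne ?_, idx_ne ?_, idx_ne ?_⟩
    · intro h
      have := c.injective (h.trans h23'.symm)
      exact absurd (congrArg idx this) (by rw [idx_pt (by norm_num), idx_pt (by norm_num)]; decide)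
    · intro h
      have := c.injective (h.trans h0.symm)
      exact absurd (congrArg idx this) (by rw [idx_pt (by norm_num), idx_pt (by norm_num)]; decide)
    · exact no_coset Th7_mem Th7_img (by norm_num) R2B_img.2.2.1 chk7 c hc h23'
    · exact no_coset Th21_mem Th21_img (by norm_num) R2B_img.2.2.2 chk21 c hc h23'

theorem Cn_trans (x y : GolayPt) : ∃ c ∈ Cn (toPerm R2B), c x = y := by
  obtain ⟨a, ha, hax⟩ := C_trans23 _ (idx_lt x)
  obtain ⟨b, hb, hby⟩ := C_trans23 _ (idx_lt y)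
  rw [pt_idx] at hax hby
  refine ⟨b * a⁻¹, (Cn _).mul_mem hb ((Cn _).inv_mem ha), ?_⟩
  rw [Equiv.Perm.mul_apply, ← hax]
  simp [hby]

theorem tetfix_sextets {T : ℕ} (hT : validT T = true) :
    {S : Finset (Finset GolayPt) | S ∈ sextets ∧ ∀ X ∈ S, toPerm T • X = X}.ncard =
      countBelow 1771 (fun i => (objL 6 sxA i).all (fixMask T)) :=
  ncard_enum_filter sextets (fun i => famOf (objL 6 sxA i)) 1771 sx_hmem sx_hsurj sx_hinj _ _
    (fun i _ => by
      rw [List.all_eq_true]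
      constructor
      · intro h X hX
        obtain ⟨a, ha, rfl⟩ := mem_famOf.mp hX
        exact (fixMask_iff hT a).mp (h a ha)
      · intro h a ha
        exact (fixMask_iff hT a).mpr (h _ (mem_famOf.mpr ⟨a, ha, rfl⟩)))

theorem tetfix_R2B :
    {S : Finset (Finset GolayPt) | S ∈ sextets ∧ ∀ X ∈ S, toPerm R2B • X = X}.ncard = 1 := by
  rw [tetfix_sextets (validT_of_inM24 R2B_mem)]; decide +kernel

theorem Cn_sextet : ∃ S ∈ sextets, ∀ c ∈ Cn (toPerm R2B), c • S = S := by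
  obtain ⟨S0, hS0⟩ := Set.ncard_eq_one.mp tetfix_R2B
  have hmem : S0 ∈ {S : Finset (Finset GolayPt) | S ∈ sextets ∧ ∀ X ∈ S, toPerm R2B • X = X} := by
    rw [hS0]; rfl
  refine ⟨S0, hmem.1, fun c hc => ?_⟩
  obtain ⟨hcM, hcomm⟩ := mem_Cn.mp hc
  have : c • S0 ∈ {S : Finset (Finset GolayPt) | S ∈ sextets ∧ ∀ X ∈ S, toPerm R2B • X = X} := by
    refine ⟨smul_mem_sextets hcM hmem.1, fun X hX => ?_⟩
    obtain ⟨Y, hY, rfl⟩ := Finset.mem_smul_finset.mp hX
    rw [← mul_smul, ← hcomm, mul_smul, hmem.2 Y hY]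
  rw [hS0] at this
  exact this

theorem conj_mem_Cn {k t c : Equiv.Perm GolayPt} (hk : k ∈ M24) :
    k * c * k⁻¹ ∈ Cn (k * t * k⁻¹) ↔ c ∈ M24 ∧ c * t = t * c := by
  rw [mem_Cn, conj_mem_M24_iff hk]
  have e1 : k * c * k⁻¹ * (k * t * k⁻¹) = k * (c * t) * k⁻¹ := by group
  have e2 : k * t * k⁻¹ * (k * c * k⁻¹) = k * (t * c) * k⁻¹ := by group
  rw [e1, e2]
  constructor
  · rintro ⟨h1, h2⟩
    exact ⟨h1, mul_left_cancel (mul_right_cancel h2)⟩
  · rintro ⟨h1, h2⟩
    exact ⟨h1, by rw [h2]⟩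

theorem cent2B_main (t : Equiv.Perm GolayPt) (ht : t ∈ M24) (h₂ : orderOf t = 2)
    (h₀ : ∀ p, t p ≠ p) :
    Nat.card {c : Equiv.Perm GolayPt // c ∈ M24 ∧ c * t = t * c} = 7680 ∧
    (∀ p q : GolayPt, ∃ c ∈ M24, c * t = t * c ∧ c p = q) ∧
    ∃ S ∈ sextets, t • S = S ∧ ∀ c ∈ M24, c * t = t * c → c • S = S := by
  have hf : fixF t = ∅ := by
    rw [Finset.eq_empty_iff_forall_notMem]
    intro p hp
    exact h₀ p (mem_fixF.mp hp)
  obtain ⟨k, hk, hkt⟩ := to_R2B ht h₂ hf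
  have hiff : ∀ c : Equiv.Perm GolayPt, k * c * k⁻¹ ∈ Cn (toPerm R2B) ↔
      c ∈ M24 ∧ c * t = t * c := by
    intro c
    rw [← hkt]
    exact conj_mem_Cn hk
  refine ⟨?_, ?_, ?_⟩
  · rw [← card_Cn]
    apply Nat.card_congr
    refine ⟨fun c => ⟨k * c.1 * k⁻¹, (hiff c.1).mpr c.2⟩,
      fun x => ⟨k⁻¹ * x.1 * k, (hiff _).mp (by
        have : k * (k⁻¹ * x.1 * k) * k⁻¹ = x.1 := by group
        rw [this]; exact x.2)⟩, ?_, ?_⟩
    · intro c
      apply Subtype.ext
      show k⁻¹ * (k * c.1 * k⁻¹) * k = c.1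
      group
    · intro x
      apply Subtype.ext
      show k * (k⁻¹ * x.1 * k) * k⁻¹ = x.1
      group
  · intro p q
    obtain ⟨c, hc, hcp⟩ := Cn_trans (k p) (k q)
    have hc' : k * (k⁻¹ * c * k) * k⁻¹ ∈ Cn (toPerm R2B) := by
      have : k * (k⁻¹ * c * k) * k⁻¹ = c := by group
      rw [this]; exact hc
    obtain ⟨h1, h2⟩ := (hiff _).mp hc'
    refine ⟨k⁻¹ * c * k, h1, h2, ?_⟩
    rw [Equiv.Perm.mul_apply, Equiv.Perm.mul_apply, hcp]
    simp
  · obtain ⟨S0, hS0, hfix⟩ := Cn_sextet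
    have key : ∀ c ∈ M24, c * t = t * c → c • (k⁻¹ • S0) = k⁻¹ • S0 := by
      intro c hc hcomm
      have h1 := hfix _ ((hiff c).mpr ⟨hc, hcomm⟩)
      rw [mul_smul, mul_smul] at h1
      rw [eq_inv_smul_iff]
      exact h1
    exact ⟨k⁻¹ • S0, smul_mem_sextets (M24.inv_mem hk) hS0, key t ht rfl, key⟩

end Cfsg.Agent.Lib.Helper8
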