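import Cfsg.Agent.Lib.Helper8.Pair

set_option autoImplicit false

namespace Cfsg.Agent.Lib.Helper8

def c24A : ℕ := 685715739696193671152507749728803467954437585563336564587578076028345234153099794598688385972379832181309994420910774737412470993132478720690526128012508029600150324434638229981714722738706777724275432668713217300141090075860849536531030285626058374402405827507901468114468001561084578800248262809418777133895412662409770436970040981291338430392997068959103443293803903365367526303667193073099018849189040826177240085159127036628545295460423380122663570503408778270557687168603520976264678167123706635823832603384122389101411907356227930530236717721341355083180473439006288512808327157533203506358051350471423904410359042696425210354962415078426438206773182119544503210023829721262717000340433765961729712919697985726994999726541682067471869214684256835011901900607909678433226288738983115080656839633423187133954870311122284040681603432058614456982884886397519071287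
def d24A : ℕ := 685715739696193671152507749728803467983545867929253537345217881015391642722563882407171881555505851792538265901596689981873423425202387141033035891641605156953866094173664813859200871601995437036668983970044175330436586851850922800430542671107746434003298268340689810227098605281263534774278176131777627442421509645838321330719860199601582223833546778942464319130517139575081647684296596283011987535022097504790768187297542377028560166702260097318024230406034326203858680688880270676245007763960685440042091063530487248898980519929417795341990771060527971234944677874288382446705840033771674465433518589999413521426439791200812615754149137861743657406756515980395046525342689567223919688270030262294144789730960097202606888420372982591151651773468458865610948037927353335500288373823043381531327798152591092390080895729641622766684482824095914499563767237953514997792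
def Th7 : ℕ := 959337193114426229365462987199501536
def Th21 : ℕ := 962491978666298094120144181115559584

end Cfsg.Agent.Lib.Helper8
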