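import Cfsg.Agent.Lib.Helper8.Classes

set_option autoImplicit false

namespace Cfsg.Agent.Lib.Helper8

open scoped Pointwise

variable {G X Y : Type*} [Group G] [MulAction G X] [MulAction G Y]

theorem mem_orbit_subgroup {H : Subgroup G} {x a : X} :
    a ∈ MulAction.orbit H x ↔ ∃ h ∈ H, h • x = a := by
  constructor
  · rintro ⟨h, rfl⟩; exact ⟨h.1, h.2, rfl⟩
  · rintro ⟨h, hh, rfl⟩; exact ⟨⟨h, hh⟩, rfl⟩

theorem mem_orbit_stab_smul (g : G) (y : Y) (x a : X) :
    g • a ∈ MulAction.orbit (MulAction.stabilizer G (g • y)) (g • x) ↔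
      a ∈ MulAction.orbit (MulAction.stabilizer G y) x := by
  rw [mem_orbit_subgroup, mem_orbit_subgroup]
  constructor
  · rintro ⟨h, hh, e⟩
    refine ⟨g⁻¹ * h * g, ?_, ?_⟩
    · rw [MulAction.mem_stabilizer_iff] at hh ⊢
      rw [mul_smul, mul_smul, hh, inv_smul_smul]
    · rw [mul_smul, mul_smul, e, inv_smul_smul]
  · rintro ⟨h, hh, rfl⟩
    refine ⟨g * h * g⁻¹, ?_, ?_⟩
    · rw [MulAction.mem_stabilizer_iff] at hh ⊢
      rw [mul_smul, mul_smul, inv_smul_smul, hh]
    · rw [mul_smul, mul_smul, inv_smul_smul]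

theorem orbit_stab_smul (g : G) (y : Y) (x : X) :
    MulAction.orbit (MulAction.stabilizer G (g • y)) (g • x) =
      g • MulAction.orbit (MulAction.stabilizer G y) x := by
  ext a
  rw [Set.mem_smul_set_iff_inv_smul_mem, ← mem_orbit_stab_smul g y x, smul_inv_smul]

theorem ncard_orbit_stab_smul (g : G) (y : Y) (x : X) :
    (MulAction.orbit (MulAction.stabilizer G (g • y)) (g • x)).ncard =
      (MulAction.orbit (MulAction.stabilizer G y) x).ncard := by
  rw [orbit_stab_smul, Set.ncard_smul_set]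

/-- `A` is the union of orbits of the stabiliser of `y`, of the listed sizes -/
def Decomp (G : Type*) {X Y : Type*} [Group G] [MulAction G X] [MulAction G Y] (y : Y) (A : Set X)
    (cs : List ℕ) : Prop :=
  ∃ r : ℕ → X, (∀ l < cs.length, r l ∈ A ∧
      (MulAction.orbit (MulAction.stabilizer G y) (r l)).ncard = cs.getD l 0) ∧
    ∀ a, a ∈ A ↔ ∃ l < cs.length, a ∈ MulAction.orbit (MulAction.stabilizer G y) (r l)

theorem Decomp.smul {y : Y} {A : Set X} {cs : List ℕ} (h : Decomp G y A cs) (g : G)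
    (hA : ∀ a, g • a ∈ A ↔ a ∈ A) : Decomp G (g • y) A cs := by
  obtain ⟨r, h1, h2⟩ := h
  refine ⟨fun l => g • r l, ?_, ?_⟩
  · intro l hl
    exact ⟨(hA _).mpr (h1 l hl).1, by rw [ncard_orbit_stab_smul, (h1 l hl).2]⟩
  · intro a
    have e : a = g • (g⁻¹ • a) := (smul_inv_smul g a).symm
    rw [e, hA, h2]
    constructor
    · rintro ⟨l, hl, h⟩; exact ⟨l, hl, (mem_orbit_stab_smul g y _ _).mpr h⟩
    · rintro ⟨l, hl, h⟩; exact ⟨l, hl, (mem_orbit_stab_smul g y _ _).mp h⟩

theorem Decomp.three {y : Y} {A : Set X} {c0 c1 c2 : ℕ} (h : Decomp G y A [c0, c1, c2]) :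
    ∃ X₁ ∈ A, ∃ X₂ ∈ A, ∃ X₃ ∈ A,
      (MulAction.orbit (MulAction.stabilizer G y) X₁).ncard = c0 ∧
      (MulAction.orbit (MulAction.stabilizer G y) X₂).ncard = c1 ∧
      (MulAction.orbit (MulAction.stabilizer G y) X₃).ncard = c2 ∧
      A = MulAction.orbit (MulAction.stabilizer G y) X₁ ∪
        MulAction.orbit (MulAction.stabilizer G y) X₂ ∪
        MulAction.orbit (MulAction.stabilizer G y) X₃ := by
  obtain ⟨r, h1, h2⟩ := h
  refine ⟨r 0, (h1 0 (by simp)).1, r 1, (h1 1 (by simp)).1, r 2, (h1 2 (by simp)).1,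
    (h1 0 (by simp)).2, (h1 1 (by simp)).2, (h1 2 (by simp)).2, ?_⟩
  ext a
  rw [h2]
  simp only [Set.mem_union, List.length_cons, List.length_nil]
  constructor
  · rintro ⟨l, hl, h⟩
    interval_cases l
    · exact Or.inl (Or.inl h)
    · exact Or.inl (Or.inr h)
    · exact Or.inr h
  · rintro ((h | h) | h)
    · exact ⟨0, by norm_num, h⟩
    · exact ⟨1, by norm_num, h⟩
    · exact ⟨2, by norm_num, h⟩

theorem Decomp.four {y : Y} {A : Set X} {c0 c1 c2 c3 : ℕ} (h : Decomp G y A [c0, c1, c2, c3]) :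
    ∃ X₁ ∈ A, ∃ X₂ ∈ A, ∃ X₃ ∈ A, ∃ X₄ ∈ A,
      (MulAction.orbit (MulAction.stabilizer G y) X₁).ncard = c0 ∧
      (MulAction.orbit (MulAction.stabilizer G y) X₂).ncard = c1 ∧
      (MulAction.orbit (MulAction.stabilizer G y) X₃).ncard = c2 ∧
      (MulAction.orbit (MulAction.stabilizer G y) X₄).ncard = c3 ∧
      A = MulAction.orbit (MulAction.stabilizer G y) X₁ ∪
        MulAction.orbit (MulAction.stabilizer G y) X₂ ∪
        MulAction.orbit (MulAction.stabilizer G y) X₃ ∪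
        MulAction.orbit (MulAction.stabilizer G y) X₄ := by
  obtain ⟨r, h1, h2⟩ := h
  refine ⟨r 0, (h1 0 (by simp)).1, r 1, (h1 1 (by simp)).1, r 2, (h1 2 (by simp)).1,
    r 3, (h1 3 (by simp)).1,
    (h1 0 (by simp)).2, (h1 1 (by simp)).2, (h1 2 (by simp)).2, (h1 3 (by simp)).2, ?_⟩
  ext a
  rw [h2]
  simp only [Set.mem_union, List.length_cons, List.length_nil]
  constructor
  · rintro ⟨l, hl, h⟩
    interval_cases l
    · exact Or.inl (Or.inl (Or.inl h))
    · exact Or.inl (Or.inl (Or.inr h))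
    · exact Or.inl (Or.inr h)
    · exact Or.inr h
  · rintro (((h | h) | h) | h)
    · exact ⟨0, by norm_num, h⟩
    · exact ⟨1, by norm_num, h⟩
    · exact ⟨2, by norm_num, h⟩
    · exact ⟨3, by norm_num, h⟩

theorem orbit_stab_self (y : X) : MulAction.orbit (MulAction.stabilizer G y) y = {y} := by
  ext a
  rw [mem_orbit_subgroup, Set.mem_singleton_iff]
  constructor
  · rintro ⟨h, hh, rfl⟩; exact hh
  · rintro rfl; exact ⟨1, Subgroup.one_mem _, one_smul _ _⟩

/-- the orbit of size one in a decomposition of a set containing the base point itself -/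
theorem Decomp.orbit_zero {y : X} {A : Set X} {cs : List ℕ} (h : Decomp G y A (1 :: cs))
    (hy : y ∈ A) (hcs : ∀ c ∈ cs, c ≠ 1) :
    ∃ r : ℕ → X, (∀ l < cs.length, r l ∈ A ∧
      (MulAction.orbit (MulAction.stabilizer G y) (r l)).ncard = cs.getD l 0) ∧
    ∀ a, a ∈ A ↔ a = y ∨ ∃ l < cs.length, a ∈ MulAction.orbit (MulAction.stabilizer G y) (r l) := by
  obtain ⟨r, h1, h2⟩ := h
  obtain ⟨l, hl, hyl⟩ := (h2 y).mp hy
  have e : MulAction.orbit (MulAction.stabilizer G y) (r l) = {y} := by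
    rw [← MulAction.orbit_eq_iff.mpr hyl, orbit_stab_self]
  have hl0 : l = 0 := by
    by_contra hne
    obtain ⟨m, rfl⟩ := Nat.exists_eq_succ_of_ne_zero hne
    have h3 := (h1 (m + 1) hl).2
    rw [e, Set.ncard_singleton, List.getD_cons_succ] at h3
    have hm : m < cs.length := by simpa using hl
    rw [List.getD_eq_getElem _ _ hm] at h3
    exact hcs _ (List.getElem_mem hm) h3.symm
  subst hl0
  refine ⟨fun l => r (l + 1), ?_, ?_⟩
  · intro l hl
    have := h1 (l + 1) (by simpa using hl)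
    rwa [List.getD_cons_succ] at this
  · intro a
    rw [h2]
    constructor
    · rintro ⟨l, hl, h⟩
      rcases Nat.eq_zero_or_pos l with rfl | hpos
      · rw [e] at h; exact Or.inl h
      · obtain ⟨m, rfl⟩ := Nat.exists_eq_succ_of_ne_zero (Nat.pos_iff_ne_zero.mp hpos)
        exact Or.inr ⟨m, by simpa using hl, h⟩
    · rintro (rfl | ⟨l, hl, h⟩)
      · exact ⟨0, by simp, by rw [e]; rfl⟩
      · exact ⟨l + 1, by simpa using hl, h⟩

theorem isCoatom_stabilizer_smul (g : G) (a : X) (h : IsCoatom (MulAction.stabilizer G a)) :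
    IsCoatom (MulAction.stabilizer G (g • a)) := by
  rw [MulAction.stabilizer_smul_eq_stabilizer_map_conj]
  exact ((MulAut.conj g).mapSubgroup.isCoatom_iff (a := MulAction.stabilizer G a)).mpr h

end Cfsg.Agent.Lib.Helper8
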