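import Cfsg.Agent.Lib.Helper8.Fam
import Cfsg.Agent.Lib.Helper8.Decomp

set_option autoImplicit false

namespace Cfsg.Agent.Lib.Helper8

open Cfsg
open scoped Pointwise

def clsCheck (N : ℕ) (cs : List ℕ) (lab ridx : ℕ → ℕ) : Bool :=
  allBelow N (fun i => Nat.blt (lab i) cs.length) &&
    allBelow cs.length (fun l => Nat.blt (ridx l) N &&
      Nat.beq (countBelow N (fun i => Nat.beq (lab i) l)) (cs.getD l 0))

theorem cntLab_eq (N : ℕ) (lab : ℕ → ℕ) (l : ℕ) :
    cntLab N lab l = countBelow N (fun i => Nat.beq (lab i) l) := by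
  rw [countBelow_eq, cntLab]
  congr 1
  apply Finset.filter_congr
  intro i _
  rw [Nat.beq_eq]

theorem clsCheck_spec {N : ℕ} {cs : List ℕ} {lab ridx : ℕ → ℕ}
    (h : clsCheck N cs lab ridx = true) :
    (∀ i < N, lab i < cs.length) ∧ (∀ l < cs.length, ridx l < N) ∧
      ∀ l < cs.length, cntLab N lab l = cs.getD l 0 := by
  rw [clsCheck, Bool.and_eq_true] at h
  refine ⟨fun i hi => Nat.le_of_ble_eq_true (of_allBelow h.1 i hi), ?_, ?_⟩
  · intro l hl
    have := of_allBelow h.2 l hl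
    rw [Bool.and_eq_true] at this
    exact Nat.le_of_ble_eq_true this.1
  · intro l hl
    have := of_allBelow h.2 l hl
    rw [Bool.and_eq_true] at this
    rw [cntLab_eq]
    exact Nat.eq_of_beq_eq_true this.2

theorem card_stab_M24 {Y : Type*} [MulAction (Equiv.Perm GolayPt) Y] (y0 : Y) :
    Nat.card (MulAction.stabilizer M24 y0) =
      Nat.card ↥(M24 ⊓ MulAction.stabilizer (Equiv.Perm GolayPt) y0) := by
  have h2 : MulAction.stabilizer M24 y0 =
      (M24 ⊓ MulAction.stabilizer (Equiv.Perm GolayPt) y0).subgroupOf M24 := by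
    ext g
    simp only [MulAction.mem_stabilizer_iff, Subgroup.mem_subgroupOf, Subgroup.mem_inf,
      SetLike.coe_mem, true_and]
    rfl
  rw [h2]
  exact Nat.card_congr (Subgroup.subgroupOfEquivOfLe inf_le_left).toEquiv

section

variable {C : Type} {X Y : Type*} [MulAction (Equiv.Perm GolayPt) X]
  [MulAction (Equiv.Perm GolayPt) Y]

/-- the orbit certificate, read in the group `M24` -/
theorem horb_of_cert (y0 : Y) (tstY : ℕ → Bool)
    (hY : ∀ T, validT T = true → tstY T = true → toPerm T • y0 = y0)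
    (interp : C → X) (act : ℕ → C → C) (eqv : C → C → Bool)
    (hact : ∀ T, validT T = true → ∀ c, interp (act T c) = toPerm T • interp c)
    (heqv : ∀ a b, eqv a b = true → interp a = interp b)
    (obj : ℕ → C) (N : ℕ) (Ts : List ℕ) (hTs : Ts.all (fun T => inM24F T && tstY T) = true)
    (ridx lab par gn lev : ℕ → ℕ)
    (hcert : orbCheckC Ts act eqv (fun l => obj (ridx l)) obj lab par gn lev N = true) :
    ∀ i < N, ∃ h ∈ MulAction.stabilizer M24 y0,
      h • interp (obj (ridx (lab i))) = interp (obj i) := by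
  have hT : ∀ T ∈ Ts, validT T = true ∧
      toPerm T ∈ M24 ⊓ MulAction.stabilizer (Equiv.Perm GolayPt) y0 := by
    intro T hT
    have := List.all_eq_true.mp hTs T hT
    rw [Bool.and_eq_true, inM24F_eq] at this
    exact ⟨validT_of_inM24 this.1, toPerm_mem_M24 this.1, hY T (validT_of_inM24 this.1) this.2⟩
  intro i hi
  obtain ⟨g, hg, e⟩ := orbitC_of_check (M24 ⊓ MulAction.stabilizer (Equiv.Perm GolayPt) y0) interp
    Ts act eqv (fun T h => (hT T h).2) (fun T h => hact T (hT T h).1) heqv _ obj lab par gn lev N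
    hcert i hi
  exact ⟨⟨g, hg.1⟩, hg.2, e⟩

theorem decomp_of_cert (y0 : Y) (tstY : ℕ → Bool)
    (hY : ∀ T, validT T = true → tstY T = true → toPerm T • y0 = y0)
    (A : Set X) (hAinv : ∀ g ∈ M24, ∀ a ∈ A, g • a ∈ A)
    (interp : C → X) (act : ℕ → C → C) (eqv : C → C → Bool)
    (hact : ∀ T, validT T = true → ∀ c, interp (act T c) = toPerm T • interp c)
    (heqv : ∀ a b, eqv a b = true → interp a = interp b)
    (obj : ℕ → C) (N : ℕ) (hmem : ∀ i < N, interp (obj i) ∈ A)
    (hsurj : ∀ a ∈ A, ∃ i < N, interp (obj i) = a)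
    (hinj : ∀ i j, i < N → j < N → interp (obj i) = interp (obj j) → i = j)
    (Ts : List ℕ) (hTs : Ts.all (fun T => inM24F T && tstY T) = true)
    (ridx lab par gn lev : ℕ → ℕ)
    (hcert : orbCheckC Ts act eqv (fun l => obj (ridx l)) obj lab par gn lev N = true)
    (cs : List ℕ) (hcls : clsCheck N cs lab ridx = true) (cardH : ℕ)
    (hcardH : Nat.card (MulAction.stabilizer M24 y0) = cardH)
    (hdiv : ∀ J ∈ (Finset.range cs.length).powerset, ∀ l ∈ J,
      (∑ j ∈ J, cs.getD j 0) ∣ cardH → J = {l}) :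
    Decomp M24 y0 A cs := by
  obtain ⟨c1, c2, c3⟩ := clsCheck_spec hcls
  have horb := horb_of_cert y0 tstY hY interp act eqv hact heqv obj N Ts hTs ridx lab par gn lev
    hcert
  have key := orbit_eq_class (G := M24) (MulAction.stabilizer M24 y0) (fun i => interp (obj i)) N
    cs.length lab (fun l => interp (obj (ridx l))) hinj c1 horb
    (fun h _ i hi => by
      obtain ⟨j, hj, e⟩ := hsurj _ (hAinv h.1 h.2 _ (hmem i hi))
      exact ⟨j, hj, e⟩)
    (fun l hl => ⟨ridx l, c2 l hl, rfl⟩)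
    (fun J hJ l hl hd => by
      apply hdiv J hJ l hl
      rw [← hcardH]
      have e : ∑ j ∈ J, cs.getD j 0 = ∑ j ∈ J, cntLab N lab j :=
        Finset.sum_congr rfl fun j hj =>
          (c3 j (Finset.mem_range.mp (Finset.mem_powerset.mp hJ hj))).symm
      rw [e]; exact hd)
  refine ⟨fun l => interp (obj (ridx l)), ?_, ?_⟩
  · intro l hl
    exact ⟨hmem _ (c2 l hl), by rw [(key l hl).1, c3 l hl]⟩
  · intro a
    constructor
    · intro ha
      obtain ⟨i, hi, rfl⟩ := hsurj a ha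
      exact ⟨lab i, c1 i hi, ((key (lab i) (c1 i hi)).2 i hi).mpr rfl⟩
    · rintro ⟨l, hl, ⟨h, rfl⟩⟩
      exact hAinv h.1.1 h.1.2 _ (hmem _ (c2 l hl))

end

section

variable {C : Type} {X : Type*} [MulAction (Equiv.Perm GolayPt) X]

theorem coatom_of_cert (tstY : ℕ → Bool) (A : Set X) (hAinv : ∀ g ∈ M24, ∀ a ∈ A, g • a ∈ A)
    (interp : C → X) (act : ℕ → C → C) (eqv : C → C → Bool)
    (hact : ∀ T, validT T = true → ∀ c, interp (act T c) = toPerm T • interp c)
    (heqv : ∀ a b, eqv a b = true → interp a = interp b)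
    (obj : ℕ → C) (N : ℕ) (hmem : ∀ i < N, interp (obj i) ∈ A)
    (hsurj : ∀ a ∈ A, ∃ i < N, interp (obj i) = a)
    (hinj : ∀ i j, i < N → j < N → interp (obj i) = interp (obj j) → i = j)
    (Ts : List ℕ) (ridx lab par gn lev : ℕ → ℕ)
    (hY : ∀ T, validT T = true → tstY T = true →
      toPerm T • interp (obj (ridx 0)) = interp (obj (ridx 0)))
    (htrans : ∀ a ∈ A, ∃ g ∈ M24, g • interp (obj (ridx 0)) = a)
    (hTs : Ts.all (fun T => inM24F T && tstY T) = true)
    (hcert : orbCheckC Ts act eqv (fun l => obj (ridx l)) obj lab par gn lev N = true)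
    (cs : List ℕ) (hcls : clsCheck N (1 :: cs) lab ridx = true) (hN : 1 < N)
    (hdiv : ∀ J ∈ (Finset.range (1 :: cs).length).powerset, 0 ∈ J →
      (∑ j ∈ J, (1 :: cs).getD j 0) ∣ N → J = {0} ∨ (∑ j ∈ J, (1 :: cs).getD j 0) = N) :
    IsCoatom (MulAction.stabilizer M24 (interp (obj (ridx 0)))) := by
  obtain ⟨c1, c2, c3⟩ := clsCheck_spec hcls
  have horb := horb_of_cert (interp (obj (ridx 0))) tstY hY interp act eqv hact heqv obj N Ts hTs
    ridx lab par gn lev hcert
  have hsum : ∀ J ∈ (Finset.range (1 :: cs).length).powerset,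
      ∑ j ∈ J, (1 :: cs).getD j 0 = ∑ j ∈ J, cntLab N lab j := fun J hJ =>
    Finset.sum_congr rfl fun j hj =>
      (c3 j (Finset.mem_range.mp (Finset.mem_powerset.mp hJ hj))).symm
  apply isCoatom_stabilizer_of_classes (G := M24) (fun i => interp (obj i)) N (1 :: cs).length lab
    (fun l => interp (obj (ridx l))) _ hinj c1 horb _ 0 (by simp) rfl
    (by rw [c3 0 (by simp)]; rfl) hN
    (fun J hJ h0 hd => by
      rw [← hsum J hJ] at hd ⊢
      exact hdiv J hJ h0 hd)
  intro x
  constructor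
  · rintro ⟨g, rfl⟩
    exact hsurj _ (hAinv g.1 g.2 _ (hmem _ (c2 0 (by simp))))
  · rintro ⟨i, hi, rfl⟩
    obtain ⟨g, hg, e⟩ := htrans _ (hmem i hi)
    exact ⟨⟨g, hg⟩, e⟩

end

end Cfsg.Agent.Lib.Helper8
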