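import Mathlib

set_option autoImplicit false

namespace Cfsg.Agent.Lib.Helper8

open scoped Pointwise

section combinatorics

variable {X : Type*} (f : ℕ → X) (N k : ℕ) (lab : ℕ → ℕ) (r : ℕ → X)

/-- number of indices with a given label -/
def cntLab (N : ℕ) (lab : ℕ → ℕ) (l : ℕ) : ℕ := ((Finset.range N).filter fun i => lab i = l).card

open Classical in
/-- the size of a union of classes -/
theorem ncard_of_classes (hinj : ∀ i j, i < N → j < N → f i = f j → i = j)
    (hlab : ∀ i < N, lab i < k) (B : Set X) (hBA : ∀ b ∈ B, ∃ i < N, f i = b)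
    (hB : ∀ i < N, (f i ∈ B ↔ r (lab i) ∈ B)) :
    B.ncard = ∑ l ∈ (Finset.range k).filter (fun l => r l ∈ B), cntLab N lab l := by
  have e : B = f '' ↑((Finset.range N).filter fun i => r (lab i) ∈ B) := by
    ext b
    simp only [Finset.coe_filter, Finset.mem_range, Set.mem_image, Set.mem_ofPred_eq]
    constructor
    · intro hb
      obtain ⟨i, hi, rfl⟩ := hBA b hb
      exact ⟨i, ⟨hi, (hB i hi).mp hb⟩, rfl⟩
    · rintro ⟨i, ⟨hi, h⟩, rfl⟩
      exact (hB i hi).mpr h
  have hinj' : Set.InjOn f ↑((Finset.range N).filter fun i => r (lab i) ∈ B) := by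
    intro i hi j hj hij
    simp only [Finset.coe_filter, Finset.mem_range, Set.mem_ofPred_eq] at hi hj
    exact hinj i j hi.1 hj.1 hij
  conv_lhs => rw [e]
  rw [Set.InjOn.ncard_image hinj', Set.ncard_coe_finset]
  rw [Finset.card_eq_sum_card_fiberwise (f := lab)
    (t := (Finset.range k).filter (fun l => r l ∈ B))]
  · apply Finset.sum_congr rfl
    intro l hl
    rw [Finset.mem_filter] at hl
    rw [cntLab]
    congr 1
    ext i
    simp only [Finset.mem_filter, Finset.mem_range]
    constructor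
    · rintro ⟨⟨h1, _⟩, h3⟩; exact ⟨h1, h3⟩
    · rintro ⟨h1, h3⟩; exact ⟨⟨h1, by rw [h3]; exact hl.2⟩, h3⟩
  · intro i hi
    simp only [Finset.coe_filter, Finset.mem_range, Set.mem_ofPred_eq] at hi ⊢
    exact ⟨hlab i hi.1, hi.2⟩

end combinatorics

section action

variable {G X : Type*} [Group G] [MulAction G X]

theorem ncard_orbit_dvd [Finite G] (x : X) : (MulAction.orbit G x).ncard ∣ Nat.card G := by
  have h1 := Subgroup.card_mul_index (MulAction.stabilizer G x)
  rw [MulAction.index_stabilizer] at h1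
  exact Dvd.intro_left _ h1

theorem card_eq_orbit_mul_stab (x : X) :
    Nat.card G = (MulAction.orbit G x).ncard * Nat.card (MulAction.stabilizer G x) := by
  have h1 := Subgroup.card_mul_index (MulAction.stabilizer G x)
  rw [MulAction.index_stabilizer] at h1
  rw [← h1, mul_comm]

variable (H : Subgroup G) (f : ℕ → X) (N k : ℕ) (lab : ℕ → ℕ) (r : ℕ → X)

/-- a subset invariant under `H` is a union of classes -/
theorem mem_iff_of_invariant (horb : ∀ i < N, ∃ h ∈ H, h • r (lab i) = f i) (B : Set X)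
    (hinv : ∀ h ∈ H, ∀ b ∈ B, h • b ∈ B) : ∀ i < N, (f i ∈ B ↔ r (lab i) ∈ B) := by
  intro i hi
  obtain ⟨h, hh, e⟩ := horb i hi
  constructor
  · intro hb
    have := hinv h⁻¹ (H.inv_mem hh) _ hb
    rwa [← e, inv_smul_smul] at this
  · intro hb
    rw [← e]; exact hinv h hh _ hb

open Classical in
/-- the orbits of `H` are exactly the classes, when no other union of classes has a size dividing
the order of `H` -/
theorem orbit_eq_class [Finite G] (hinj : ∀ i j, i < N → j < N → f i = f j → i = j)
    (hlab : ∀ i < N, lab i < k) (horb : ∀ i < N, ∃ h ∈ H, h • r (lab i) = f i)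
    (hA : ∀ h ∈ H, ∀ i < N, ∃ j < N, f j = h • f i)
    (hr : ∀ l < k, ∃ i < N, f i = r l)
    (hdiv : ∀ J ∈ (Finset.range k).powerset, ∀ l ∈ J,
      (∑ j ∈ J, cntLab N lab j) ∣ Nat.card H → J = {l}) :
    ∀ l < k, (MulAction.orbit H (r l)).ncard = cntLab N lab l ∧
      ∀ i < N, (f i ∈ MulAction.orbit H (r l) ↔ lab i = l) := by
  intro l hl
  set B := MulAction.orbit H (r l) with hBdef
  have hBA : ∀ b ∈ B, ∃ i < N, f i = b := by
    rintro _ ⟨h, rfl⟩
    obtain ⟨i, hi, e⟩ := hr l hl
    obtain ⟨j, hj, e'⟩ := hA h.1 h.2 i hi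
    exact ⟨j, hj, by rw [e', e]; rfl⟩
  have hinv : ∀ h ∈ H, ∀ b ∈ B, h • b ∈ B := by
    rintro h hh _ ⟨h', rfl⟩
    exact ⟨⟨h, hh⟩ * h', mul_smul (⟨h, hh⟩ : H) h' (r l)⟩
  have hB := mem_iff_of_invariant H f N lab r horb B hinv
  have hcard := ncard_of_classes f N k lab r hinj hlab B hBA hB
  have hJ := hdiv ((Finset.range k).filter (fun l => r l ∈ B))
    (Finset.mem_powerset.mpr (Finset.filter_subset _ _)) l
    (Finset.mem_filter.mpr ⟨Finset.mem_range.mpr hl, MulAction.mem_orbit_self _⟩)
    (by rw [← hcard]; exact ncard_orbit_dvd (G := H) (r l))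
  refine ⟨by rw [hcard, hJ, Finset.sum_singleton], ?_⟩
  intro i hi
  rw [hB i hi]
  constructor
  · intro h
    have : lab i ∈ (Finset.range k).filter (fun l => r l ∈ B) :=
      Finset.mem_filter.mpr ⟨Finset.mem_range.mpr (hlab i hi), h⟩
    rw [hJ, Finset.mem_singleton] at this
    exact this
  · intro h
    rw [h]; exact MulAction.mem_orbit_self _

open Classical in
/-- maximality of a point stabiliser from the sizes of its orbits -/
theorem isCoatom_stabilizer_of_classes [Finite G] (a : X)
    (hinj : ∀ i j, i < N → j < N → f i = f j → i = j)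
    (hlab : ∀ i < N, lab i < k)
    (horb : ∀ i < N, ∃ h ∈ MulAction.stabilizer G a, h • r (lab i) = f i)
    (hA : ∀ x, x ∈ MulAction.orbit G a ↔ ∃ i < N, f i = x)
    (l0 : ℕ) (hl0 : l0 < k) (hr0 : r l0 = a) (hc0 : cntLab N lab l0 = 1) (hN : 1 < N)
    (hdiv : ∀ J ∈ (Finset.range k).powerset, l0 ∈ J →
      (∑ j ∈ J, cntLab N lab j) ∣ N → J = {l0} ∨ (∑ j ∈ J, cntLab N lab j) = N) :
    IsCoatom (MulAction.stabilizer G a) := by
  have hAcard : (MulAction.orbit G a).ncard = N := by
    have e : MulAction.orbit G a = f '' ↑(Finset.range N) := by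
      ext x
      rw [hA]
      simp only [Finset.coe_range, Set.mem_image, Set.mem_Iio]
    rw [e, Set.InjOn.ncard_image, Set.ncard_coe_finset, Finset.card_range]
    intro i hi j hj hij
    simp only [Finset.coe_range, Set.mem_Iio] at hi hj
    exact hinj i j hi hj hij
  have hG := card_eq_orbit_mul_stab (G := G) a
  rw [hAcard] at hG
  have hpos : 0 < Nat.card (MulAction.stabilizer G a) := Nat.card_pos
  constructor
  · intro htop
    rw [htop, Subgroup.card_top] at hG
    have : 0 < Nat.card G := Nat.card_pos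
    nlinarith
  · intro K hK
    set B := MulAction.orbit K a with hBdef
    have hBA : ∀ b ∈ B, ∃ i < N, f i = b := by
      rintro _ ⟨h, rfl⟩
      exact (hA _).mp ⟨h.1, rfl⟩
    have hinv : ∀ h ∈ MulAction.stabilizer G a, ∀ b ∈ B, h • b ∈ B := by
      rintro h hh _ ⟨h', rfl⟩
      exact ⟨⟨h, hK.le hh⟩ * h', mul_smul (⟨h, hK.le hh⟩ : K) h' a⟩
    have hB := mem_iff_of_invariant _ f N lab r horb B hinv
    have hcard := ncard_of_classes f N k lab r hinj hlab B hBA hB
    -- the order of `K`
    have hKc := card_eq_orbit_mul_stab (G := K) a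
    have hstab : Nat.card (MulAction.stabilizer K a) = Nat.card (MulAction.stabilizer G a) := by
      have e : MulAction.stabilizer K a = (MulAction.stabilizer G a).subgroupOf K := by
        ext x
        simp only [MulAction.mem_stabilizer_iff, Subgroup.mem_subgroupOf]
        rfl
      rw [e]
      exact Nat.card_congr (Subgroup.subgroupOfEquivOfLe hK.le).toEquiv
    rw [hstab] at hKc
    have hdvd : B.ncard ∣ N := by
      have h1 : Nat.card K ∣ Nat.card G := Subgroup.card_subgroup_dvd_card K
      rw [hKc, hG] at h1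
      exact Nat.dvd_of_mul_dvd_mul_right hpos h1
    rcases hdiv ((Finset.range k).filter (fun l => r l ∈ B))
      (Finset.mem_powerset.mpr (Finset.filter_subset _ _))
      (Finset.mem_filter.mpr ⟨Finset.mem_range.mpr hl0, by rw [hr0]; exact MulAction.mem_orbit_self _⟩)
      (by rw [← hcard]; exact hdvd) with hJ | hJ
    · exfalso
      rw [hJ, Finset.sum_singleton, hc0] at hcard
      rw [hcard, one_mul] at hKc
      have : K = MulAction.stabilizer G a :=
        (Subgroup.eq_of_le_of_card_ge hK.le (by rw [hKc])).symm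
      exact absurd this (ne_of_gt hK)
    · rw [hJ] at hcard
      rw [hcard, ← hG] at hKc
      exact Subgroup.eq_top_of_card_eq K hKc

end action

end Cfsg.Agent.Lib.Helper8
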