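import Cfsg.Agent.Lib.Helper8.ClsData
import Cfsg.Agent.Lib.Helper8.OutM

set_option autoImplicit false

namespace Cfsg.Agent.Lib.Helper8

open Cfsg
open scoped Pointwise

/-! ### a nontrivial element fixes at most 8 points -/

theorem conj_fix {w g : Equiv.Perm GolayPt} {p q : GolayPt} (hw : w p = q) (hg : g p = p) :
    (w * g * w⁻¹) q = q := by
  rw [← hw]; simp [hg]

theorem card_fixF_conj (w g : Equiv.Perm GolayPt) : (fixF (w * g * w⁻¹)).card = (fixF g).card := by
  apply le_antisymm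
  · have : g = w⁻¹ * (w * g * w⁻¹) ^ (1 : ℤ) * (w⁻¹)⁻¹ := by rw [zpow_one]; group
    exact card_fixF_le this
  · have : w * g * w⁻¹ = w * g ^ (1 : ℤ) * w⁻¹ := by rw [zpow_one]
    exact card_fixF_le this

theorem card_P6 : Nat.card (GInv [2 ^ 4, 2 ^ 3, 2 ^ 2, 2 ^ 1, 2 ^ 0, 2 ^ 23]) = 3 := by
  have h := level_card chain5
  rw [card_P5] at h
  have e : popc 8241104 = 16 := by decide +kernel
  rw [e] at h
  omega

def Tsix : ℕ := 972606645568131968584696805283956768

theorem six_test : invTest [2 ^ 4, 2 ^ 3, 2 ^ 2, 2 ^ 1, 2 ^ 0, 2 ^ 23] Tsix = true := by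
  decide +kernel

theorem eq_one_of_nine {g : Equiv.Perm GolayPt} (hg : g ∈ M24) (h9 : 9 ≤ (fixF g).card) :
    g = 1 := by
  obtain ⟨S, hSF, hS⟩ := Finset.exists_subset_card_eq (s := fixF g) (n := 5) (by omega)
  let x : Fin 5 ↪ GolayPt :=
    (S.equivFinOfCardEq hS).symm.toEmbedding.trans (Function.Embedding.subtype _)
  have hx : ∀ i, g (x i) = x i := fun i =>
    mem_fixF.mp (hSF ((S.equivFinOfCardEq hS).symm i).2)
  obtain ⟨w, hw, w0, w1, w2, w3, w4⟩ := move5_emb x
  set g1 := w * g * w⁻¹ with hg1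
  have hg1M : g1 ∈ M24 := M24.mul_mem (M24.mul_mem hw hg) (M24.inv_mem hw)
  have c1 : (fixF g1).card = (fixF g).card := card_fixF_conj w g
  obtain ⟨y, hy, hyO⟩ := Finset.exists_mem_notMem_of_card_lt_card
    (s := setOf 8536111) (t := fixF g1) (by
      rw [c1, card_setOf]
      have : popc 8536111 = 8 := by decide +kernel
      omega)
  have hyb : (8241104 : ℕ).testBit (idx y) = true := by
    apply compl_O0 _ (idx_lt _)
    rw [mem_setOf] at hyO
    simpa using hyO
  obtain ⟨v, hv, hvy⟩ := level_move chain5 y hyb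
  set g2 := v * g1 * v⁻¹ with hg2
  have c2 : (fixF g2).card = (fixF g).card := by rw [hg2, card_fixF_conj, c1]
  have hg2P : g2 ∈ GInv [2 ^ 4, 2 ^ 3, 2 ^ 2, 2 ^ 1, 2 ^ 0, 2 ^ 23] := by
    refine ⟨M24.mul_mem (M24.mul_mem hv.1 hg1M) (M24.inv_mem hv.1), ?_⟩
    intro m hm
    simp only [List.mem_cons, List.not_mem_nil, or_false] at hm
    rcases hm with rfl | rfl | rfl | rfl | rfl | rfl
    · exact Inv.of_fix (by norm_num) (conj_fix hvy (mem_fixF.mp hy))
    · exact Inv.of_fix (by norm_num)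
        (conj_fix (GInv_fix hv (by norm_num) (by simp)) (conj_fix w4 (hx 4)))
    · exact Inv.of_fix (by norm_num)
        (conj_fix (GInv_fix hv (by norm_num) (by simp)) (conj_fix w3 (hx 3)))
    · exact Inv.of_fix (by norm_num)
        (conj_fix (GInv_fix hv (by norm_num) (by simp)) (conj_fix w2 (hx 2)))
    · exact Inv.of_fix (by norm_num)
        (conj_fix (GInv_fix hv (by norm_num) (by simp)) (conj_fix w1 (hx 1)))
    · exact Inv.of_fix (by norm_num)
        (conj_fix (GInv_fix hv (by norm_num) (by simp)) (conj_fix w0 (hx 0)))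
  have hg2one : g2 = 1 := by
    by_contra hne
    have : Fact (Nat.Prime 3) := ⟨by norm_num⟩
    have htop := zpowers_eq_top_of_prime_card (G := GInv [2 ^ 4, 2 ^ 3, 2 ^ 2, 2 ^ 1, 2 ^ 0, 2 ^ 23])
      card_P6 (g := ⟨g2, hg2P⟩) (fun h => hne (congrArg Subtype.val h))
    have hT := toPerm_mem_GInv six_test
    have hmem : (⟨toPerm Tsix, hT.2⟩ : GInv [2 ^ 4, 2 ^ 3, 2 ^ 2, 2 ^ 1, 2 ^ 0, 2 ^ 23]) ∈
        Subgroup.zpowers (⟨g2, hg2P⟩ : GInv [2 ^ 4, 2 ^ 3, 2 ^ 2, 2 ^ 1, 2 ^ 0, 2 ^ 23]) := by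
      rw [htop]; exact Subgroup.mem_top _
    obtain ⟨k, hk⟩ := Subgroup.mem_zpowers_iff.mp hmem
    have hk' : toPerm Tsix = 1 * g2 ^ k * 1⁻¹ := by
      have := congrArg Subtype.val hk
      simp only [one_mul, inv_one, mul_one]
      exact this.symm
    have hle := card_fixF_le hk'
    rw [fixF_toPerm (m := 8388639) hT.1 (by decide +kernel), card_setOf, c2] at hle
    have : popc 8388639 = 6 := by decide +kernel
    omega
  have hg1one : g1 = 1 := by
    have : g1 = v⁻¹ * g2 * v := by rw [hg2]; group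
    rw [this, hg2one]; group
  have : g = w⁻¹ * g1 * w := by rw [hg1]; group
  rw [this, hg1one]; group

/-! ### elements in a coset of the stabiliser of four points -/

def Ucomp (Th T j : ℕ) : ℕ := img Th (img T j)
def powOK (n Th T : ℕ) : Bool := allBelow 24 fun j => Nat.beq ((Ucomp Th T)^[n] j) j
def conjOK (k Th T R : ℕ) : Bool :=
  allBelow 24 fun j => Nat.beq (img k (Ucomp Th T j)) (img R (img k j))

theorem Ucomp_lt {Th T : ℕ} (hTh : validT Th = true) (hT : validT T = true) {j : ℕ} (hj : j < 24) :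
    Ucomp Th T j < 24 := img_lt hTh (img_lt hT hj)

theorem mul_pt {Th T : ℕ} (hTh : validT Th = true) (hT : validT T = true) {j : ℕ} (hj : j < 24) :
    (toPerm Th * toPerm T) (pt j) = pt (Ucomp Th T j) := by
  rw [Equiv.Perm.mul_apply, toPerm_pt hT hj, toPerm_pt hTh (img_lt hT hj)]; rfl

theorem iter_lt {Th T : ℕ} (hTh : validT Th = true) (hT : validT T = true) {j : ℕ} (hj : j < 24)
    (n : ℕ) : (Ucomp Th T)^[n] j < 24 := by
  induction n with
  | zero => exact hj
  | succ n ih => rw [Function.iterate_succ_apply']; exact Ucomp_lt hTh hT ih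

theorem mul_pow_pt {Th T : ℕ} (hTh : validT Th = true) (hT : validT T = true) {j : ℕ} (hj : j < 24)
    (n : ℕ) : ((toPerm Th * toPerm T) ^ n) (pt j) = pt ((Ucomp Th T)^[n] j) := by
  induction n with
  | zero => rfl
  | succ n ih =>
    rw [pow_succ', Equiv.Perm.mul_apply, ih, mul_pt hTh hT (iter_lt hTh hT hj n),
      Function.iterate_succ_apply']

theorem coset_class {Th n kA RA RB : ℕ} (hTh : inM24 Th = true) (hRA : validT RA = true)
    (hRB : validT RB = true)
    (chk : allBelow 960 (fun i => !(powOK n Th (getR 120 q960A i)) ||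
      (inM24F (getR 120 kA i) && (conjOK (getR 120 kA i) Th (getR 120 q960A i) RA ||
        conjOK (getR 120 kA i) Th (getR 120 q960A i) RB))) = true) :
    ∀ s ∈ GInv [2 ^ 2, 2 ^ 1, 2 ^ 0, 2 ^ 23], (toPerm Th * s) ^ n = 1 →
      ∃ k ∈ M24, k * (toPerm Th * s) * k⁻¹ = toPerm RA ∨ k * (toPerm Th * s) * k⁻¹ = toPerm RB := by
  intro s hs hpow
  obtain ⟨i, hi, rfl⟩ := list_complete card_P4 q960_mem q960_inc s hs
  have hv : validT (getR 120 q960A i) = true := by
    have := of_allBelow q960_mem i hi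
    rw [invTestF_eq] at this
    exact (toPerm_mem_GInv this).1
  have hvh := validT_of_inM24 hTh
  set T := getR 120 q960A i with hT
  have hp : powOK n Th T = true := by
    rw [powOK, allBelow_iff]
    intro j hj
    have h1 := mul_pow_pt hvh hv hj n
    rw [hpow, Equiv.Perm.one_apply] at h1
    have h2 := congrArg idx h1
    rw [idx_pt hj, idx_pt (iter_lt hvh hv hj n)] at h2
    rw [← h2]; exact Nat.beq_refl _
  have hc := of_allBelow chk i hi
  rw [← hT, hp] at hc
  simp only [Bool.not_true, Bool.false_or, Bool.and_eq_true, Bool.or_eq_true] at hc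
  obtain ⟨hk, hc⟩ := hc
  rw [inM24F_eq] at hk
  have hkv := validT_of_inM24 hk
  have key : ∀ R, validT R = true → conjOK (getR 120 kA i) Th T R = true →
      toPerm (getR 120 kA i) * (toPerm Th * toPerm T) * (toPerm (getR 120 kA i))⁻¹ = toPerm R := by
    intro R hR hcj
    rw [mul_inv_eq_iff_eq_mul]
    ext p : 1
    rw [← pt_idx p, Equiv.Perm.mul_apply, mul_pt hvh hv (idx_lt p),
      toPerm_pt hkv (Ucomp_lt hvh hv (idx_lt p)), Equiv.Perm.mul_apply, toPerm_pt hkv (idx_lt p),
      toPerm_pt hR (img_lt hkv (idx_lt p)),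
      Nat.eq_of_beq_eq_true (of_allBelow hcj _ (idx_lt p))]
  refine ⟨toPerm (getR 120 kA i), toPerm_mem_M24 hk, ?_⟩
  rcases hc with hc | hc
  · left; exact key RA hRA hc
  · right; exact key RB hRB hc

theorem cls2_check : allBelow 960 (fun i => !(powOK 2 Th2 (getR 120 q960A i)) ||
      (inM24F (getR 120 k2A i) && (conjOK (getR 120 k2A i) Th2 (getR 120 q960A i) R2A ||
        conjOK (getR 120 k2A i) Th2 (getR 120 q960A i) R2B))) = true := by
  decide +kernel

theorem cls3_check : allBelow 960 (fun i => !(powOK 3 Th3 (getR 120 q960A i)) ||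
      (inM24F (getR 120 k3A i) && (conjOK (getR 120 k3A i) Th3 (getR 120 q960A i) R3A ||
        conjOK (getR 120 k3A i) Th3 (getR 120 q960A i) R3B))) = true := by
  decide +kernel

theorem conj_map {w g : Equiv.Perm GolayPt} {p p' q q' : GolayPt} (hw : w p = q) (hg : g p = p')
    (hw' : w p' = q') : (w * g * w⁻¹) q = q' := by
  rw [← hw]; simp [hg, hw']

theorem card_fixF_le8 {g : Equiv.Perm GolayPt} (hg : g ∈ M24) (hne : g ≠ 1) :
    (fixF g).card ≤ 8 := by
  by_contra h
  exact hne (eq_one_of_nine hg (by omega))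

theorem Th2_mem : inM24 Th2 = true := by decide +kernel
theorem Th3_mem : inM24 Th3 = true := by decide +kernel

/-- membership in the four point stabiliser of `h⁻¹ g'` -/
theorem mem_Q0_of {h g' : Equiv.Perm GolayPt} (hh : h ∈ M24) (hg' : g' ∈ M24)
    (e23 : h (pt 23) = g' (pt 23)) (e0 : h (pt 0) = g' (pt 0)) (e1 : h (pt 1) = g' (pt 1))
    (e2 : h (pt 2) = g' (pt 2)) : h⁻¹ * g' ∈ GInv [2 ^ 2, 2 ^ 1, 2 ^ 0, 2 ^ 23] := by
  refine ⟨M24.mul_mem (M24.inv_mem hh) hg', ?_⟩
  intro m hm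
  simp only [List.mem_cons, List.not_mem_nil, or_false] at hm
  rcases hm with rfl | rfl | rfl | rfl
  · exact Inv.of_fix (by norm_num) (by rw [Equiv.Perm.mul_apply, ← e2]; simp)
  · exact Inv.of_fix (by norm_num) (by rw [Equiv.Perm.mul_apply, ← e1]; simp)
  · exact Inv.of_fix (by norm_num) (by rw [Equiv.Perm.mul_apply, ← e0]; simp)
  · exact Inv.of_fix (by norm_num) (by rw [Equiv.Perm.mul_apply, ← e23]; simp)

theorem conj_conj {k w g R : Equiv.Perm GolayPt} (h : k * (w * g * w⁻¹) * k⁻¹ = R) :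
    (k * w) * g * (k * w)⁻¹ = R := by
  rw [← h]; group

theorem inv_class {g : Equiv.Perm GolayPt} (hg : g ∈ M24) (h2 : orderOf g = 2) :
    ∃ k ∈ M24, k * g * k⁻¹ = toPerm R2A ∨ k * g * k⁻¹ = toPerm R2B := by
  have hne : g ≠ 1 := by
    intro h; rw [h, orderOf_one] at h2; omega
  have hsq : g ^ 2 = 1 := by rw [← h2]; exact pow_orderOf_eq_one g
  have hgg : ∀ p, g (g p) = p := by
    intro p
    have := congrFun (congrArg DFunLike.coe hsq) p
    rwa [pow_two] at this
  have h8 := card_fixF_le8 hg hne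
  obtain ⟨a, ha⟩ := exists_notMem_pt (fixF g) (by omega)
  have hab : g a ≠ a := fun h => ha (mem_fixF.mpr h)
  obtain ⟨c, hc⟩ := exists_notMem_pt (insert a (insert (g a) (fixF g))) (by
    have h1 := Finset.card_insert_le a (insert (g a) (fixF g))
    have h2 := Finset.card_insert_le (g a) (fixF g)
    omega)
  simp only [Finset.mem_insert, not_or] at hc
  obtain ⟨hca, hcb, hcf⟩ := hc
  have hcd : g c ≠ c := fun h => hcf (mem_fixF.mpr h)
  have hda : g c ≠ a := fun h => hcb (by rw [← h, hgg])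
  have hdb : g c ≠ g a := fun h => hca (g.injective h)
  obtain ⟨w, hw, w0, w1, w2, w3⟩ := move4 (x0 := a) (x1 := g a) (x2 := c) (x3 := g c)
    hab.symm (Ne.symm hca) (Ne.symm hcb) (Ne.symm hda) (Ne.symm hdb) hcd.symm
  set g' := w * g * w⁻¹ with hg'
  have hg'M : g' ∈ M24 := M24.mul_mem (M24.mul_mem hw hg) (M24.inv_mem hw)
  have hv := validT_of_inM24 Th2_mem
  have hs := mem_Q0_of (toPerm_mem_M24 Th2_mem) hg'M
    (by rw [toPerm_pt hv (by norm_num), conj_map w0 rfl w1]; rfl)
    (by rw [toPerm_pt hv (by norm_num), conj_map w1 (hgg a) w0]; rfl)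
    (by rw [toPerm_pt hv (by norm_num), conj_map w2 rfl w3]; rfl)
    (by rw [toPerm_pt hv (by norm_num), conj_map w3 (hgg c) w2]; rfl)
  have e : toPerm Th2 * ((toPerm Th2)⁻¹ * g') = g' := by group
  have hpow : (toPerm Th2 * ((toPerm Th2)⁻¹ * g')) ^ 2 = 1 := by
    rw [e, hg', conj_pow, hsq]; group
  obtain ⟨k, hk, h⟩ := coset_class Th2_mem (by decide +kernel) (by decide +kernel) cls2_check _ hs hpow
  rw [e] at h
  refine ⟨k * w, M24.mul_mem hk hw, ?_⟩
  rcases h with h | h
  · left; exact conj_conj h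
  · right; exact conj_conj h

theorem ord3_class {g : Equiv.Perm GolayPt} (hg : g ∈ M24) (h3 : orderOf g = 3) :
    ∃ k ∈ M24, k * g * k⁻¹ = toPerm R3A ∨ k * g * k⁻¹ = toPerm R3B := by
  have hne : g ≠ 1 := by
    intro h; rw [h, orderOf_one] at h3; omega
  have hcu : g ^ 3 = 1 := by rw [← h3]; exact pow_orderOf_eq_one g
  have hggg : ∀ p, g (g (g p)) = p := by
    intro p
    have := congrFun (congrArg DFunLike.coe hcu) p
    rwa [pow_succ, pow_two] at this
  have mv : ∀ p, g p ≠ p → g (g p) ≠ g p ∧ g (g p) ≠ p := by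
    intro p hp
    refine ⟨fun h => hp (g.injective h), fun h => hp ?_⟩
    have := hggg p
    rw [h] at this
    exact this
  have h8 := card_fixF_le8 hg hne
  obtain ⟨a, ha⟩ := exists_notMem_pt (fixF g) (by omega)
  have hab : g a ≠ a := fun h => ha (mem_fixF.mpr h)
  obtain ⟨hcb, hca⟩ := mv a hab
  obtain ⟨d, hd⟩ := exists_notMem_pt (insert a (insert (g a) (insert (g (g a)) (fixF g)))) (by
    have h1 := Finset.card_insert_le a (insert (g a) (insert (g (g a)) (fixF g)))
    have h2 := Finset.card_insert_le (g a) (insert (g (g a)) (fixF g))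
    have h3 := Finset.card_insert_le (g (g a)) (fixF g)
    omega)
  simp only [Finset.mem_insert, not_or] at hd
  obtain ⟨hda, hdb, hdc, hdf⟩ := hd
  have hed : g d ≠ d := fun h => hdf (mem_fixF.mpr h)
  have hea : g d ≠ a := fun h => hdc (by
    have := hggg a
    rw [← h] at this
    have h5 := g.injective this
    -- `g (g (g d)) = d`
    rw [h] at h5
    exact h5.symm)
  have heb : g d ≠ g a := fun h => hda (g.injective h)
  have hec : g d ≠ g (g a) := fun h => hdb (g.injective h)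
  obtain ⟨w, hw, w0, w1, w2, w3, w4⟩ := move5 (x0 := a) (x1 := g a) (x2 := g (g a)) (x3 := d)
    (x4 := g d) hab.symm hca.symm hcb.symm (Ne.symm hda) (Ne.symm hdb) (Ne.symm hdc)
    (Ne.symm hea) (Ne.symm heb) (Ne.symm hec) hed.symm
  set g' := w * g * w⁻¹ with hg'
  have hg'M : g' ∈ M24 := M24.mul_mem (M24.mul_mem hw hg) (M24.inv_mem hw)
  have hv := validT_of_inM24 Th3_mem
  have hs := mem_Q0_of (toPerm_mem_M24 Th3_mem) hg'M
    (by rw [toPerm_pt hv (by norm_num), conj_map w0 rfl w1]; rfl)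
    (by rw [toPerm_pt hv (by norm_num), conj_map w1 rfl w2]; rfl)
    (by rw [toPerm_pt hv (by norm_num), conj_map w2 (hggg a) w0]; rfl)
    (by rw [toPerm_pt hv (by norm_num), conj_map w3 rfl w4]; rfl)
  have e : toPerm Th3 * ((toPerm Th3)⁻¹ * g') = g' := by group
  have hpow : (toPerm Th3 * ((toPerm Th3)⁻¹ * g')) ^ 3 = 1 := by
    rw [e, hg', conj_pow, hcu]; group
  obtain ⟨k, hk, h⟩ := coset_class Th3_mem (by decide +kernel) (by decide +kernel) cls3_check _ hs hpow
  rw [e] at h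
  refine ⟨k * w, M24.mul_mem hk hw, ?_⟩
  rcases h with h | h
  · left; exact conj_conj h
  · right; exact conj_conj h

end Cfsg.Agent.Lib.Helper8
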