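import Cfsg.Agent.Lib.Helper8.Cls

set_option autoImplicit false

namespace Cfsg.Agent.Lib.Helper8

open Cfsg
open scoped Pointwise

theorem fixF_conj (k g : Equiv.Perm GolayPt) : fixF (k * g * k⁻¹) = k • fixF g := by
  ext p
  rw [mem_fixF, ← Finset.inv_smul_mem_iff, mem_fixF, Equiv.Perm.smul_def]
  simp only [Equiv.Perm.mul_apply]
  rw [← Equiv.Perm.eq_inv_iff_eq]

theorem fixF_of_conj {k g R : Equiv.Perm GolayPt} (h : k * g * k⁻¹ = R) :
    fixF g = k⁻¹ • fixF R := by
  rw [← h, fixF_conj, inv_smul_smul]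

theorem fix_R2A : fixF (toPerm R2A) = setOf 4536592 :=
  fixF_toPerm (by decide +kernel) (by decide +kernel)
theorem fix_R2B : fixF (toPerm R2B) = ∅ := by
  rw [fixF_toPerm (m := 0) (by decide +kernel) (by decide +kernel), setOf_zero]
theorem fix_R3A : fixF (toPerm R3A) = setOf 247872 :=
  fixF_toPerm (by decide +kernel) (by decide +kernel)
theorem fix_R3B : fixF (toPerm R3B) = ∅ := by
  rw [fixF_toPerm (m := 0) (by decide +kernel) (by decide +kernel), setOf_zero]

theorem R2A_mem : inM24 R2A = true := by decide +kernel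
theorem R2B_mem : inM24 R2B = true := by decide +kernel
theorem R3A_mem : inM24 R3A = true := by decide +kernel
theorem R3B_mem : inM24 R3B = true := by decide +kernel

theorem order_R2A : orderOf (toPerm R2A) = 2 :=
  orderOf_toPerm (validT_of_inM24 R2A_mem) (by decide +kernel) (j0 := 0) (by norm_num)
    (by decide +kernel)
theorem order_R2B : orderOf (toPerm R2B) = 2 :=
  orderOf_toPerm (validT_of_inM24 R2B_mem) (by decide +kernel) (j0 := 0) (by norm_num)
    (by decide +kernel)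

instance fact3 : Fact (Nat.Prime 3) := ⟨by norm_num⟩

theorem order_R3A : orderOf (toPerm R3A) = 3 :=
  orderOf_toPerm (validT_of_inM24 R3A_mem) (by decide +kernel) (j0 := 0) (by norm_num)
    (by decide +kernel)
theorem order_R3B : orderOf (toPerm R3B) = 3 :=
  orderOf_toPerm (validT_of_inM24 R3B_mem) (by decide +kernel) (j0 := 0) (by norm_num)
    (by decide +kernel)

theorem oct_R2A : setOf 4536592 ∈ octads := setOf_mem_octads (by decide +kernel)

theorem fixF_eq_empty_iff {g : Equiv.Perm GolayPt} : fixF g = ∅ ↔ ∀ p, g p ≠ p := by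
  rw [Finset.eq_empty_iff_forall_notMem]
  simp only [mem_fixF]

/-- fixed points of an involution -/
theorem inv_fix {g : Equiv.Perm GolayPt} (hg : g ∈ M24) (h2 : orderOf g = 2) :
    fixF g ∈ octads ∨ fixF g = ∅ := by
  obtain ⟨k, hk, h | h⟩ := inv_class hg h2
  · left
    rw [fixF_of_conj h, fix_R2A]
    exact smul_mem_octads (M24.inv_mem hk) oct_R2A
  · right
    rw [fixF_of_conj h, fix_R2B]; simp

theorem conj_of_same {g h kg kh R : Equiv.Perm GolayPt} (hkg : kg ∈ M24) (hkh : kh ∈ M24)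
    (e1 : kg * g * kg⁻¹ = R) (e2 : kh * h * kh⁻¹ = R) : ∃ k ∈ M24, k * g * k⁻¹ = h := by
  refine ⟨kh⁻¹ * kg, M24.mul_mem (M24.inv_mem hkh) hkg, ?_⟩
  have : h = kh⁻¹ * R * kh := by rw [← e2]; group
  rw [this, ← e1]; group

theorem inv_conj {g h : Equiv.Perm GolayPt} (hg : g ∈ M24) (hh : h ∈ M24) (g2 : orderOf g = 2)
    (h2 : orderOf h = 2) (hiff : fixF g = ∅ ↔ fixF h = ∅) : ∃ k ∈ M24, k * g * k⁻¹ = h := by
  obtain ⟨kg, hkg, eg⟩ := inv_class hg g2
  obtain ⟨kh, hkh, eh⟩ := inv_class hh h2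
  have neA : ∀ {x k : Equiv.Perm GolayPt}, k * x * k⁻¹ = toPerm R2A → fixF x ≠ ∅ := by
    intro x k e h0
    have := congrArg Finset.card (fixF_of_conj e)
    rw [h0, fix_R2A, Finset.card_smul_finset, oct_R2A.2] at this
    simp at this
  have eB : ∀ {x k : Equiv.Perm GolayPt}, k * x * k⁻¹ = toPerm R2B → fixF x = ∅ := by
    intro x k e
    rw [fixF_of_conj e, fix_R2B]; simp
  rcases eg with eg | eg <;> rcases eh with eh | eh
  · exact conj_of_same hkg hkh eg eh
  · exact absurd (hiff.mpr (eB eh)) (neA eg)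
  · exact absurd (hiff.mp (eB eg)) (neA eh)
  · exact conj_of_same hkg hkh eg eh

/-- fixed points of an element of order 3 -/
theorem ord3_fix {g : Equiv.Perm GolayPt} (hg : g ∈ M24) (h3 : orderOf g = 3) :
    (fixF g).card = 6 ∨ fixF g = ∅ := by
  obtain ⟨k, hk, h | h⟩ := ord3_class hg h3
  · left
    rw [fixF_of_conj h, fix_R3A, Finset.card_smul_finset, card_setOf]
    decide +kernel
  · right
    rw [fixF_of_conj h, fix_R3B]; simp

theorem ord3_conj {g h : Equiv.Perm GolayPt} (hg : g ∈ M24) (hh : h ∈ M24) (g3 : orderOf g = 3)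
    (h3 : orderOf h = 3) (hiff : fixF g = ∅ ↔ fixF h = ∅) : ∃ k ∈ M24, k * g * k⁻¹ = h := by
  obtain ⟨kg, hkg, eg⟩ := ord3_class hg g3
  obtain ⟨kh, hkh, eh⟩ := ord3_class hh h3
  have neA : ∀ {x k : Equiv.Perm GolayPt}, k * x * k⁻¹ = toPerm R3A → fixF x ≠ ∅ := by
    intro x k e h0
    have := congrArg Finset.card (fixF_of_conj e)
    rw [h0, fix_R3A, Finset.card_smul_finset, card_setOf] at this
    revert this; decide +kernel
  have eB : ∀ {x k : Equiv.Perm GolayPt}, k * x * k⁻¹ = toPerm R3B → fixF x = ∅ := by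
    intro x k e
    rw [fixF_of_conj e, fix_R3B]; simp
  rcases eg with eg | eg <;> rcases eh with eh | eh
  · exact conj_of_same hkg hkh eg eh
  · exact absurd (hiff.mpr (eB eh)) (neA eg)
  · exact absurd (hiff.mp (eB eg)) (neA eh)
  · exact conj_of_same hkg hkh eg eh

end Cfsg.Agent.Lib.Helper8
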