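import Cfsg.Agent.Lib.Helper8.Trans5

set_option autoImplicit false

namespace Cfsg.Agent.Lib.Helper8

open Cfsg
open scoped Pointwise

theorem inv_conj_iff {g k : Equiv.Perm GolayPt} {s : Finset GolayPt} {m : ℕ}
    (hs : g • s = setOf m) : Inv (g * k * g⁻¹) m ↔ k • s = s := by
  rw [Inv, ← hs, mul_smul, mul_smul, inv_smul_smul]
  exact (MulAction.injective g).eq_iff

theorem inv_conj_pt_iff {g k : Equiv.Perm GolayPt} {p : GolayPt} {i : ℕ} (hi : i < 24)
    (hp : g p = pt i) : Inv (g * k * g⁻¹) (2 ^ i) ↔ k p = p := by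
  have hs : g • ({p} : Finset GolayPt) = setOf (2 ^ i) := by
    rw [setOf_two_pow hi, Finset.smul_finset_singleton, Equiv.Perm.smul_def, hp]
  rw [inv_conj_iff hs, Finset.smul_finset_singleton, Finset.singleton_inj, Equiv.Perm.smul_def]

theorem conj_mem_M24_iff {g k : Equiv.Perm GolayPt} (hg : g ∈ M24) :
    g * k * g⁻¹ ∈ M24 ↔ k ∈ M24 := by
  constructor
  · intro h
    have := M24.mul_mem (M24.mul_mem (M24.inv_mem hg) h) hg
    simpa [mul_assoc] using this
  · intro h
    exact M24.mul_mem (M24.mul_mem hg h) (M24.inv_mem hg)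

/-- a subgroup of `M24` conjugate to `GInv L` has the same order -/
theorem card_eq_card_GInv (K : Subgroup M24) (L : List ℕ) {g : Equiv.Perm GolayPt} (hg : g ∈ M24)
    (h : ∀ k : M24, k ∈ K ↔ g * (k : Equiv.Perm GolayPt) * g⁻¹ ∈ GInv L) :
    Nat.card K = Nat.card (GInv L) := by
  apply Nat.card_congr
  refine ⟨fun k => ⟨g * (k : M24) * g⁻¹, (h k.1).mp k.2⟩,
    fun x => ⟨⟨g⁻¹ * x * g, ?_⟩, ?_⟩, ?_, ?_⟩
  · exact M24.mul_mem (M24.mul_mem (M24.inv_mem hg) x.2.1) hg
  · rw [h]
    have : g * (g⁻¹ * (x : Equiv.Perm GolayPt) * g) * g⁻¹ = x := by group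
    show g * (g⁻¹ * (x : Equiv.Perm GolayPt) * g) * g⁻¹ ∈ GInv L
    rw [this]; exact x.2
  · intro k
    apply Subtype.ext; apply Subtype.ext
    show g⁻¹ * (g * ((k : M24) : Equiv.Perm GolayPt) * g⁻¹) * g = _
    group
  · intro x
    apply Subtype.ext
    show g * (g⁻¹ * (x : Equiv.Perm GolayPt) * g) * g⁻¹ = _
    group

/-- the same for subgroups of the symmetric group -/
theorem card_eq_card_GInv' (K : Subgroup (Equiv.Perm GolayPt)) (L : List ℕ)
    (g : Equiv.Perm GolayPt) (h : ∀ k, k ∈ K ↔ g * k * g⁻¹ ∈ GInv L) :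
    Nat.card K = Nat.card (GInv L) := by
  apply Nat.card_congr
  refine ⟨fun k => ⟨g * k * g⁻¹, (h k.1).mp k.2⟩, fun x => ⟨g⁻¹ * x * g, ?_⟩, ?_, ?_⟩
  · rw [h]
    have : g * (g⁻¹ * (x : Equiv.Perm GolayPt) * g) * g⁻¹ = x := by group
    rw [this]; exact x.2
  · intro k
    apply Subtype.ext
    show g⁻¹ * (g * (k : Equiv.Perm GolayPt) * g⁻¹) * g = _
    group
  · intro x
    apply Subtype.ext
    show g * (g⁻¹ * (x : Equiv.Perm GolayPt) * g) * g⁻¹ = _
    group

/-- all masks of `K` are derived invariants of `GInv L` -/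
def derCheck (L : List ℕ) (prog : List (ℕ × ℕ × ℕ)) (K : List ℕ) : Bool :=
  K.all fun a => (derived L prog).contains a

theorem inv_of_derCheck {L K : List ℕ} {prog : List (ℕ × ℕ × ℕ)} (h : derCheck L prog K = true)
    {g : Equiv.Perm GolayPt} (hg : g ∈ GInv L) : ∀ a ∈ K, Inv g a := by
  intro a ha
  have := List.all_eq_true.mp h a ha
  exact inv_of_derived prog hg a (by simpa using this)

theorem card_smul_inter_inv {g : Equiv.Perm GolayPt} {a : ℕ} (ha : Inv g a) (s : Finset GolayPt) :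
    (g • s ∩ setOf a).card = (s ∩ setOf a).card := by
  conv_lhs => rw [← ha]
  exact card_smul_inter g s _

/-- Boolean form of: same intersection numbers as `m0` -/
def sameK (K : List ℕ) (m0 m : ℕ) : Bool :=
  K.all fun a => Nat.beq (popF (m &&& a)) (popF (m0 &&& a))

theorem sameK_iff (K : List ℕ) (m0 m : ℕ) :
    sameK K m0 m = true ↔ ∀ a ∈ K, (setOf m ∩ setOf a).card = (setOf m0 ∩ setOf a).card := by
  simp only [sameK, List.all_eq_true, Nat.beq_eq, card_inter_setOf]

theorem codeOrb_orbit {L Ts K : List ℕ} {R : List (ℕ × ℕ)} {parP gnP levP : ℕ}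
    (h : codeOrbCheck L Ts K R parP gnP levP = true) {prog : List (ℕ × ℕ × ℕ)}
    (hK : derCheck L prog K = true) {m : ℕ} (hm : isCode m = true) (hm' : m < 2 ^ 24) :
    MulAction.orbit (GInv L) (setOf m) =
      {s | s ∈ supports (golayCode : Set (GolayPt → ZMod 2)) ∧
        ∀ a ∈ K, (s ∩ setOf a).card = (setOf m ∩ setOf a).card} := by
  have hms : setOf m ∈ supports (golayCode : Set (GolayPt → ZMod 2)) :=
    (setOf_mem_supports_iff hm').mpr hm
  apply orbit_eq
  · exact ⟨hms, fun _ _ => rfl⟩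
  · rintro g hg s ⟨hs, hs'⟩
    refine ⟨smul_mem_supports hg.1 hs, fun a ha => ?_⟩
    rw [card_smul_inter_inv (inv_of_derCheck hK hg a ha), hs' a ha]
  · rintro s ⟨hs, hs'⟩
    exact codeOrb_trans h hms hs fun a ha => (hs' a ha).symm

theorem codeOrb_card {L Ts K : List ℕ} {R : List (ℕ × ℕ)} {parP gnP levP : ℕ}
    (h : codeOrbCheck L Ts K R parP gnP levP = true) {prog : List (ℕ × ℕ × ℕ)}
    (hK : derCheck L prog K = true) {m : ℕ} (hm : isCode m = true) (hm' : m < 2 ^ 24) :
    Nat.card (GInv L) =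
      countBelow 4096 (fun c => sameK K m (codeOf c)) * Nat.card (GInv (m :: L)) := by
  rw [card_step (GInv L) (setOf m), codeOrb_orbit h hK hm hm', GInv_cons,
    ncard_code_filter _ (sameK K m) (sameK_iff K m)]

theorem conj_smul {X : Type*} [MulAction (Equiv.Perm GolayPt) X] {g h : Equiv.Perm GolayPt}
    {s s' : X} (H : h • (g • s) = g • s') : (g⁻¹ * h * g) • s = s' := by
  rw [mul_smul, mul_smul, H, inv_smul_smul]

theorem conj_apply {g h : Equiv.Perm GolayPt} {p p' : GolayPt} (H : h (g p) = g p') :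
    (g⁻¹ * h * g) p = p' := by
  simp [Equiv.Perm.mul_apply, H]

theorem conj_mem {g h : Equiv.Perm GolayPt} (hg : g ∈ M24) (hh : h ∈ M24) : g⁻¹ * h * g ∈ M24 :=
  M24.mul_mem (M24.mul_mem (M24.inv_mem hg) hh) hg

theorem card_inter_full (s : Finset GolayPt) : (s ∩ setOf 16777215).card = s.card := by
  rw [setOf_full, Finset.inter_univ]

theorem card_inter_pt_of_mem {s : Finset GolayPt} {i : ℕ} (hi : i < 24) (h : pt i ∈ s) :
    (s ∩ setOf (2 ^ i)).card = 1 := by
  rw [setOf_two_pow hi, Finset.inter_singleton_of_mem h, Finset.card_singleton]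

theorem card_inter_pt_of_notMem {s : Finset GolayPt} {i : ℕ} (hi : i < 24) (h : pt i ∉ s) :
    (s ∩ setOf (2 ^ i)).card = 0 := by
  rw [setOf_two_pow hi, Finset.inter_singleton_of_notMem h, Finset.card_empty]

theorem countBelow_congr {n : ℕ} {p q : ℕ → Bool} (h : ∀ k < n, p k = q k) :
    countBelow n p = countBelow n q := by
  rw [countBelow_eq, countBelow_eq]
  congr 1
  apply Finset.filter_congr
  intro k hk
  rw [h k (Finset.mem_range.mp hk)]

theorem ncard_code_filter' (Q : Finset GolayPt → Prop) (q : ℕ → Bool)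
    (h : ∀ m, q m = true ↔ Q (setOf m)) :
    {s | s ∈ supports (golayCode : Set (GolayPt → ZMod 2)) ∧ Q s}.ncard =
      countBelow 4096 (fun c => q (cwOf c)) := by
  rw [ncard_code_filter Q q h]
  exact countBelow_congr fun k hk => by rw [cwOf_eq hk]

theorem ncard_octads_filter (Q : Finset GolayPt → Prop) (q : ℕ → Bool)
    (h : ∀ m, q m = true ↔ Q (setOf m)) :
    {s | s ∈ octads ∧ Q s}.ncard =
      countBelow 4096 (fun c => Nat.beq (popF (cwOf c)) 8 && q (cwOf c)) := by
  have e : {s | s ∈ octads ∧ Q s} =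
      {s | s ∈ supports (golayCode : Set (GolayPt → ZMod 2)) ∧ (s.card = 8 ∧ Q s)} := by
    ext s
    simp only [Set.mem_ofPred_eq, mem_octads_iff, and_assoc]
  rw [e, ncard_code_filter' _ (fun m => Nat.beq (popF m) 8 && q m)]
  intro m
  rw [Bool.and_eq_true, Nat.beq_eq, card_setOf', h]

theorem ncard_dodecads_filter (Q : Finset GolayPt → Prop) (q : ℕ → Bool)
    (h : ∀ m, q m = true ↔ Q (setOf m)) :
    {s | s ∈ dodecads ∧ Q s}.ncard =
      countBelow 4096 (fun c => Nat.beq (popF (cwOf c)) 12 && q (cwOf c)) := by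
  have e : {s | s ∈ dodecads ∧ Q s} =
      {s | s ∈ supports (golayCode : Set (GolayPt → ZMod 2)) ∧ (s.card = 12 ∧ Q s)} := by
    ext s
    simp only [Set.mem_ofPred_eq, mem_dodecads_iff, and_assoc]
  rw [e, ncard_code_filter' _ (fun m => Nat.beq (popF m) 12 && q m)]
  intro m
  rw [Bool.and_eq_true, Nat.beq_eq, card_setOf', h]

theorem codeOrb_card' {L Ts K : List ℕ} {R : List (ℕ × ℕ)} {parP gnP levP : ℕ}
    (h : codeOrbCheck L Ts K R parP gnP levP = true) {prog : List (ℕ × ℕ × ℕ)}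
    (hK : derCheck L prog K = true) {m : ℕ} (hm : isCode m = true) (hm' : m < 2 ^ 24) :
    Nat.card (GInv L) =
      countBelow 4096 (fun c => sameK K m (cwOf c)) * Nat.card (GInv (m :: L)) := by
  rw [codeOrb_card h hK hm hm',
    countBelow_congr (p := fun c => sameK K m (codeOf c)) (q := fun c => sameK K m (cwOf c))
      fun k hk => by rw [cwOf_eq hk]]

/-- Boolean test for dodecads -/
def isDod (o : ℕ) : Bool := isCode o && Nat.beq (popc o) 12 && Nat.blt o 16777216

theorem setOf_mem_dodecads {o : ℕ} (h : isDod o = true) : setOf o ∈ dodecads := by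
  simp only [isDod, Bool.and_eq_true] at h
  obtain ⟨⟨h1, h2⟩, h3⟩ := h
  have h3' : o < 2 ^ 24 := Nat.le_of_ble_eq_true h3
  exact ⟨(setOf_mem_supports_iff h3').mpr h1, by rw [card_setOf]; exact Nat.eq_of_beq_eq_true h2⟩

end Cfsg.Agent.Lib.Helper8
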