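import Cfsg.Agent.Lib.Helper8.Cls2
import Cfsg.Prelude.Def_Spor_Mathieu

set_option autoImplicit false

namespace Cfsg.Agent.Lib.Helper8

open Cfsg
open scoped Pointwise

theorem squareDodecad_eq : Spor.squareDodecad = setOf 340831 := by
  have : qrWord 0 = vecOf 340831 := by
    funext p
    exact qrWord_eq 0 p
  rw [Spor.squareDodecad, this, support₂_vecOf]

/-- fixed points in an invariant set -/
theorem invset_mod {x : Equiv.Perm GolayPt} {r : ℕ} [Fact r.Prime] (hxr : x ^ r = 1)
    (E : Finset GolayPt) (hE : ∀ a, x a ∈ E ↔ a ∈ E) :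
    E.card ≡ (E ∩ fixF x).card [MOD r] := by
  classical
  set σ : Equiv.Perm {a // a ∈ E} := x.subtypePerm hE with hσ
  have hσr : σ ^ r ^ 1 = 1 := by
    rw [pow_one, hσ, Equiv.Perm.subtypePerm_pow]
    ext a
    simp [hxr]
  have h1 := Equiv.Perm.card_compl_support_modEq hσr
  have h2 : Fintype.card {a // a ∈ E} = E.card := Fintype.card_coe E
  have h3 : σ.supportᶜ.card = (E ∩ fixF x).card := by
    have : (E ∩ fixF x) = σ.supportᶜ.map ⟨Subtype.val, Subtype.val_injective⟩ := by
      ext a
      simp only [Finset.mem_inter, mem_fixF, Finset.mem_map, Finset.mem_compl,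
        Equiv.Perm.mem_support, not_not, Function.Embedding.coeFn_mk, Subtype.exists,
        exists_and_right, exists_eq_right]
      constructor
      · rintro ⟨ha, hxa⟩
        exact ⟨ha, Subtype.ext hxa⟩
      · rintro ⟨ha, hxa⟩
        exact ⟨ha, congrArg Subtype.val hxa⟩
    rw [this, Finset.card_map]
  rw [h2, h3] at h1
  exact h1.symm

/-- a nontrivial element stabilising a dodecad fixes at most four of its points -/
theorem dod_fix_le {d : Finset GolayPt} (hd : d ∈ dodecads) {g : Equiv.Perm GolayPt} (hg : g ∈ M24)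
    (hgd : g • d = d) (hne : g ≠ 1) : (d ∩ fixF g).card ≤ 4 := by
  by_contra h
  obtain ⟨S, hSF, hS⟩ := Finset.exists_subset_card_eq (s := d ∩ fixF g) (n := 5) (by omega)
  let x : Fin 5 ↪ GolayPt :=
    (S.equivFinOfCardEq hS).symm.toEmbedding.trans (Function.Embedding.subtype _)
  have hx : ∀ i, x i ∈ d ∩ fixF g := fun i => hSF ((S.equivFinOfCardEq hS).symm i).2
  exact hne (eq_one_of_fix5 hd x (fun i => (Finset.mem_inter.mp (hx i)).1) hg hgd
    (fun i => mem_fixF.mp (Finset.mem_inter.mp (hx i)).2))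

theorem m11_elusive (g : Equiv.Perm GolayPt) (hg : g ∈ Spor.M11) (hord : (orderOf g).Prime) :
    ∃ x : GolayPt, x ∉ Spor.squareDodecad ∧ g x = x := by
  obtain ⟨⟨hgM, hgD⟩, hg0⟩ := hg
  have hgD' : g • setOf 340831 = setOf 340831 := by rw [← squareDodecad_eq]; exact hgD
  have hg0' : g (pt 0) = pt 0 := hg0
  rw [squareDodecad_eq]
  have hne : g ≠ 1 := by
    intro h; rw [h, orderOf_one] at hord; exact Nat.not_prime_one hord
  set E : Finset GolayPt := (setOf 340831)ᶜ with hEd
  have hEc : E.card = 12 := by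
    rw [hEd, Finset.card_compl, card_Pt, card_setOf]
    decide +kernel
  suffices h : 0 < (E ∩ fixF g).card by
    obtain ⟨x, hx⟩ := Finset.card_pos.mp h
    rw [Finset.mem_inter, hEd, Finset.mem_compl, mem_fixF] at hx
    exact ⟨x, hx.1, hx.2⟩
  have hsplit : (fixF g).card = (setOf 340831 ∩ fixF g).card + (E ∩ fixF g).card := by
    rw [hEd, Finset.inter_comm, Finset.inter_comm _ (fixF g), ← Finset.sdiff_eq_inter_compl,
      Finset.card_inter_add_card_sdiff]
  have h4 := dod_fix_le D0_mem hgM hgD' hne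
  have h0 : pt 0 ∈ fixF g := mem_fixF.mpr hg0'
  by_cases h2 : orderOf g = 2
  · rcases inv_fix hgM h2 with h | h
    · have := h.2
      omega
    · rw [h] at h0; simp at h0
  by_cases h3 : orderOf g = 3
  · rcases ord3_fix hgM h3 with h | h
    · omega
    · rw [h] at h0; simp at h0
  -- the order does not divide 12
  have : Fact (orderOf g).Prime := ⟨hord⟩
  have hE : ∀ a, g a ∈ E ↔ a ∈ E := by
    intro a
    rw [hEd, Finset.mem_compl, Finset.mem_compl]
    conv_lhs => rw [← hgD']
    rw [apply_mem_smul_iff]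
  have hmod := invset_mod (pow_orderOf_eq_one g) E hE
  rw [hEc] at hmod
  by_contra hz
  have hz' : (E ∩ fixF g).card = 0 := by omega
  rw [hz'] at hmod
  have hdvd : orderOf g ∣ 12 := (Nat.modEq_zero_iff_dvd).mp hmod
  have e12 : (12 : ℕ) = 2 ^ 2 * 3 := by norm_num
  rw [e12, hord.dvd_mul] at hdvd
  rcases hdvd with h | h
  · exact h2 ((Nat.prime_dvd_prime_iff_eq hord Nat.prime_two).mp (hord.dvd_of_dvd_pow h))
  · exact h3 ((Nat.prime_dvd_prime_iff_eq hord Nat.prime_three).mp h)

end Cfsg.Agent.Lib.Helper8
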