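import Cfsg.Agent.Lib.Helper8.OrbC
import Cfsg.Prelude.Def_SporadicCombinatorics

set_option autoImplicit false

namespace Cfsg.Agent.Lib.Helper8

open Cfsg
open scoped Pointwise

/-- the family of subsets coded by a list of masks -/
def famOf (l : List ℕ) : Finset (Finset GolayPt) := (l.map setOf).toFinset

theorem mem_famOf {l : List ℕ} {s : Finset GolayPt} : s ∈ famOf l ↔ ∃ a ∈ l, setOf a = s := by
  simp [famOf]

def actL (T : ℕ) (l : List ℕ) : List ℕ := l.map (applyMaskG T)

theorem famOf_actL {T : ℕ} (hT : validT T = true) (l : List ℕ) :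
    famOf (actL T l) = toPerm T • famOf l := by
  ext s
  rw [mem_famOf, Finset.mem_smul_finset]
  constructor
  · rintro ⟨a, ha, rfl⟩
    obtain ⟨b, hb, rfl⟩ := List.mem_map.mp ha
    exact ⟨setOf b, mem_famOf.mpr ⟨b, hb, rfl⟩, by rw [applyMaskG_eq, toPerm_smul_setOf hT]⟩
  · rintro ⟨t, ht, rfl⟩
    obtain ⟨b, hb, rfl⟩ := mem_famOf.mp ht
    exact ⟨applyMaskG T b, List.mem_map.mpr ⟨b, hb, rfl⟩, by
      rw [applyMaskG_eq, toPerm_smul_setOf hT]⟩

def subL (l l' : List ℕ) : Bool := l.all fun a => l'.any fun b => Nat.beq a b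

theorem subL_iff {l l' : List ℕ} : subL l l' = true ↔ ∀ a ∈ l, a ∈ l' := by
  simp only [subL, List.all_eq_true, List.any_eq_true, Nat.beq_eq]
  constructor
  · intro h a ha
    obtain ⟨b, hb, rfl⟩ := h a ha
    exact hb
  · intro h a ha
    exact ⟨a, h a ha, rfl⟩

def eqvL (l l' : List ℕ) : Bool := subL l l' && subL l' l

theorem famOf_eq_of_eqvL {l l' : List ℕ} (h : eqvL l l' = true) : famOf l = famOf l' := by
  rw [eqvL, Bool.and_eq_true, subL_iff, subL_iff] at h
  ext s
  rw [mem_famOf, mem_famOf]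
  constructor
  · rintro ⟨a, ha, rfl⟩; exact ⟨a, h.1 a ha, rfl⟩
  · rintro ⟨a, ha, rfl⟩; exact ⟨a, h.2 a ha, rfl⟩

/-- strictly increasing list of masks -/
def sortedL : List ℕ → Bool
  | [] => true
  | [a] => Nat.blt a 16777216
  | a :: b :: l => Nat.blt a b && sortedL (b :: l)

theorem sortedL_cons {a : ℕ} {l : List ℕ} (h : sortedL (a :: l) = true) :
    sortedL l = true ∧ (∀ b ∈ l, a < b) ∧ a < 2 ^ 24 := by
  induction l generalizing a with
  | nil => exact ⟨rfl, by simp, Nat.le_of_ble_eq_true h⟩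
  | cons b l ih =>
    rw [sortedL, Bool.and_eq_true] at h
    have hab : a < b := Nat.le_of_ble_eq_true h.1
    obtain ⟨_, h2, h3⟩ := ih h.2
    refine ⟨h.2, ?_, lt_trans hab h3⟩
    intro c hc
    rcases List.mem_cons.mp hc with rfl | hc
    · exact hab
    · exact lt_trans hab (h2 c hc)

theorem sortedL_spec {l : List ℕ} (h : sortedL l = true) :
    l.Pairwise (· < ·) ∧ ∀ a ∈ l, a < 2 ^ 24 := by
  induction l with
  | nil => simp
  | cons a l ih =>
    obtain ⟨h1, h2, h3⟩ := sortedL_cons h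
    obtain ⟨i1, i2⟩ := ih h1
    refine ⟨List.pairwise_cons.mpr ⟨h2, i1⟩, ?_⟩
    intro b hb
    rcases List.mem_cons.mp hb with rfl | hb
    · exact h3
    · exact i2 b hb

theorem famOf_inj {l l' : List ℕ} (h : sortedL l = true) (h' : sortedL l' = true)
    (e : famOf l = famOf l') : l = l' := by
  obtain ⟨p, b⟩ := sortedL_spec h
  obtain ⟨p', b'⟩ := sortedL_spec h'
  apply p.sortedLT.eq_of_mem_iff p'.sortedLT
  intro a
  constructor
  · intro ha
    have : setOf a ∈ famOf l' := by rw [← e]; exact mem_famOf.mpr ⟨a, ha, rfl⟩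
    obtain ⟨c, hc, hca⟩ := mem_famOf.mp this
    rw [setOf_inj (b' c hc) (b a ha)] at hca
    rw [← hca]; exact hc
  · intro ha
    have : setOf a ∈ famOf l := by rw [e]; exact mem_famOf.mpr ⟨a, ha, rfl⟩
    obtain ⟨c, hc, hca⟩ := mem_famOf.mp this
    rw [setOf_inj (b c hc) (b' a ha)] at hca
    rw [← hca]; exact hc

theorem card_famOf {l : List ℕ} (h : sortedL l = true) : (famOf l).card = l.length := by
  obtain ⟨p, b⟩ := sortedL_spec h
  rw [famOf, List.toFinset_card_of_nodup, List.length_map]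
  apply List.Nodup.map_on _ p.sortedLT.nodup
  intro x hx y hy hxy
  exact (setOf_inj (b x hx) (b y hy)).mp hxy

/-- a numerical key of a list of masks -/
def keyOf (l : List ℕ) : ℕ := l.foldl (fun acc m => Nat.add (Nat.mul acc 16777216) m) 0

/-- the `i`-th object (a list of `k` masks) of a packed array -/
def objL (k A i : ℕ) : List ℕ := (List.range k).map fun j => getR 24 A (Nat.add (Nat.mul k i) j)

def isOctF (m : ℕ) : Bool := isCodeF m && Nat.beq (popF m) 8 && Nat.blt m 16777216

theorem isOctF_eq (m : ℕ) : isOctF m = isOct m := by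
  rw [isOctF, isOct, isCodeF_eq, popF_eq]

def isDodF (m : ℕ) : Bool := isCodeF m && Nat.beq (popF m) 12 && Nat.blt m 16777216

theorem isDodF_eq (m : ℕ) : isDodF m = isDod m := by
  rw [isDodF, isDod, isCodeF_eq, popF_eq]

/-! ### enumeration of a transitive set of families -/

theorem fam_inj_of_checks {isA : List ℕ → Bool} (hsorted : ∀ l, isA l = true → sortedL l = true)
    {obj : ℕ → List ℕ} {N : ℕ} (hchk : allBelow N (fun i => isA (obj i)) = true)
    (hinc : incCheck (fun i => keyOf (obj i)) N = true) :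
    ∀ i j, i < N → j < N → famOf (obj i) = famOf (obj j) → i = j := by
  intro i j hi hj e
  have e' := famOf_inj (hsorted _ (of_allBelow hchk i hi)) (hsorted _ (of_allBelow hchk j hj)) e
  have hmono := strictMono_of_incCheck hinc
  by_contra hne
  rcases Nat.lt_or_gt_of_ne hne with h | h
  · exact absurd (congrArg keyOf e') (Nat.ne_of_lt (hmono i j h hj))
  · exact absurd (congrArg keyOf e').symm (Nat.ne_of_lt (hmono j i h hi))

/-- the stabiliser of a family in `GInv L` -/
def GFam (L l0 : List ℕ) : Subgroup (Equiv.Perm GolayPt) :=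
  GInv L ⊓ MulAction.stabilizer (Equiv.Perm GolayPt) (famOf l0)

def famTest (l0 : List ℕ) (T : ℕ) : Bool := eqvL (actL T l0) l0

theorem famTest_sound (l0 : List ℕ) (T : ℕ) (hT : validT T = true) (h : famTest l0 T = true) :
    toPerm T ∈ MulAction.stabilizer (Equiv.Perm GolayPt) (famOf l0) := by
  rw [MulAction.mem_stabilizer_iff, ← famOf_actL hT]
  exact famOf_eq_of_eqvL h

theorem fam_enum {A : Set (Finset (Finset GolayPt))} {isA : List ℕ → Bool}
    (hisA : ∀ l, isA l = true → sortedL l = true ∧ famOf l ∈ A) {L0 : List ℕ} (l0 : List ℕ)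
    (htrans : ∀ a ∈ A, ∃ g ∈ GInv L0, g • famOf l0 = a) {obj : ℕ → List ℕ} {N : ℕ}
    (hchk : allBelow N (fun i => isA (obj i)) = true)
    (hinc : incCheck (fun i => keyOf (obj i)) N = true) (lvs : List LevelData) {cardG : ℕ}
    (hcard : Nat.card (GInv L0) = cardG)
    (hlow : Nat.ble cardG (N * lowChain (famTest l0) L0 lvs) = true) :
    A.ncard = N ∧ (∀ a ∈ A, ∃ i < N, famOf (obj i) = a) ∧
      A = MulAction.orbit (GInv L0) (famOf l0) ∧ Nat.card (GInv L0) = N * Nat.card (GFam L0 l0) := by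
  apply enum_complete (GInv L0) A (famOf l0) htrans (fun i => famOf (obj i)) N
    (fun i hi => (hisA _ (of_allBelow hchk i hi)).2)
    (fam_inj_of_checks (fun l hl => (hisA l hl).1) hchk hinc)
  rw [hcard]
  exact le_trans (Nat.le_of_ble_eq_true hlow)
    (Nat.mul_le_mul_left _ (lowChain_le (famTest_sound l0) lvs L0))

end Cfsg.Agent.Lib.Helper8
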