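import Cfsg.Agent.Lib.Helper8.Sets

set_option autoImplicit false

namespace Cfsg.Agent.Lib.Helper8

open Cfsg
open scoped Pointwise

/-! ### fast membership tests -/

def isCodeF (m : ℕ) : Bool := Nat.beq (cwOf (Nat.land m 4095)) m

theorem isCodeF_eq (m : ℕ) : isCodeF m = isCode m := by
  have h : Nat.land m 4095 < 4096 := by
    have : m &&& 4095 ≤ 4095 := Nat.and_le_right
    show m &&& 4095 < 4096
    omega
  rw [isCodeF, cwOf_eq h]
  rfl

def inM24F (T : ℕ) : Bool :=
  Nat.beq (applyMaskG T 16777215) 16777215 && basisL.all fun b => isCodeF (applyMaskG T b)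

theorem inM24F_eq (T : ℕ) : inM24F T = inM24 T := by
  simp only [inM24F, inM24, validT, isCodeF_eq, applyMaskG_eq]

def invTestF (L : List ℕ) (T : ℕ) : Bool :=
  inM24F T && L.all fun m => Nat.beq (applyMaskG T m) m

theorem invTestF_eq (L : List ℕ) (T : ℕ) : invTestF L T = invTest L T := by
  simp only [invTestF, invTest, inM24F_eq, applyMaskG_eq]

/-! ### tables are determined by their permutations -/

theorem img_eq_of_toPerm_eq {T T' : ℕ} (h : validT T = true) (h' : validT T' = true)
    (e : toPerm T = toPerm T') {i : ℕ} (hi : i < 24) : img T i = img T' i := by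
  have h1 := idx_toPerm h (pt i)
  have h2 := idx_toPerm h' (pt i)
  rw [idx_pt hi] at h1 h2
  rw [← h1, ← h2, e]

theorem testBit_img (T i r : ℕ) (hr : r < 5) : (img T i).testBit r = T.testBit (5 * i + r) := by
  have h : (31 : ℕ) = 2 ^ 5 - 1 := by norm_num
  rw [img, Nat.testBit_and, Nat.testBit_shiftRight, h, Nat.testBit_two_pow_sub_one]
  simp [hr]

theorem toPerm_inj {T T' : ℕ} (h : validT T = true) (h' : validT T' = true) (hT : T < 2 ^ 120)
    (hT' : T' < 2 ^ 120) (e : toPerm T = toPerm T') : T = T' := by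
  apply Nat.eq_of_testBit_eq
  intro n
  by_cases hn : n < 120
  · have h1 : n = 5 * (n / 5) + n % 5 := (Nat.div_add_mod n 5).symm
    have h2 : n % 5 < 5 := Nat.mod_lt _ (by norm_num)
    have h3 : n / 5 < 24 := by omega
    rw [h1, ← testBit_img T _ _ h2, ← testBit_img T' _ _ h2, img_eq_of_toPerm_eq h h' e h3]
  · have e1 : T < 2 ^ n := lt_of_lt_of_le hT (Nat.pow_le_pow_right (by norm_num) (by omega))
    have e2 : T' < 2 ^ n := lt_of_lt_of_le hT' (Nat.pow_le_pow_right (by norm_num) (by omega))
    rw [Nat.testBit_lt_two_pow e1, Nat.testBit_lt_two_pow e2]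

theorem getR_lt (w A i : ℕ) : getR w A i < 2 ^ w := Nat.mod_lt _ (Nat.two_pow_pos w)

/-- a list of `N` different elements of a group of order `N` is complete -/
theorem list_complete {L : List ℕ} {A N : ℕ} (hcard : Nat.card (GInv L) = N)
    (hmem : allBelow N (fun i => invTestF L (getR 120 A i)) = true)
    (hinc : incCheck (getR 120 A) N = true) :
    ∀ g ∈ GInv L, ∃ i < N, g = toPerm (getR 120 A i) := by
  have hm : ∀ i < N, validT (getR 120 A i) = true ∧ toPerm (getR 120 A i) ∈ GInv L := by
    intro i hi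
    have := of_allBelow hmem i hi
    rw [invTestF_eq] at this
    exact toPerm_mem_GInv this
  have hmono := strictMono_of_incCheck hinc
  have key := exists_index_of_card (GInv L : Set (Equiv.Perm GolayPt)) (Set.toFinite _)
    (fun i => toPerm (getR 120 A i)) N (by rw [← hcard]; rfl) (fun i hi => (hm i hi).2) (by
      intro i j hi hj e
      have e' := toPerm_inj (hm i hi).1 (hm j hj).1 (getR_lt _ _ _) (getR_lt _ _ _) e
      by_contra hne
      rcases Nat.lt_or_gt_of_ne hne with h | h
      · exact absurd e' (Nat.ne_of_lt (hmono i j h hj))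
      · exact absurd e'.symm (Nat.ne_of_lt (hmono j i h hi)))
  intro g hg
  obtain ⟨i, hi, h⟩ := key g hg
  exact ⟨i, hi, h.symm⟩

/-- a property checked on all the tables of a complete list -/
theorem forall_of_list {L : List ℕ} {A N : ℕ} (hcard : Nat.card (GInv L) = N)
    (hmem : allBelow N (fun i => invTestF L (getR 120 A i)) = true)
    (hinc : incCheck (getR 120 A) N = true) (P : Equiv.Perm GolayPt → Prop) (p : ℕ → Bool)
    (hp : ∀ T, validT T = true → p T = true → P (toPerm T))
    (hall : allBelow N (fun i => p (getR 120 A i)) = true) : ∀ g ∈ GInv L, P g := by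
  intro g hg
  obtain ⟨i, hi, rfl⟩ := list_complete hcard hmem hinc g hg
  have := of_allBelow hmem i hi
  rw [invTestF_eq] at this
  exact hp _ (toPerm_mem_GInv this).1 (of_allBelow hall i hi)

/-! ### pointwise stabilisers -/

/-- the singletons of the points of a mask -/
def ptsL (m : ℕ) : List ℕ := ((List.range 24).filter fun i => m.testBit i).map fun i => 2 ^ i

theorem mem_ptsL {m a : ℕ} : a ∈ ptsL m ↔ ∃ i < 24, m.testBit i = true ∧ a = 2 ^ i := by
  simp only [ptsL, List.mem_map, List.mem_filter, List.mem_range]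
  constructor
  · rintro ⟨i, ⟨h1, h2⟩, rfl⟩; exact ⟨i, h1, h2, rfl⟩
  · rintro ⟨i, h1, h2, rfl⟩; exact ⟨i, ⟨h1, h2⟩, rfl⟩

theorem fix_conj_iff {g k : Equiv.Perm GolayPt} {s : Finset GolayPt} {m : ℕ}
    (hs : g • s = setOf m) : (∀ a ∈ ptsL m, Inv (g * k * g⁻¹) a) ↔ ∀ x ∈ s, k x = x := by
  constructor
  · intro h x hx
    have h1 : g x ∈ setOf m := by rw [← hs, apply_mem_smul_iff]; exact hx
    have h2 := h (2 ^ idx (g x)) (mem_ptsL.mpr ⟨_, idx_lt _, mem_setOf.mp h1, rfl⟩)
    exact (inv_conj_pt_iff (idx_lt _) (pt_idx _).symm).mp h2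
  · intro h a ha
    obtain ⟨i, hi, hm, rfl⟩ := mem_ptsL.mp ha
    have h1 : g (g⁻¹ (pt i)) = pt i := by simp
    rw [inv_conj_pt_iff hi h1]
    apply h
    rw [← apply_mem_smul_iff g, h1, hs, pt_mem_setOf hi]
    exact hm

/-- Boolean test: the table is an involution or the identity -/
def sqOne (T : ℕ) : Bool := allBelow 24 fun i => Nat.beq (img T (img T i)) i

theorem toPerm_sq {T : ℕ} (h : validT T = true) (hs : sqOne T = true) :
    toPerm T * toPerm T = 1 := by
  ext p : 1
  rw [Equiv.Perm.mul_apply, Equiv.Perm.one_apply, toPerm_apply h p,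
    toPerm_pt h (img_lt h (idx_lt p)), Nat.eq_of_beq_eq_true (of_allBelow hs _ (idx_lt p)), pt_idx]

/-- Boolean test: the table moves some point -/
def movesT (T : ℕ) : Bool := !(allBelow 24 fun i => Nat.beq (img T i) i)

theorem toPerm_ne_one {T : ℕ} (h : validT T = true) (hs : movesT T = true) : toPerm T ≠ 1 := by
  intro e
  rw [movesT, Bool.not_eq_true', ← Bool.not_eq_true, allBelow_iff] at hs
  apply hs
  intro i hi
  have h1 := idx_toPerm h (pt i)
  rw [e, Equiv.Perm.one_apply, idx_pt hi] at h1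
  rw [← h1]
  exact Nat.beq_refl i

end Cfsg.Agent.Lib.Helper8
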