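import Cfsg.Agent.Lib.Helper8.Bits

set_option autoImplicit false

namespace Cfsg.Agent.Lib.Helper8

open Cfsg

/-- the binary word with a given bit mask -/
def vecOf (m : ℕ) : GolayPt → ZMod 2 := fun p => if m.testBit (idx p) = true then 1 else 0

theorem vecOf_xor (a b : ℕ) : vecOf (a ^^^ b) = vecOf a + vecOf b := by
  funext p
  simp only [vecOf, Nat.testBit_xor, Pi.add_apply]
  cases a.testBit (idx p) <;> cases b.testBit (idx p) <;> simp; decide

theorem vecOf_zero : vecOf 0 = 0 := by
  funext p; simp [vecOf]

theorem support₂_vecOf (m : ℕ) : support₂ (vecOf m) = setOf m := by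
  ext p
  cases h : m.testBit (idx p) <;> simp [support₂, vecOf, h]

theorem zmod2_cases (x : ZMod 2) : x = 0 ∨ x = 1 := by
  revert x; decide

theorem vecOf_maskS_support₂ (w : GolayPt → ZMod 2) : vecOf (maskS (support₂ w)) = w := by
  funext p
  simp only [vecOf, testBit_maskS, support₂, Finset.mem_filter, Finset.mem_univ, true_and,
    decide_eq_true_eq]
  rcases zmod2_cases (w p) with h | h <;> simp [h]

theorem support₂_injective : Function.Injective (support₂ : (GolayPt → ZMod 2) → Finset GolayPt) :=
  fun v w h => by rw [← vecOf_maskS_support₂ v, ← vecOf_maskS_support₂ w, h]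

/-- xor of the members of a list selected by the bits of `c` -/
def xorSel (l : List ℕ) : ℕ → ℕ :=
  List.rec (motive := fun _ => ℕ → ℕ) (fun _ => 0)
    (fun b _ ih c => ((c &&& 1) * b) ^^^ ih (c >>> 1)) l

theorem xorSel_nil (c : ℕ) : xorSel [] c = 0 := rfl
theorem xorSel_cons (b : ℕ) (l : List ℕ) (c : ℕ) :
    xorSel (b :: l) c = ((c &&& 1) * b) ^^^ xorSel l (c >>> 1) := rfl

theorem and_one_cases (c : ℕ) : c &&& 1 = 0 ∨ c &&& 1 = 1 := by
  rw [Nat.and_one_is_mod]; exact Nat.mod_two_eq_zero_or_one c

theorem xorSel_xor (l : List ℕ) (a b : ℕ) : xorSel l (a ^^^ b) = xorSel l a ^^^ xorSel l b := by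
  induction l generalizing a b with
  | nil => simp [xorSel_nil]
  | cons x l ih =>
    rw [xorSel_cons, xorSel_cons, xorSel_cons, Nat.shiftRight_xor_distrib, ih,
      Nat.and_xor_distrib_right]
    have key : ∀ A B : ℕ, (x ^^^ A) ^^^ (x ^^^ B) = A ^^^ B := by
      intro A B
      have : (x ^^^ A) ^^^ (x ^^^ B) = (x ^^^ x) ^^^ (A ^^^ B) := by ac_rfl
      rw [this, Nat.xor_self, Nat.zero_xor]
    rcases and_one_cases a with h | h <;> rcases and_one_cases b with h' | h' <;>
      simp only [h, h', Nat.zero_mul, Nat.one_mul, Nat.xor_zero, Nat.zero_xor, Nat.xor_self, key] <;>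
      ac_rfl

theorem xorSel_lt (l : List ℕ) (h : ∀ b ∈ l, b < 2 ^ 24) (c : ℕ) : xorSel l c < 2 ^ 24 := by
  induction l generalizing c with
  | nil => simp [xorSel_nil]
  | cons x l ih =>
    rw [xorSel_cons]
    apply Nat.xor_lt_two_pow
    · rcases and_one_cases c with h' | h' <;> simp only [h', Nat.zero_mul, Nat.one_mul]
      · positivity
      · exact h x (by simp)
    · exact ih (fun b hb => h b (by simp [hb])) _

theorem vecOf_xorSel_mem (C : Submodule (ZMod 2) (GolayPt → ZMod 2)) (l : List ℕ)
    (h : ∀ b ∈ l, vecOf b ∈ C) (c : ℕ) : vecOf (xorSel l c) ∈ C := by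
  induction l generalizing c with
  | nil => rw [xorSel_nil, vecOf_zero]; exact C.zero_mem
  | cons x l ih =>
    rw [xorSel_cons, vecOf_xor]
    apply C.add_mem
    · rcases and_one_cases c with h' | h' <;> simp only [h', Nat.zero_mul, Nat.one_mul]
      · rw [vecOf_zero]; exact C.zero_mem
      · exact h x (by simp)
    · exact ih (fun b hb => h b (by simp [hb])) _

/-- masks of the 24 spanning words -/
def gensL : List ℕ := [340831, 681662, 1363324, 2726648, 5453296, 2517985, 5035970, 1683333,
  3366666, 6733332, 5078057, 1767507, 3535014, 7070028, 5751449, 3114291, 6228582, 4068557,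
  8137114, 7885621, 7382635, 6376663, 4364719, 16777215]

/-- a systematic basis (bit `i` of the `i`-th vector is the only one set among the low 12) -/
def basisL : List ℕ := [13062145, 4845570, 13938692, 7221256, 10170384, 11952160, 15515712,
  2019456, 4038912, 8077824, 11654144, 14919680]

/-- how the basis vectors are combined from the spanning words -/
def combL : List ℕ := [8390313, 280, 8389785, 1400, 8390330, 8390551, 8390093, 2000, 1347, 101,
  8390243, 8390181]

/-- the code word with information bits `c` -/
def codeOf (c : ℕ) : ℕ := xorSel basisL c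

/-- membership test for masks -/
def isCode (m : ℕ) : Bool := Nat.beq (codeOf (m &&& 4095)) m

theorem isCode_iff (m : ℕ) : isCode m = true ↔ codeOf (m &&& 4095) = m := by
  simp [isCode]

theorem qrWord_eq : ∀ t : ZMod 23, ∀ p : GolayPt, qrWord t p = vecOf (gensL.getD (ZMod.val t) 0) p := by
  decide +kernel

theorem one_eq : (1 : GolayPt → ZMod 2) = vecOf 16777215 := by
  funext p
  have : p ∈ setOf 16777215 := by rw [setOf_full]; exact Finset.mem_univ p
  rw [mem_setOf] at this
  simp [vecOf, this]

theorem vecOf_gens_mem : ∀ b ∈ gensL, vecOf b ∈ golayCode := by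
  intro b hb
  apply Submodule.subset_span
  obtain ⟨i, hi, rfl⟩ := List.getElem_of_mem hb
  have hlen : gensL.length = 24 := rfl
  by_cases h23 : i < 23
  · left
    refine ⟨((i : ℕ) : ZMod 23), ?_⟩
    funext p
    rw [qrWord_eq]
    have : ZMod.val ((i : ℕ) : ZMod 23) = i := ZMod.val_natCast_of_lt h23
    rw [this, List.getD_eq_getElem _ _ hi]
  · right
    have : i = 23 := by omega
    subst this
    exact one_eq.symm

theorem basis_comb : (basisL.zip combL).all (fun x => Nat.beq (xorSel gensL x.2) x.1) = true := by
  decide +kernel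

theorem vecOf_basis_mem : ∀ b ∈ basisL, vecOf b ∈ golayCode := by
  intro b hb
  have h := List.all_eq_true.mp basis_comb
  obtain ⟨i, hi, rfl⟩ := List.getElem_of_mem hb
  have hlen : basisL.length = 12 := rfl
  have hlen' : combL.length = 12 := rfl
  have hz : (basisL[i], combL[i]'(by omega)) ∈ basisL.zip combL := by
    have : (basisL.zip combL)[i]'(by simp [hlen, hlen']; omega) = (basisL[i], combL[i]'(by omega)) := by
      simp
    rw [← this]
    exact List.getElem_mem _
  have := Nat.eq_of_beq_eq_true (h _ hz)
  simp only at this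
  rw [← this]
  exact vecOf_xorSel_mem _ _ vecOf_gens_mem _

theorem vecOf_codeOf_mem (c : ℕ) : vecOf (codeOf c) ∈ golayCode :=
  vecOf_xorSel_mem _ _ vecOf_basis_mem _

theorem codeOf_lt (c : ℕ) : codeOf c < 2 ^ 24 :=
  xorSel_lt _ (by decide) c

theorem isCode_gens : gensL.all isCode = true := by decide +kernel

theorem isCode_xor {a b : ℕ} (ha : isCode a = true) (hb : isCode b = true) :
    isCode (a ^^^ b) = true := by
  rw [isCode_iff] at *
  rw [Nat.and_xor_distrib_right, codeOf, xorSel_xor]
  exact congrArg₂ _ ha hb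

theorem maskS_support₂_add (v w : GolayPt → ZMod 2) :
    maskS (support₂ (v + w)) = maskS (support₂ v) ^^^ maskS (support₂ w) := by
  have h : v + w = vecOf (maskS (support₂ v) ^^^ maskS (support₂ w)) := by
    rw [vecOf_xor, vecOf_maskS_support₂, vecOf_maskS_support₂]
  rw [h, support₂_vecOf, maskS_setOf (Nat.xor_lt_two_pow (maskS_lt _) (maskS_lt _))]

/-- The bridge: membership in the code is the mask test. -/
theorem mem_golayCode_iff (w : GolayPt → ZMod 2) :
    w ∈ golayCode ↔ isCode (maskS (support₂ w)) = true := by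
  constructor
  · intro hw
    refine Submodule.span_induction (p := fun w _ => isCode (maskS (support₂ w)) = true)
      ?_ ?_ ?_ ?_ hw
    · intro x hx
      have key : ∀ b ∈ gensL, isCode (maskS (support₂ (vecOf b))) = true := by
        intro b hb
        have hb' : b < 2 ^ 24 := by
          revert b; decide
        rw [support₂_vecOf, maskS_setOf hb']
        exact List.all_eq_true.mp isCode_gens b hb
      rcases hx with ⟨t, rfl⟩ | hx
      · have : qrWord t = vecOf (gensL.getD (ZMod.val t) 0) := funext (qrWord_eq t)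
        rw [this]
        apply key
        have hlt : ZMod.val t < gensL.length := lt_trans (ZMod.val_lt t) (by decide)
        rw [List.getD_eq_getElem _ _ hlt]
        exact List.getElem_mem _
      · rw [Set.mem_singleton_iff.mp hx, one_eq]
        exact key _ (by decide)
    · have : support₂ (0 : GolayPt → ZMod 2) = setOf 0 := by rw [← vecOf_zero, support₂_vecOf]
      rw [this, maskS_setOf (by norm_num)]
      decide +kernel
    · intro x y _ _ hx hy
      rw [maskS_support₂_add]
      exact isCode_xor hx hy
    · intro a x _ hx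
      rcases zmod2_cases a with h | h
      · rw [h, zero_smul]
        have : support₂ (0 : GolayPt → ZMod 2) = setOf 0 := by rw [← vecOf_zero, support₂_vecOf]
        rw [this, maskS_setOf (by norm_num)]
        decide +kernel
      · rw [h, one_smul]; exact hx
  · intro h
    rw [isCode_iff] at h
    rw [← vecOf_maskS_support₂ w, ← h]
    exact vecOf_codeOf_mem _

theorem mem_supports_iff (s : Finset GolayPt) :
    s ∈ supports (golayCode : Set (GolayPt → ZMod 2)) ↔ isCode (maskS s) = true := by
  constructor
  · rintro ⟨w, hw, rfl⟩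
    exact (mem_golayCode_iff w).mp hw
  · intro h
    refine ⟨vecOf (maskS s), ?_, ?_⟩
    · rw [SetLike.mem_coe, mem_golayCode_iff, support₂_vecOf, setOf_maskS]; exact h
    · rw [support₂_vecOf, setOf_maskS]

theorem setOf_mem_supports_iff {m : ℕ} (hm : m < 2 ^ 24) :
    setOf m ∈ supports (golayCode : Set (GolayPt → ZMod 2)) ↔ isCode m = true := by
  rw [mem_supports_iff, maskS_setOf hm]

theorem codeOf_and : allBelow 4096 (fun c => Nat.beq (codeOf c &&& 4095) c) = true := by
  decide +kernel

theorem codeOf_and_eq {c : ℕ} (hc : c < 4096) : codeOf c &&& 4095 = c := by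
  have := of_allBelow codeOf_and c hc
  simpa using this

theorem isCode_codeOf {c : ℕ} (hc : c < 4096) : isCode (codeOf c) = true := by
  rw [isCode_iff, codeOf_and_eq hc]

theorem isCode_iff_exists (m : ℕ) : isCode m = true ↔ ∃ c < 4096, codeOf c = m := by
  constructor
  · intro h
    refine ⟨m &&& 4095, ?_, (isCode_iff m).mp h⟩
    exact lt_of_le_of_lt Nat.and_le_right (by norm_num)
  · rintro ⟨c, hc, rfl⟩; exact isCode_codeOf hc

theorem codeOf_injOn {c c' : ℕ} (hc : c < 4096) (hc' : c' < 4096) (h : codeOf c = codeOf c') :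
    c = c' := by
  rw [← codeOf_and_eq hc, ← codeOf_and_eq hc', h]

/-- every member of the family of supports is `setOf (codeOf c)` -/
theorem exists_of_mem_supports {s : Finset GolayPt}
    (hs : s ∈ supports (golayCode : Set (GolayPt → ZMod 2))) : ∃ c < 4096, s = setOf (codeOf c) := by
  obtain ⟨c, hc, h⟩ := (isCode_iff_exists _).mp ((mem_supports_iff s).mp hs)
  exact ⟨c, hc, by rw [h, setOf_maskS]⟩

theorem setOf_codeOf_mem_supports {c : ℕ} (hc : c < 4096) :
    setOf (codeOf c) ∈ supports (golayCode : Set (GolayPt → ZMod 2)) :=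
  (setOf_mem_supports_iff (codeOf_lt c)).mpr (isCode_codeOf hc)

end Cfsg.Agent.Lib.Helper8
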