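import Cfsg.Agent.Lib.Helper8.Golay

set_option autoImplicit false
set_option linter.constructorNameAsVariable false

namespace Cfsg.Agent.Lib.Helper8

open Cfsg

theorem hammingNorm_eq (w : GolayPt → ZMod 2) : hammingNorm w = (support₂ w).card := rfl

theorem exists_of_mem_golayCode {w : GolayPt → ZMod 2} (hw : w ∈ golayCode) :
    ∃ c < 4096, w = vecOf (codeOf c) := by
  obtain ⟨c, hc, h⟩ := (isCode_iff_exists _).mp ((mem_golayCode_iff w).mp hw)
  exact ⟨c, hc, by rw [h, vecOf_maskS_support₂]⟩

def wtOK (n : ℕ) : Bool :=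
  Nat.beq n 0 || Nat.beq n 8 || Nat.beq n 12 || Nat.beq n 16 || Nat.beq n 24

theorem weights_check : allBelow 4096 (fun c => wtOK (popc (codeOf c))) = true := by
  decide +kernel

theorem popc_codeOf {c : ℕ} (hc : c < 4096) :
    popc (codeOf c) = 0 ∨ popc (codeOf c) = 8 ∨ popc (codeOf c) = 12 ∨ popc (codeOf c) = 16 ∨
      popc (codeOf c) = 24 := by
  have := of_allBelow weights_check c hc
  simp only [wtOK, Bool.or_eq_true, Nat.beq_eq] at this
  tauto

theorem card_of_mem_supports {s : Finset GolayPt}
    (hs : s ∈ supports (golayCode : Set (GolayPt → ZMod 2))) :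
    s.card = 0 ∨ s.card = 8 ∨ s.card = 12 ∨ s.card = 16 ∨ s.card = 24 := by
  obtain ⟨c, hc, rfl⟩ := exists_of_mem_supports hs
  rw [card_setOf]; exact popc_codeOf hc

theorem wordsOfWeight_eq (n : ℕ) :
    wordsOfWeight (golayCode : Set (GolayPt → ZMod 2)) n =
      ↑(((Finset.range 4096).filter fun c => Nat.beq (popc (codeOf c)) n = true).image
        fun c => setOf (codeOf c)) := by
  ext s
  simp only [wordsOfWeight, Set.mem_ofPred_eq, Finset.coe_image, Finset.coe_filter,
    Finset.mem_range, Set.mem_image]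
  constructor
  · rintro ⟨hs, hcard⟩
    obtain ⟨c, hc, rfl⟩ := exists_of_mem_supports hs
    refine ⟨c, ⟨hc, ?_⟩, rfl⟩
    rw [card_setOf] at hcard
    simp [hcard]
  · rintro ⟨c, ⟨hc, hw⟩, rfl⟩
    refine ⟨setOf_codeOf_mem_supports hc, ?_⟩
    rw [card_setOf]
    exact Nat.eq_of_beq_eq_true hw

theorem setOf_codeOf_injOn {c c' : ℕ} (hc : c < 4096) (hc' : c' < 4096)
    (h : setOf (codeOf c) = setOf (codeOf c')) : c = c' :=
  codeOf_injOn hc hc' ((setOf_inj (codeOf_lt c) (codeOf_lt c')).mp h)

theorem ncard_wordsOfWeight (n : ℕ) :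
    (wordsOfWeight (golayCode : Set (GolayPt → ZMod 2)) n).ncard =
      countBelow 4096 (fun c => Nat.beq (popc (codeOf c)) n) := by
  rw [wordsOfWeight_eq, Set.ncard_coe_finset, countBelow_eq, Finset.card_image_of_injOn]
  intro c hc c' hc' h
  simp only [Finset.coe_filter, Finset.mem_range, Set.mem_ofPred_eq] at hc hc'
  exact setOf_codeOf_injOn hc.1 hc'.1 h

theorem count8 : countBelow 4096 (fun c => Nat.beq (popc (codeOf c)) 8) = 759 := by
  decide +kernel

theorem count12 : countBelow 4096 (fun c => Nat.beq (popc (codeOf c)) 12) = 2576 := by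
  decide +kernel

theorem ncard_octads : octads.ncard = 759 := by
  rw [octads, ncard_wordsOfWeight, count8]

theorem ncard_dodecads : dodecads.ncard = 2576 := by
  rw [dodecads, ncard_wordsOfWeight, count12]

theorem finite_supports : (supports (golayCode : Set (GolayPt → ZMod 2))).Finite :=
  Set.toFinite _

theorem symmDiff_mem_supports {s t : Finset GolayPt}
    (hs : s ∈ supports (golayCode : Set (GolayPt → ZMod 2)))
    (ht : t ∈ supports (golayCode : Set (GolayPt → ZMod 2))) :
    symmDiff s t ∈ supports (golayCode : Set (GolayPt → ZMod 2)) := by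
  rw [mem_supports_iff] at *
  have : symmDiff s t = setOf (maskS s ^^^ maskS t) := by
    rw [setOf_xor, setOf_maskS, setOf_maskS]
  rw [this, maskS_setOf (Nat.xor_lt_two_pow (maskS_lt _) (maskS_lt _))]
  exact isCode_xor hs ht

theorem mem_octads_iff (s : Finset GolayPt) :
    s ∈ octads ↔ s ∈ supports (golayCode : Set (GolayPt → ZMod 2)) ∧ s.card = 8 := Iff.rfl

theorem mem_dodecads_iff (s : Finset GolayPt) :
    s ∈ dodecads ↔ s ∈ supports (golayCode : Set (GolayPt → ZMod 2)) ∧ s.card = 12 := Iff.rfl

/-- two distinct octads meet in at most 4 points -/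
theorem octads_inter_le {o o' : Finset GolayPt} (ho : o ∈ octads) (ho' : o' ∈ octads)
    (hne : o ≠ o') : (o ∩ o').card ≤ 4 := by
  have h1 := symmDiff_mem_supports ho.1 ho'.1
  have h2 := card_of_mem_supports h1
  have h3 : (symmDiff o o').card + 2 * (o ∩ o').card = o.card + o'.card := by
    have e1 : symmDiff o o' = (o \ o') ∪ (o' \ o) := rfl
    have e2 : Disjoint (o \ o') (o' \ o) := by
      rw [Finset.disjoint_left]
      intro x hx hx'
      simp only [Finset.mem_sdiff] at hx hx'
      exact hx.2 hx'.1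
    rw [e1, Finset.card_union_of_disjoint e2]
    have e3 := Finset.card_sdiff_add_card_inter o o'
    have e4 := Finset.card_sdiff_add_card_inter o' o
    rw [Finset.inter_comm o' o] at e4
    omega
  rw [ho.2, ho'.2] at h3
  have h4 : (symmDiff o o').card ≠ 0 := by
    intro h
    rw [Finset.card_eq_zero] at h
    exact hne (symmDiff_eq_bot.mp h)
  omega

theorem dot_vecOf (a b : ℕ) :
    ∑ p, vecOf a p * vecOf b p = ((popc (a &&& b) : ℕ) : ZMod 2) := by
  rw [← card_setOf, setOf, Finset.card_filter, Nat.cast_sum]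
  apply Finset.sum_congr rfl
  intro p _
  simp only [vecOf, Nat.testBit_and]
  cases a.testBit (idx p) <;> cases b.testBit (idx p) <;> simp

theorem basis_orth :
    basisL.all (fun a => basisL.all fun b => Nat.beq (popc (a &&& b) % 2) 0) = true := by
  decide +kernel

theorem dot_xorSel_left (l : List ℕ) (w : GolayPt → ZMod 2)
    (h : ∀ b ∈ l, ∑ p, vecOf b p * w p = 0) (c : ℕ) : ∑ p, vecOf (xorSel l c) p * w p = 0 := by
  induction l generalizing c with
  | nil => simp [xorSel_nil, vecOf_zero]
  | cons x l ih =>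
    rw [xorSel_cons, vecOf_xor]
    simp only [Pi.add_apply, add_mul, Finset.sum_add_distrib]
    rw [ih (fun b hb => h b (by simp [hb]))]
    rcases and_one_cases c with h' | h' <;> simp only [h', Nat.zero_mul, Nat.one_mul]
    · simp [vecOf_zero]
    · rw [h x (by simp), add_zero]

theorem golay_self_orth (v w : GolayPt → ZMod 2) (hv : v ∈ golayCode) (hw : w ∈ golayCode) :
    ∑ i, v i * w i = 0 := by
  obtain ⟨c, _, rfl⟩ := exists_of_mem_golayCode hv
  obtain ⟨c', _, rfl⟩ := exists_of_mem_golayCode hw
  apply dot_xorSel_left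
  intro b hb
  have : ∑ p, vecOf b p * vecOf (codeOf c') p = ∑ p, vecOf (codeOf c') p * vecOf b p := by
    apply Finset.sum_congr rfl; intro p _; ring
  rw [this]
  apply dot_xorSel_left
  intro b' hb'
  rw [dot_vecOf]
  have h := List.all_eq_true.mp (List.all_eq_true.mp basis_orth b' hb') b hb
  have h2 : popc (b' &&& b) % 2 = 0 := Nat.eq_of_beq_eq_true h
  exact (ZMod.natCast_eq_zero_iff _ 2).mpr (Nat.dvd_of_mod_eq_zero h2)

theorem card_golayCode : Nat.card golayCode = 4096 := by
  have h : (golayCode : Set (GolayPt → ZMod 2)) =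
      ↑((Finset.range 4096).image fun c => vecOf (codeOf c)) := by
    ext w
    simp only [SetLike.mem_coe, Finset.coe_image, Finset.coe_range, Set.mem_image, Set.mem_Iio]
    constructor
    · intro hw
      obtain ⟨c, hc, rfl⟩ := exists_of_mem_golayCode hw
      exact ⟨c, hc, rfl⟩
    · rintro ⟨c, _, rfl⟩
      exact vecOf_codeOf_mem c
  have h2 : Nat.card golayCode = (golayCode : Set (GolayPt → ZMod 2)).ncard := rfl
  rw [h2, h, Set.ncard_coe_finset, Finset.card_image_of_injOn, Finset.card_range]
  intro c hc c' hc' hcc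
  simp only [Finset.coe_range, Set.mem_Iio] at hc hc'
  apply setOf_codeOf_injOn hc hc'
  rw [← support₂_vecOf, ← support₂_vecOf]
  exact congrArg support₂ hcc

theorem finrank_golayCode : Module.finrank (ZMod 2) golayCode = 12 := by
  have h := Module.natCard_eq_pow_finrank (K := ZMod 2) (V := golayCode)
  rw [card_golayCode, Nat.card_zmod] at h
  have : (2 : ℕ) ^ 12 = 2 ^ Module.finrank (ZMod 2) golayCode := by rw [← h]; norm_num
  exact (Nat.pow_right_injective (le_refl 2) this).symm

/-- the octads as a `Finset` -/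
noncomputable def octF : Finset (Finset GolayPt) :=
  ((Finset.range 4096).filter fun c => Nat.beq (popc (codeOf c)) 8 = true).image
    fun c => setOf (codeOf c)

theorem coe_octF : (octF : Set (Finset GolayPt)) = octads := (wordsOfWeight_eq 8).symm

theorem mem_octF {o : Finset GolayPt} : o ∈ octF ↔ o ∈ octads := by
  rw [← coe_octF]; rfl

theorem card_octF : octF.card = 759 := by
  rw [← Set.ncard_coe_finset, coe_octF, ncard_octads]

theorem steiner_octads : IsSteinerSystem 5 8 octads := by
  refine ⟨fun b hb => hb.2, ?_⟩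
  -- uniqueness
  have huniq : ∀ s : Finset GolayPt, s.card = 5 → ∀ o ∈ octads, ∀ o' ∈ octads,
      s ⊆ o → s ⊆ o' → o = o' := by
    intro s hs o ho o' ho' h1 h2
    by_contra hne
    have := octads_inter_le ho ho' hne
    have h3 : s.card ≤ (o ∩ o').card := Finset.card_le_card (Finset.subset_inter h1 h2)
    omega
  -- counting
  let U : Finset (Finset GolayPt) := octF.biUnion fun o => o.powersetCard 5
  have hU : U.card = 42504 := by
    rw [Finset.card_biUnion]
    · have : ∀ o ∈ octF, (o.powersetCard 5).card = 56 := by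
        intro o ho
        rw [Finset.card_powersetCard, (mem_octF.mp ho).2]
        decide +kernel
      rw [Finset.sum_congr rfl this, Finset.sum_const, card_octF, smul_eq_mul]
    · intro o ho o' ho' hne
      rw [Function.onFun, Finset.disjoint_left]
      intro s hs hs'
      rw [Finset.mem_powersetCard] at hs hs'
      exact hne (huniq s hs.2 o (mem_octF.mp ho) o' (mem_octF.mp ho') hs.1 hs'.1)
  have hall : U = (Finset.univ : Finset GolayPt).powersetCard 5 := by
    apply Finset.eq_of_subset_of_card_le
    · intro s hs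
      simp only [U, Finset.mem_biUnion, Finset.mem_powersetCard] at hs
      obtain ⟨o, _, _, h⟩ := hs
      simp [Finset.mem_powersetCard, h]
    · rw [hU, Finset.card_powersetCard, Finset.card_univ]
      have : Fintype.card GolayPt = 24 := by
        simp [GolayPt, Fintype.card_option, ZMod.card]
      rw [this]
      decide +kernel
  intro s hs
  have hsU : s ∈ U := by
    rw [hall]; simp [Finset.mem_powersetCard, hs]
  simp only [U, Finset.mem_biUnion, Finset.mem_powersetCard] at hsU
  obtain ⟨o, ho, hso, _⟩ := hsU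
  refine ⟨o, ⟨mem_octF.mp ho, hso⟩, ?_⟩
  rintro o' ⟨ho', hso'⟩
  exact huniq s hs o' ho' o (mem_octF.mp ho) hso' hso

end Cfsg.Agent.Lib.Helper8
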