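import Cfsg.Agent.Lib.Helper8.GolayFacts

set_option autoImplicit false

namespace Cfsg.Agent.Lib.Helper8

open Cfsg

/-- the code as a family of sets -/
abbrev CS : Set (Finset GolayPt) := supports (golayCode : Set (GolayPt → ZMod 2))

theorem empty_mem_CS : (∅ : Finset GolayPt) ∈ CS :=
  ⟨0, golayCode.zero_mem, by simp [support₂]⟩

theorem univ_mem_CS : (Finset.univ : Finset GolayPt) ∈ CS :=
  ⟨1, Submodule.subset_span (Or.inr rfl), by simp [support₂]⟩

theorem compl_mem_CS {s : Finset GolayPt} (h : s ∈ CS) : sᶜ ∈ CS := by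
  have := symmDiff_mem_supports h univ_mem_CS
  rwa [← Finset.top_eq_univ, symmDiff_top] at this

theorem card_pts : (Finset.univ : Finset GolayPt).card = 24 := by
  simp [GolayPt, Fintype.card_option, ZMod.card]

theorem four_dvd_card_CS {s : Finset GolayPt} (h : s ∈ CS) : 4 ∣ s.card := by
  rcases card_of_mem_supports h with h | h | h | h | h <;> rw [h] <;> decide

theorem even_inter_CS {s t : Finset GolayPt} (hs : s ∈ CS) (ht : t ∈ CS) : Even (s ∩ t).card := by
  have h1 := four_dvd_card_CS hs
  have h2 := four_dvd_card_CS ht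
  have h3 := four_dvd_card_CS (symmDiff_mem_supports hs ht)
  have h4 : (symmDiff s t).card + 2 * (s ∩ t).card = s.card + t.card := by
    have e1 : (symmDiff s t).card = (s \ t).card + (t \ s).card := by
      rw [symmDiff_def, Finset.sup_eq_union, Finset.card_union_of_disjoint]
      exact Finset.disjoint_of_subset_right Finset.sdiff_subset Finset.sdiff_disjoint
    have e2 := Finset.card_sdiff_add_card_inter s t
    have e3 := Finset.card_sdiff_add_card_inter t s
    rw [Finset.inter_comm t s] at e3
    omega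
  rw [Nat.even_iff]
  omega

/-- indicator -/
def ia (A : Finset GolayPt) (i : GolayPt) : ℤ := if i ∈ A then 1 else 0

theorem ia_cases (A : Finset GolayPt) (i : GolayPt) : ia A i = 0 ∨ ia A i = 1 := by
  unfold ia; split_ifs <;> simp

theorem ia_sq (A : Finset GolayPt) (i : GolayPt) : ia A i ^ 2 = ia A i := by
  rcases ia_cases A i with h | h <;> rw [h] <;> norm_num

theorem sum_ia (A : Finset GolayPt) : ∑ i, ia A i = A.card := by
  unfold ia
  rw [Finset.sum_ite_mem, Finset.univ_inter, Finset.sum_const, nsmul_eq_mul, mul_one]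

theorem ia_symmDiff (A B : Finset GolayPt) (i : GolayPt) :
    ia (symmDiff A B) i = ia A i + ia B i - 2 * (ia A i * ia B i) := by
  unfold ia
  by_cases h1 : i ∈ A <;> by_cases h2 : i ∈ B <;> simp [Finset.mem_symmDiff, h1, h2]

theorem ia_compl (A : Finset GolayPt) (i : GolayPt) : ia Aᶜ i = 1 - ia A i := by
  unfold ia
  by_cases h1 : i ∈ A <;> simp [h1]

theorem ia_inter (A B : Finset GolayPt) (i : GolayPt) : ia (A ∩ B) i = ia A i * ia B i := by
  unfold ia
  by_cases h1 : i ∈ A <;> by_cases h2 : i ∈ B <;> simp [h1, h2]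

/-- the vector `x` has type `(m, A)` -/
def IsL (m : ℤ) (A : Finset GolayPt) (x : GolayPt → ℤ) : Prop :=
  (∀ i, x i ≡ m + 2 * ia A i [ZMOD 4]) ∧ ∑ i, x i ≡ 4 * m [ZMOD 8]

theorem mem_resid (x : GolayPt → ℤ) (k : ℤ) (i : GolayPt) :
    i ∈ (Finset.univ.filter fun i => x i ≡ k [ZMOD 4]) ↔ x i % 4 = k % 4 := by
  rw [Finset.mem_filter]; simp only [Finset.mem_univ, Int.ModEq, true_and]

theorem mem_leechSet_iff (x : GolayPt → ℤ) : x ∈ leechSet ↔ ∃ m A, A ∈ CS ∧ IsL m A x := by
  constructor
  · rintro ⟨m, hpar, hsum, hk⟩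
    refine ⟨m, _, hk (m + 2), fun i => ?_, hsum⟩
    have h := hpar i
    unfold ia
    by_cases hi : x i % 4 = (m + 2) % 4
    · rw [if_pos ((mem_resid x _ i).mpr hi)]
      unfold Int.ModEq at *
      omega
    · rw [if_neg (fun h => hi ((mem_resid x _ i).mp h))]
      unfold Int.ModEq at *
      omega
  · rintro ⟨m, A, hA, hres, hsum⟩
    refine ⟨m, fun i => ?_, hsum, fun k => ?_⟩
    · have h := hres i
      unfold Int.ModEq at *
      rcases ia_cases A i with h1 | h1 <;> rw [h1] at h <;> omega
    · have h4 : (k - m) % 4 = 0 ∨ (k - m) % 4 = 2 ∨ (k - m) % 4 = 1 ∨ (k - m) % 4 = 3 := by omega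
      have key : ∀ i, (i ∈ A → x i % 4 = (m + 2) % 4) ∧ (i ∉ A → x i % 4 = m % 4) := by
        intro i
        have h := hres i
        unfold Int.ModEq ia at h
        constructor
        · intro hi; rw [if_pos hi] at h; omega
        · intro hi; rw [if_neg hi] at h; omega
      rcases h4 with h | h | h | h
      · have : (Finset.univ.filter fun i => x i ≡ k [ZMOD 4]) = Aᶜ := by
          ext i
          rw [mem_resid, Finset.mem_compl]
          by_cases hi : i ∈ A
          · have := (key i).1 hi
            simp only [hi, not_true, iff_false]; omega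
          · have := (key i).2 hi
            simp only [hi, not_false_iff, iff_true]; omega
        rw [this]; exact compl_mem_CS hA
      · have : (Finset.univ.filter fun i => x i ≡ k [ZMOD 4]) = A := by
          ext i
          rw [mem_resid]
          by_cases hi : i ∈ A
          · have := (key i).1 hi
            simp only [hi, iff_true]; omega
          · have := (key i).2 hi
            simp only [hi, iff_false]; omega
        rw [this]; exact hA
      · have : (Finset.univ.filter fun i => x i ≡ k [ZMOD 4]) = ∅ := by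
          ext i
          rw [mem_resid]
          simp only [Finset.notMem_empty, iff_false]
          by_cases hi : i ∈ A
          · have := (key i).1 hi; omega
          · have := (key i).2 hi; omega
        rw [this]; exact empty_mem_CS
      · have : (Finset.univ.filter fun i => x i ≡ k [ZMOD 4]) = ∅ := by
          ext i
          rw [mem_resid]
          simp only [Finset.notMem_empty, iff_false]
          by_cases hi : i ∈ A
          · have := (key i).1 hi; omega
          · have := (key i).2 hi; omega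
        rw [this]; exact empty_mem_CS

theorem IsL.add {m m' : ℤ} {A B : Finset GolayPt} {x y : GolayPt → ℤ} (hx : IsL m A x)
    (hy : IsL m' B y) : IsL (m + m') (symmDiff A B) (x + y) := by
  constructor
  · intro i
    have h1 := hx.1 i
    have h2 := hy.1 i
    rw [ia_symmDiff, Pi.add_apply]
    unfold Int.ModEq at *
    rcases ia_cases A i with a | a <;> rcases ia_cases B i with b | b <;> rw [a] at h1 ⊢ <;>
      rw [b] at h2 ⊢ <;> omega
  · have h1 := hx.2
    have h2 := hy.2
    simp only [Pi.add_apply, Finset.sum_add_distrib]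
    unfold Int.ModEq at *
    omega

theorem IsL.neg {m : ℤ} {A : Finset GolayPt} {x : GolayPt → ℤ} (hx : IsL m A x) :
    IsL (-m) A (-x) := by
  constructor
  · intro i
    have h1 := hx.1 i
    rw [Pi.neg_apply]
    unfold Int.ModEq at *
    rcases ia_cases A i with a | a <;> rw [a] at h1 ⊢ <;> omega
  · have h1 := hx.2
    simp only [Pi.neg_apply, Finset.sum_neg_distrib]
    unfold Int.ModEq at *
    omega

theorem IsL_zero : IsL 0 ∅ 0 := by
  constructor
  · intro i; simp [ia]
  · simp

/-- the lattice with carrier `leechSet` -/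
def leechSub : AddSubgroup (GolayPt → ℤ) where
  carrier := leechSet
  zero_mem' := (mem_leechSet_iff 0).mpr ⟨0, ∅, empty_mem_CS, IsL_zero⟩
  add_mem' := by
    intro x y hx hy
    obtain ⟨m, A, hA, h⟩ := (mem_leechSet_iff x).mp hx
    obtain ⟨m', B, hB, h'⟩ := (mem_leechSet_iff y).mp hy
    exact (mem_leechSet_iff _).mpr ⟨_, _, symmDiff_mem_supports hA hB, h.add h'⟩
  neg_mem' := by
    intro x hx
    obtain ⟨m, A, hA, h⟩ := (mem_leechSet_iff x).mp hx
    exact (mem_leechSet_iff _).mpr ⟨_, _, hA, h.neg⟩

theorem leechLattice_eq : leechLattice = leechSub := by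
  apply le_antisymm
  · exact (AddSubgroup.closure_le _).mpr (fun x hx => hx)
  · exact fun x hx => AddSubgroup.subset_closure hx

theorem mem_leech_iff (x : GolayPt → ℤ) : x ∈ leechLattice ↔ x ∈ leechSet := by
  rw [leechLattice_eq]; rfl

theorem mem_leech_iff' (x : GolayPt → ℤ) : x ∈ leechLattice ↔ ∃ m A, A ∈ CS ∧ IsL m A x := by
  rw [mem_leech_iff, mem_leechSet_iff]

/-- normalised type: `m ∈ {0, 1}` -/
theorem exists_norm_type {x : GolayPt → ℤ} (hx : x ∈ leechLattice) :
    ∃ A ∈ CS, IsL 0 A x ∨ IsL 1 A x := by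
  obtain ⟨m, A, hA, h1, h2⟩ := (mem_leech_iff' x).mp hx
  have h4 : m % 4 = 0 ∨ m % 4 = 1 ∨ m % 4 = 2 ∨ m % 4 = 3 := by omega
  rcases h4 with h | h | h | h
  · refine ⟨A, hA, Or.inl ⟨fun i => ?_, ?_⟩⟩
    · have := h1 i
      unfold Int.ModEq at *; omega
    · unfold Int.ModEq at *; omega
  · refine ⟨A, hA, Or.inr ⟨fun i => ?_, ?_⟩⟩
    · have := h1 i
      unfold Int.ModEq at *; omega
    · unfold Int.ModEq at *; omega
  · refine ⟨Aᶜ, compl_mem_CS hA, Or.inl ⟨fun i => ?_, ?_⟩⟩
    · have := h1 i
      rw [ia_compl]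
      unfold Int.ModEq at *; omega
    · unfold Int.ModEq at *; omega
  · refine ⟨Aᶜ, compl_mem_CS hA, Or.inr ⟨fun i => ?_, ?_⟩⟩
    · have := h1 i
      rw [ia_compl]
      unfold Int.ModEq at *; omega
    · unfold Int.ModEq at *; omega

end Cfsg.Agent.Lib.Helper8
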