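import Cfsg.Agent.Lib.Helper8.Leech1

set_option autoImplicit false

namespace Cfsg.Agent.Lib.Helper8

open Cfsg
open scoped Pointwise

theorem IsL.exists_z {m : ℤ} {A : Finset GolayPt} {x : GolayPt → ℤ} (h : IsL m A x) :
    ∃ z : GolayPt → ℤ, ∀ i, x i = m + 2 * ia A i + 4 * z i := by
  refine ⟨fun i => (x i - m - 2 * ia A i) / 4, fun i => ?_⟩
  have := h.1 i
  unfold Int.ModEq at this
  show x i = m + 2 * ia A i + 4 * ((x i - m - 2 * ia A i) / 4)
  omega

theorem sum_decomp {m : ℤ} {A : Finset GolayPt} {x z : GolayPt → ℤ}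
    (hz : ∀ i, x i = m + 2 * ia A i + 4 * z i) :
    ∑ i, x i = 24 * m + 2 * A.card + 4 * ∑ i, z i := by
  simp only [hz, Finset.sum_add_distrib, ← Finset.mul_sum, sum_ia, Finset.sum_const, card_pts]
  simp

theorem sqNorm_decomp {m : ℤ} {A : Finset GolayPt} {x z : GolayPt → ℤ}
    (hz : ∀ i, x i = m + 2 * ia A i + 4 * z i) :
    sqNorm x = 24 * m ^ 2 + (4 + 4 * m) * A.card + 8 * m * ∑ i, z i +
      16 * ∑ i, (z i ^ 2 + ia A i * z i) := by
  have h : ∀ i, x i ^ 2 = m ^ 2 + (4 + 4 * m) * ia A i + 8 * m * z i +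
      16 * (z i ^ 2 + ia A i * z i) := by
    intro i
    have := ia_sq A i
    rw [hz i]
    linear_combination 4 * this
  unfold sqNorm
  simp only [h, Finset.sum_add_distrib, ← Finset.mul_sum, sum_ia, Finset.sum_const, card_pts]
  simp

theorem sixteen_dvd_sqNorm {x : GolayPt → ℤ} (hx : x ∈ leechLattice) : (16 : ℤ) ∣ sqNorm x := by
  obtain ⟨m, A, hA, h⟩ := (mem_leech_iff' x).mp hx
  obtain ⟨z, hz⟩ := h.exists_z
  obtain ⟨t, ht⟩ := four_dvd_card_CS hA
  have h2 := h.2
  rw [sum_decomp hz, ht] at h2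
  rw [sqNorm_decomp hz, ht]
  push_cast at h2 ⊢
  have h3 : (∑ i, z i - m) % 2 = 0 := by
    unfold Int.ModEq at h2; omega
  obtain ⟨s, hs⟩ : ∃ s, ∑ i, z i = m + 2 * s := ⟨(∑ i, z i - m) / 2, by omega⟩
  rw [hs]
  exact ⟨2 * m ^ 2 + (1 + m) * t + m * s + ∑ i, (z i ^ 2 + ia A i * z i), by ring⟩

theorem sqNorm_nonneg (x : GolayPt → ℤ) : 0 ≤ sqNorm x :=
  Finset.sum_nonneg fun i _ => sq_nonneg _

theorem sqNorm_eq_zero {x : GolayPt → ℤ} (h : sqNorm x = 0) : x = 0 := by
  funext i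
  have := (Finset.sum_eq_zero_iff_of_nonneg (fun i _ => sq_nonneg (x i))).mp h i (Finset.mem_univ i)
  exact pow_eq_zero_iff (two_ne_zero) |>.mp this

theorem sum_sq_parity (z : GolayPt → ℤ) : ∃ w, ∑ i, z i ^ 2 = ∑ i, z i + 2 * w := by
  have : ∀ i, ∃ w, z i ^ 2 = z i + 2 * w := by
    intro i
    obtain ⟨w, hw⟩ := Int.even_mul_pred_self (z i)
    exact ⟨w, by linear_combination hw⟩
  choose w hw using this
  refine ⟨∑ i, w i, ?_⟩
  simp only [hw, Finset.sum_add_distrib, ← Finset.mul_sum]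

theorem min_norm {x : GolayPt → ℤ} (hx : x ∈ leechLattice) (h0 : x ≠ 0) : 32 ≤ sqNorm x := by
  obtain ⟨k, hk⟩ := sixteen_dvd_sqNorm hx
  obtain ⟨A, hA, h | h⟩ := exists_norm_type hx
  · rcases Nat.eq_zero_or_pos A.card with hc | hc
    · obtain ⟨z, hz⟩ := h.exists_z
      have h2 := h.2
      rw [sum_decomp hz, hc] at h2
      have h3 := sqNorm_decomp hz
      rw [hc] at h3
      have hA0 : A = ∅ := Finset.card_eq_zero.mp hc
      have h4 : ∑ i, (z i ^ 2 + ia A i * z i) = ∑ i, z i ^ 2 := by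
        apply Finset.sum_congr rfl
        intro i _
        simp [hA0, ia]
      rw [h4] at h3
      obtain ⟨w, hw⟩ := sum_sq_parity z
      have hpos : 0 < sqNorm x := lt_of_le_of_ne (sqNorm_nonneg x)
        (fun h => h0 (sqNorm_eq_zero h.symm))
      unfold Int.ModEq at h2
      push_cast at h2 h3
      omega
    · have hc8 : 8 ≤ A.card := by
        rcases card_of_mem_supports hA with h | h | h | h | h <;> omega
      have : ∑ i, 4 * ia A i ≤ sqNorm x := by
        apply Finset.sum_le_sum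
        intro i _
        have h1 := h.1 i
        rcases ia_cases A i with a | a
        · rw [a]; positivity
        · rw [a] at h1 ⊢
          unfold Int.ModEq at h1
          have : x i ≤ -2 ∨ 2 ≤ x i := by omega
          rcases this with h | h <;> nlinarith
      rw [← Finset.mul_sum, sum_ia] at this
      have : (8 : ℤ) ≤ A.card := by exact_mod_cast hc8
      omega
  · have : ∑ _i : GolayPt, (1 : ℤ) ≤ sqNorm x := by
      apply Finset.sum_le_sum
      intro i _
      have h1 := h.1 i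
      have : x i ≤ -1 ∨ 1 ≤ x i := by
        unfold Int.ModEq at h1
        rcases ia_cases A i with a | a <;> rw [a] at h1 <;> omega
      rcases this with h | h <;> nlinarith
    rw [Finset.sum_const, card_pts] at this
    simp only [nsmul_eq_mul, Nat.cast_ofNat, mul_one] at this
    omega

theorem IsL.comp_perm {m : ℤ} {A : Finset GolayPt} {x : GolayPt → ℤ} (h : IsL m A x)
    (σ : Equiv.Perm GolayPt) : IsL m (σ⁻¹ • A) (fun i => x (σ i)) := by
  constructor
  · intro i
    have := h.1 (σ i)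
    have e : ia (σ⁻¹ • A) i = ia A (σ i) := by
      unfold ia
      have : i ∈ σ⁻¹ • A ↔ σ i ∈ A := by
        rw [Finset.mem_inv_smul_finset_iff]; rfl
      simp only [this]
    rw [e]; exact this
  · rw [Equiv.sum_comp σ x]; exact h.2

theorem smul_mem_CS {σ : Equiv.Perm GolayPt} (hσ : σ ∈ M24) {A : Finset GolayPt} (hA : A ∈ CS) :
    σ • A ∈ CS := by
  have h : σ • CS = CS := hσ
  rw [← h]
  exact Set.smul_mem_smul_set hA

theorem comp_perm_mem {σ : Equiv.Perm GolayPt} (hσ : σ ∈ M24) {x : GolayPt → ℤ}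
    (hx : x ∈ leechLattice) : (fun i => x (σ i)) ∈ leechLattice := by
  obtain ⟨m, A, hA, h⟩ := (mem_leech_iff' x).mp hx
  exact (mem_leech_iff' _).mpr ⟨m, _, smul_mem_CS (M24.inv_mem hσ) hA, h.comp_perm σ⟩

theorem sign_mem {c : Finset GolayPt} (hc : c ∈ CS) {x : GolayPt → ℤ}
    (hx : x ∈ leechLattice) : (fun i => if i ∈ c then -x i else x i) ∈ leechLattice := by
  obtain ⟨m, A, hA, h⟩ := (mem_leech_iff' x).mp hx
  obtain ⟨z, hz⟩ := h.exists_z
  have hy : ∀ i, (if i ∈ c then -x i else x i) = x i - 2 * (ia c i * x i) := by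
    intro i
    unfold ia
    split_ifs <;> ring
  have hs : ∑ i, (if i ∈ c then -x i else x i) ≡ 4 * m [ZMOD 8] := by
    have e : ∀ i, ia c i * x i = m * ia c i + 2 * ia (A ∩ c) i + 4 * (ia c i * z i) := by
      intro i; rw [hz i, ia_inter]; ring
    simp only [hy, e, Finset.sum_sub_distrib, Finset.sum_add_distrib, ← Finset.mul_sum, sum_ia]
    obtain ⟨t, ht⟩ := four_dvd_card_CS hc
    obtain ⟨s, hs⟩ := even_inter_CS hA hc
    rw [ht, hs]
    have := h.2
    push_cast
    have e2 : ∑ i, x i - 2 * (m * (4 * (t : ℤ)) + 2 * ((s : ℤ) + s) + 4 * ∑ i, ia c i * z i) =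
        ∑ i, x i - 8 * (m * t + s + ∑ i, ia c i * z i) := by ring
    rw [e2]
    unfold Int.ModEq at *
    omega
  rcases Int.even_or_odd m with ⟨k, hk⟩ | ⟨k, hk⟩
  · refine (mem_leech_iff' _).mpr ⟨m, A, hA, fun i => ?_, hs⟩
    have := h.1 i
    show (if i ∈ c then -x i else x i) ≡ _ [ZMOD 4]
    unfold Int.ModEq at *
    split_ifs <;> rcases ia_cases A i with a | a <;> rw [a] at this ⊢ <;> omega
  · refine (mem_leech_iff' _).mpr ⟨m, symmDiff A c, symmDiff_mem_supports hA hc, fun i => ?_, hs⟩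
    have := h.1 i
    show (if i ∈ c then -x i else x i) ≡ _ [ZMOD 4]
    rw [ia_symmDiff]
    unfold Int.ModEq at *
    by_cases hi : i ∈ c
    · have e : ia c i = 1 := by simp [ia, hi]
      rw [if_pos hi, e]
      rcases ia_cases A i with a | a <;> rw [a] at this ⊢ <;> omega
    · have e : ia c i = 0 := by simp [ia, hi]
      rw [if_neg hi, e]
      rcases ia_cases A i with a | a <;> rw [a] at this ⊢ <;> omega

theorem sqNorm_add (x y : GolayPt → ℤ) : sqNorm (x + y) = sqNorm x + sqNorm y + 2 * dotInt x y := by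
  unfold sqNorm dotInt
  rw [Finset.mul_sum, ← Finset.sum_add_distrib, ← Finset.sum_add_distrib]
  apply Finset.sum_congr rfl
  intro i _
  simp only [Pi.add_apply]; ring

theorem sqNorm_sub (x y : GolayPt → ℤ) : sqNorm (x - y) = sqNorm x + sqNorm y - 2 * dotInt x y := by
  unfold sqNorm dotInt
  rw [Finset.mul_sum, ← Finset.sum_add_distrib, ← Finset.sum_sub_distrib]
  apply Finset.sum_congr rfl
  intro i _
  simp only [Pi.sub_apply]; ring

theorem sqNorm_two_smul (z : GolayPt → ℤ) : sqNorm (2 • z) = 4 * sqNorm z := by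
  unfold sqNorm
  rw [Finset.mul_sum]
  apply Finset.sum_congr rfl
  intro i _
  simp only [Pi.smul_apply, smul_eq_mul]; ring

theorem sqNorm_neg (x : GolayPt → ℤ) : sqNorm (-x) = sqNorm x := by
  unfold sqNorm
  apply Finset.sum_congr rfl
  intro i _
  simp only [Pi.neg_apply]; ring

/-- short vectors congruent modulo twice the lattice -/
theorem cong_two {x y : GolayPt → ℤ} (_hx : x ∈ leechLattice) (hy : y ∈ leechLattice) (hxy : x ≠ y)
    (hxn : sqNorm x ≤ 64) (hyn : sqNorm y ≤ 64) (hc : ∃ z ∈ leechLattice, x - y = 2 • z) :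
    x = -y ∨ (sqNorm x = 64 ∧ sqNorm y = 64 ∧ dotInt x y = 0) := by
  obtain ⟨z, hz, hxyz⟩ := hc
  by_cases hneg : x = -y
  · exact Or.inl hneg
  right
  have hz0 : z ≠ 0 := by
    rintro rfl
    rw [smul_zero, sub_eq_zero] at hxyz
    exact hxy hxyz
  have h1 := min_norm hz hz0
  have h2 : x + y = 2 • (z + y) := by
    rw [smul_add, ← hxyz, two_smul]; abel
  have hzy0 : z + y ≠ 0 := by
    intro h
    rw [h, smul_zero] at h2
    exact hneg (eq_neg_of_add_eq_zero_left h2)
  have h3 := min_norm (leechLattice.add_mem hz hy) hzy0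
  have e1 := sqNorm_add x y
  have e2 := sqNorm_sub x y
  rw [h2, sqNorm_two_smul] at e1
  rw [hxyz, sqNorm_two_smul] at e2
  refine ⟨?_, ?_, ?_⟩ <;> omega

end Cfsg.Agent.Lib.Helper8
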