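import Cfsg.Agent.Lib.Helper8.LeechMat

set_option autoImplicit false

namespace Cfsg.Agent.Lib.Helper8

open Cfsg

/-! ### unrolled sums for kernel evaluation -/

def sum24 (f : ℕ → ℕ) : ℕ :=
  Nat.add (f 0) (Nat.add (f 1) (Nat.add (f 2) (Nat.add (f 3) (Nat.add (f 4) (Nat.add (f 5) (Nat.add (f 6) (Nat.add (f 7) (Nat.add (f 8) (Nat.add (f 9) (Nat.add (f 10) (Nat.add (f 11) (Nat.add (f 12) (Nat.add (f 13) (Nat.add (f 14) (Nat.add (f 15) (Nat.add (f 16) (Nat.add (f 17) (Nat.add (f 18) (Nat.add (f 19) (Nat.add (f 20) (Nat.add (f 21) (Nat.add (f 22) (f 23)))))))))))))))))))))))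

theorem sum24_eq (f : ℕ → ℕ) : sum24 f = ∑ j ∈ Finset.range 24, f j := by
  have h : sum24 f = f 0 + (f 1 + (f 2 + (f 3 + (f 4 + (f 5 + (f 6 + (f 7 + (f 8 + (f 9 + (f 10 + (f 11 + (f 12 + (f 13 + (f 14 + (f 15 + (f 16 + (f 17 + (f 18 + (f 19 + (f 20 + (f 21 + (f 22 + (f 23))))))))))))))))))))))) := rfl
  rw [h]
  simp only [Finset.sum_range_succ, Finset.sum_range_zero, zero_add, add_assoc]

def app24c (c0 c1 c2 c3 c4 c5 c6 c7 c8 c9 c10 c11 c12 c13 c14 c15 c16 c17 c18 c19 c20 c21 c22 c23 X : ℕ) : ℕ :=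
  Nat.add (Nat.mul (Nat.land X 255) c0)
    (Nat.add (Nat.mul (Nat.land (Nat.shiftRight X 8) 255) c1)
    (Nat.add (Nat.mul (Nat.land (Nat.shiftRight X 16) 255) c2)
    (Nat.add (Nat.mul (Nat.land (Nat.shiftRight X 24) 255) c3)
    (Nat.add (Nat.mul (Nat.land (Nat.shiftRight X 32) 255) c4)
    (Nat.add (Nat.mul (Nat.land (Nat.shiftRight X 40) 255) c5)
    (Nat.add (Nat.mul (Nat.land (Nat.shiftRight X 48) 255) c6)
    (Nat.add (Nat.mul (Nat.land (Nat.shiftRight X 56) 255) c7)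
    (Nat.add (Nat.mul (Nat.land (Nat.shiftRight X 64) 255) c8)
    (Nat.add (Nat.mul (Nat.land (Nat.shiftRight X 72) 255) c9)
    (Nat.add (Nat.mul (Nat.land (Nat.shiftRight X 80) 255) c10)
    (Nat.add (Nat.mul (Nat.land (Nat.shiftRight X 88) 255) c11)
    (Nat.add (Nat.mul (Nat.land (Nat.shiftRight X 96) 255) c12)
    (Nat.add (Nat.mul (Nat.land (Nat.shiftRight X 104) 255) c13)
    (Nat.add (Nat.mul (Nat.land (Nat.shiftRight X 112) 255) c14)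
    (Nat.add (Nat.mul (Nat.land (Nat.shiftRight X 120) 255) c15)
    (Nat.add (Nat.mul (Nat.land (Nat.shiftRight X 128) 255) c16)
    (Nat.add (Nat.mul (Nat.land (Nat.shiftRight X 136) 255) c17)
    (Nat.add (Nat.mul (Nat.land (Nat.shiftRight X 144) 255) c18)
    (Nat.add (Nat.mul (Nat.land (Nat.shiftRight X 152) 255) c19)
    (Nat.add (Nat.mul (Nat.land (Nat.shiftRight X 160) 255) c20)
    (Nat.add (Nat.mul (Nat.land (Nat.shiftRight X 168) 255) c21)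
    (Nat.add (Nat.mul (Nat.land (Nat.shiftRight X 176) 255) c22)
    (Nat.mul (Nat.land (Nat.shiftRight X 184) 255) c23)))))))))))))))))))))))

def app24L (l : List ℕ) (X : ℕ) : ℕ :=
  app24c (l.getD 0 0) (l.getD 1 0) (l.getD 2 0) (l.getD 3 0) (l.getD 4 0) (l.getD 5 0) (l.getD 6 0) (l.getD 7 0) (l.getD 8 0) (l.getD 9 0) (l.getD 10 0) (l.getD 11 0) (l.getD 12 0) (l.getD 13 0) (l.getD 14 0) (l.getD 15 0) (l.getD 16 0) (l.getD 17 0) (l.getD 18 0) (l.getD 19 0) (l.getD 20 0) (l.getD 21 0) (l.getD 22 0) (l.getD 23 0) X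

theorem app24L_eq (l : List ℕ) (X : ℕ) :
    app24L l X = ∑ j ∈ Finset.range 24, dg X j * l.getD j 0 := by
  have h : ∀ c0 c1 c2 c3 c4 c5 c6 c7 c8 c9 c10 c11 c12 c13 c14 c15 c16 c17 c18 c19 c20 c21 c22 c23 : ℕ, app24c c0 c1 c2 c3 c4 c5 c6 c7 c8 c9 c10 c11 c12 c13 c14 c15 c16 c17 c18 c19 c20 c21 c22 c23 X =
      dg X 0 * c0 + (dg X 1 * c1 + (dg X 2 * c2 + (dg X 3 * c3 + (dg X 4 * c4 + (dg X 5 * c5 + (dg X 6 * c6 + (dg X 7 * c7 + (dg X 8 * c8 + (dg X 9 * c9 + (dg X 10 * c10 + (dg X 11 * c11 + (dg X 12 * c12 + (dg X 13 * c13 + (dg X 14 * c14 + (dg X 15 * c15 + (dg X 16 * c16 + (dg X 17 * c17 + (dg X 18 * c18 + (dg X 19 * c19 + (dg X 20 * c20 + (dg X 21 * c21 + (dg X 22 * c22 + (dg X 23 * c23))))))))))))))))))))))) := fun _ _ _ _ _ _ _ _ _ _ _ _ _ _ _ _ _ _ _ _ _ _ _ _ => rfl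
  rw [app24L, h]
  simp only [Finset.sum_range_succ, Finset.sum_range_zero, zero_add, add_assoc]

end Cfsg.Agent.Lib.Helper8
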