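import Cfsg.Agent.Lib.Helper8.Leech2

set_option autoImplicit false

namespace Cfsg.Agent.Lib.Helper8

open Cfsg

/-! ### packed integer vectors: 24 digits of 8 bits, offset 8 -/

def dg (X j : ℕ) : ℕ := Nat.land (Nat.shiftRight X (Nat.mul 8 j)) 255

theorem dg_eq (X j : ℕ) : dg X j = X / 256 ^ j % 256 := by
  show (X >>> (8 * j)) &&& 255 = _
  rw [Nat.shiftRight_eq_div_pow, show (255 : ℕ) = 2 ^ 8 - 1 from rfl, Nat.and_two_pow_sub_one_eq_mod,
    pow_mul]
  norm_num

theorem dg_lt (X j : ℕ) : dg X j < 256 := by
  rw [dg_eq]; exact Nat.mod_lt _ (by norm_num)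

theorem digit_expand (n : ℕ) : ∀ X, X < 256 ^ n → X = ∑ j ∈ Finset.range n, dg X j * 256 ^ j := by
  induction n with
  | zero => intro X hX; simp at hX; simp [hX]
  | succ n ih =>
    intro X hX
    have h1 : X / 256 < 256 ^ n := by
      rw [Nat.div_lt_iff_lt_mul (by norm_num)]
      rw [pow_succ] at hX; exact hX
    have h2 := ih _ h1
    rw [Finset.sum_range_succ']
    have h3 : ∀ j, dg X (j + 1) = dg (X / 256) j := by
      intro j
      rw [dg_eq, dg_eq, Nat.div_div_eq_div_mul, pow_succ, mul_comm]
    have h4 : ∑ j ∈ Finset.range n, dg X (j + 1) * 256 ^ (j + 1) =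
        256 * ∑ j ∈ Finset.range n, dg (X / 256) j * 256 ^ j := by
      rw [Finset.mul_sum]
      apply Finset.sum_congr rfl
      intro j _
      rw [h3, pow_succ]; ring
    rw [h4, ← h2, dg_eq]
    simp only [pow_zero, Nat.div_one, mul_one]
    omega

/-- the integer vector with code `X` -/
def lvec (X : ℕ) : GolayPt → ℤ := fun p => (dg X (idx p) : ℤ) - 8

theorem lvec_apply (X : ℕ) (p : GolayPt) : lvec X p = (dg X (idx p) : ℤ) - 8 := rfl

theorem sum_lvec (X : ℕ) : ∑ p, lvec X p = (∑ j ∈ Finset.range 24, dg X j : ℕ) - 192 := by
  unfold lvec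
  rw [Finset.sum_sub_distrib, Finset.sum_const, card_pts, sum_pts (fun j => (dg X j : ℤ))]
  push_cast
  norm_num

/-- boolean test for the type of a coded vector -/
def isLB (m a X : ℕ) : Bool :=
  allBelow 24 (fun j => Nat.beq (dg X j % 4) ((m + 2 * (Nat.shiftRight a j % 2)) % 4)) &&
    Nat.beq ((List.range 24).foldl (fun s j => s + dg X j) 0 % 8) (4 * m % 8)

theorem foldl_sum (f : ℕ → ℕ) (n : ℕ) :
    (List.range n).foldl (fun s j => s + f j) 0 = ∑ j ∈ Finset.range n, f j := by
  induction n with
  | zero => rfl
  | succ n ih => rw [List.range_succ, List.foldl_append, ih, Finset.sum_range_succ]; rfl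

theorem ia_setOf (a : ℕ) (p : GolayPt) : ia (setOf a) p = ((a >>> idx p % 2 : ℕ) : ℤ) := by
  have hm : p ∈ setOf a ↔ a >>> idx p % 2 = 1 := by
    unfold setOf
    rw [Finset.mem_filter]
    simp only [Finset.mem_univ, true_and, Nat.testBit, Nat.and_one_is_mod]
    rcases Nat.mod_two_eq_zero_or_one (a >>> idx p) with h | h <;> simp [h]
  unfold ia
  rcases Nat.mod_two_eq_zero_or_one (a >>> idx p) with h | h
  · rw [if_neg (fun hh => by rw [hm, h] at hh; omega), h]; rfl
  · rw [if_pos (hm.mpr h), h]; rfl

theorem IsL_of_isLB {m a X : ℕ} (h : isLB m a X = true) : IsL m (setOf a) (lvec X) := by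
  unfold isLB at h
  rw [Bool.and_eq_true] at h
  obtain ⟨h1, h2⟩ := h
  constructor
  · intro p
    have := Nat.eq_of_beq_eq_true (of_allBelow h1 (idx p) (idx_lt p))
    rw [lvec_apply, ia_setOf]
    have e : Nat.shiftRight a (idx p) = a >>> idx p := rfl
    rw [e] at this
    unfold Int.ModEq
    omega
  · have := Nat.eq_of_beq_eq_true h2
    rw [foldl_sum] at this
    rw [sum_lvec]
    unfold Int.ModEq
    omega

def zc : ℕ := 196928681894484102394848295630044436583603308061616769032
def ucode : ℕ := 221544767131294615194204332583799991156553721569318865157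
def ecode : ℕ := 196928681894484102394848295630044436583603308061616770060
def octB : List ℕ := [5279, 10558, 18147, 36294, 69395, 133817, 262637, 525274, 1050548, 2101096, 4196943, 8391797]
def octCoef : List ℕ := [3189, 1183, 3403, 1763, 2483, 2918, 3788, 493, 986, 1972, 2845, 3642]
def ocodes : List ℕ := [196928681894484102394848295788503179463915327703753558538, 196928681894484102394848336195482613943480336448634882568, 196928681894484102394858680223763933535377244388967582218, 196928681894484102397506751622235656237731007863424944648, 196928681894484103075413029472542760863260896216251632138, 196928681894484276619420159151156709295922086399403624458, 196928681894528703885245356876327508057186773269134051338, 196928681905902083936495974678510733820970401186041039368, 196928684817487377056654132037416529349579147914229975048, 196929430183322415817142415917300184673418310330597509128, 197120243837092338502143089009057204695931869278616816138, 245968539202192545862315400499475718330685444524857755658]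
def dcodes : List ℕ := [196928681894484102394848295630044436583603308061616770052, 196928681894484102394848295630044436583603308061617031172, 196928681894484102394848295630044436583603308061683877892, 196928681894484102394848295630044436583603308078796638212, 196928681894484102394848295630044436583603312459663280132, 196928681894484102394848295630044436583604433961523611652, 196928681894484102394848295630044436583891538437768480772, 196928681894484102394848295630044436657390284356454975492, 196928681894484102394848295630044455473069239540197623812, 196928681894484102394848295630049272286881766578315593732, 196928681894484102394848295631282376622888688336515893252, 196928681894484102394848295946957086640660658435792570372, 196928681894484102394848376759682851190285003850621913092, 196928681894484102394869064817478575894117430046933649412, 196928681894484102400165207613184100075218536302738147332, 196928681894484103755977763313798290437101737788689614852, 196928681894484450843992022671031023079201318192265299972, 196928681894573305375642418122610579456693901507640690692, 196928681917320065478143653726977012094795230243740715012,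 196928687740490651718459968444783767448735386685346940932, 196930178472160729239436536203313138057415435736540776452, 197311805779700574609437882386832013879507992842162669572, 295008396509900989329782505367664224335202611881367308292]

/-- 37 minimal vectors generating the lattice -/
def G0 : List ℕ := ucode :: ecode :: (ocodes ++ dcodes)

/-- the subgroup generated by the 37 vectors -/
def HG : AddSubgroup (GolayPt → ℤ) := AddSubgroup.closure {x | ∃ c ∈ G0, x = lvec c}

theorem lvec_mem_HG {c : ℕ} (hc : c ∈ G0) : lvec c ∈ HG := AddSubgroup.subset_closure ⟨c, hc, rfl⟩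

theorem ucode_type : isLB 1 0 ucode = true := by decide +kernel
theorem ecode_type : isLB 0 0 ecode = true := by decide +kernel
theorem ocodes_type : (ocodes.zip octB).all (fun x => isLB 0 x.2 x.1) = true := by decide +kernel
theorem dcodes_type : dcodes.all (fun x => isLB 0 0 x) = true := by decide +kernel
theorem octB_code : octB.all isCode = true := by decide +kernel
theorem octB_lt : ∀ b ∈ octB, b < 2 ^ 24 := by decide +kernel
theorem octB_span : (basisL.zip octCoef).all (fun x => Nat.beq (xorSel octB x.2) x.1) = true := by
  decide +kernel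

theorem xorSel_induction (P : ℕ → Prop) (h0 : P 0) (hx : ∀ a b, P a → P b → P (a ^^^ b))
    (l : List ℕ) (hl : ∀ b ∈ l, P b) (c : ℕ) : P (xorSel l c) := by
  induction l generalizing c with
  | nil => exact h0
  | cons x l ih =>
    rw [xorSel_cons]
    apply hx
    · rcases and_one_cases c with h' | h' <;> simp only [h', Nat.zero_mul, Nat.one_mul]
      · exact h0
      · exact hl x (by simp)
    · exact ih (fun b hb => hl b (by simp [hb])) _

theorem exists_HG_type {A : Finset GolayPt} (hA : A ∈ CS) : ∃ h ∈ HG, IsL 0 A h := by
  have P0 : ∃ h ∈ HG, IsL 0 (setOf 0) h := ⟨0, HG.zero_mem, by rw [setOf_zero]; exact IsL_zero⟩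
  have Px : ∀ a b, (∃ h ∈ HG, IsL 0 (setOf a) h) → (∃ h ∈ HG, IsL 0 (setOf b) h) →
      ∃ h ∈ HG, IsL 0 (setOf (a ^^^ b)) h := by
    rintro a b ⟨h, hh, h1⟩ ⟨h', hh', h2⟩
    refine ⟨h + h', HG.add_mem hh hh', ?_⟩
    rw [setOf_xor]
    simpa using h1.add h2
  have Poct : ∀ b ∈ octB, ∃ h ∈ HG, IsL 0 (setOf b) h := by
    intro b hb
    obtain ⟨i, hi, rfl⟩ := List.getElem_of_mem hb
    have hi' : i < ocodes.length := hi
    have hz : (ocodes[i], octB[i]) ∈ ocodes.zip octB := by
      have : (ocodes.zip octB)[i]'(by simp [List.length_zip]; exact ⟨hi', hi⟩) =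
        (ocodes[i], octB[i]) := List.getElem_zip
      rw [← this]; exact List.getElem_mem _
    have := List.all_eq_true.mp ocodes_type _ hz
    refine ⟨lvec ocodes[i], lvec_mem_HG ?_, by exact_mod_cast IsL_of_isLB this⟩
    simp only [G0, List.mem_cons, List.mem_append]
    exact Or.inr (Or.inr (Or.inl (List.getElem_mem _)))
  have Pbasis : ∀ b ∈ basisL, ∃ h ∈ HG, IsL 0 (setOf b) h := by
    intro b hb
    obtain ⟨i, hi, rfl⟩ := List.getElem_of_mem hb
    have hi' : i < octCoef.length := hi
    have hz : (basisL[i], octCoef[i]) ∈ basisL.zip octCoef := by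
      have : (basisL.zip octCoef)[i]'(by simp [List.length_zip]; exact ⟨hi, hi'⟩) =
        (basisL[i], octCoef[i]) := List.getElem_zip
      rw [← this]; exact List.getElem_mem _
    have := Nat.eq_of_beq_eq_true (List.all_eq_true.mp octB_span _ hz)
    have h2 := xorSel_induction _ P0 Px octB Poct octCoef[i]
    rw [show xorSel octB octCoef[i] = basisL[i] from this] at h2
    exact h2
  obtain ⟨c, _, rfl⟩ := exists_of_mem_supports hA
  exact xorSel_induction _ P0 Px basisL Pbasis c

/-- `4 (e_i - e_0)` -/
def dfun (i : GolayPt) : GolayPt → ℤ := fun p =>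
  4 * (if p = i then 1 else 0) - 4 * (if p = pt 0 then 1 else 0)

theorem dcodes_check : allBelow 23 (fun j => allBelow 24 (fun k =>
    Nat.beq (dg (dcodes.getD j 0) k + 4 * (bif Nat.beq k 0 then 1 else 0))
      (8 + 4 * (bif Nat.beq k (j + 1) then 1 else 0)))) = true := by decide +kernel

theorem dfun_mem (i : GolayPt) : dfun i ∈ HG := by
  by_cases h0 : i = pt 0
  · have : dfun i = 0 := by
      funext p; simp [dfun, h0]
    rw [this]; exact HG.zero_mem
  · have hi : idx i ≠ 0 := by
      intro h; apply h0; rw [← pt_idx i, h]
    obtain ⟨j, hj⟩ : ∃ j, idx i = j + 1 := ⟨idx i - 1, by omega⟩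
    have hj23 : j < 23 := by have := idx_lt i; omega
    have hmem : dcodes.getD j 0 ∈ G0 := by
      have hl : j < dcodes.length := hj23
      rw [List.getD_eq_getElem _ _ hl]
      simp only [G0, List.mem_cons, List.mem_append]
      exact Or.inr (Or.inr (Or.inr (List.getElem_mem _)))
    have : dfun i = lvec (dcodes.getD j 0) := by
      funext p
      have h := Nat.eq_of_beq_eq_true (of_allBelow (of_allBelow dcodes_check j hj23) (idx p) (idx_lt p))
      rw [lvec_apply, dfun]
      have e1 : (p = i) ↔ idx p = j + 1 := by rw [← hj, idx_eq_iff]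
      have e2 : (p = pt 0) ↔ idx p = 0 := by
        rw [← idx_eq_iff, idx_pt (by norm_num)]
      by_cases c1 : idx p = j + 1 <;> by_cases c2 : idx p = 0
      · omega
      · have b1 : Nat.beq (idx p) (j + 1) = true := by rw [c1]; exact Nat.beq_refl _
        have b2 : Nat.beq (idx p) 0 = false := by
          cases hb : Nat.beq (idx p) 0 with
          | false => rfl
          | true => exact absurd (Nat.eq_of_beq_eq_true hb) c2
        rw [b1, b2] at h
        simp only [cond_true, cond_false] at h
        rw [if_pos (e1.mpr c1), if_neg (fun hh => c2 (e2.mp hh))]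
        omega
      · have b1 : Nat.beq (idx p) (j + 1) = false := by
          cases hb : Nat.beq (idx p) (j + 1) with
          | false => rfl
          | true => exact absurd (Nat.eq_of_beq_eq_true hb) c1
        have b2 : Nat.beq (idx p) 0 = true := by rw [c2]; rfl
        rw [b1, b2] at h
        simp only [cond_true, cond_false] at h
        rw [if_neg (fun hh => c1 (e1.mp hh)), if_pos (e2.mpr c2)]
        omega
      · have b1 : Nat.beq (idx p) (j + 1) = false := by
          cases hb : Nat.beq (idx p) (j + 1) with
          | false => rfl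
          | true => exact absurd (Nat.eq_of_beq_eq_true hb) c1
        have b2 : Nat.beq (idx p) 0 = false := by
          cases hb : Nat.beq (idx p) 0 with
          | false => rfl
          | true => exact absurd (Nat.eq_of_beq_eq_true hb) c2
        rw [b1, b2] at h
        simp only [cond_false] at h
        rw [if_neg (fun hh => c1 (e1.mp hh)), if_neg (fun hh => c2 (e2.mp hh))]
        omega
    rw [this]; exact lvec_mem_HG hmem

theorem ecode_check : allBelow 24 (fun k =>
    Nat.beq (dg ecode k) (8 + 4 * (bif Nat.beq k 0 then 1 else 0) + 4 * (bif Nat.beq k 1 then 1 else 0)))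
    = true := by decide +kernel

/-- `8 e_0` -/
def e8 : GolayPt → ℤ := fun p => 8 * (if p = pt 0 then 1 else 0)

theorem e8_mem : e8 ∈ HG := by
  have : e8 = lvec ecode - dfun (pt 1) := by
    funext p
    have h := Nat.eq_of_beq_eq_true (of_allBelow ecode_check (idx p) (idx_lt p))
    rw [Pi.sub_apply, lvec_apply, dfun, e8]
    have e1 : (p = pt 1) ↔ idx p = 1 := by rw [← idx_eq_iff, idx_pt (by norm_num)]
    have e2 : (p = pt 0) ↔ idx p = 0 := by rw [← idx_eq_iff, idx_pt (by norm_num)]
    by_cases c1 : idx p = 1
    · have c2 : idx p ≠ 0 := by omega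
      rw [c1] at h
      rw [if_pos (e1.mpr c1), if_neg (fun hh => c2 (e2.mp hh)), c1]
      simp only [Nat.beq] at h
      simp only [cond_true, cond_false] at h
      omega
    · by_cases c2 : idx p = 0
      · rw [c2] at h
        rw [if_neg (fun hh => c1 (e1.mp hh)), if_pos (e2.mpr c2), c2]
        simp only [Nat.beq] at h
        simp only [cond_true, cond_false] at h
        omega
      · have b1 : Nat.beq (idx p) 1 = false := by
          cases hb : Nat.beq (idx p) 1 with
          | false => rfl
          | true => exact absurd (Nat.eq_of_beq_eq_true hb) c1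
        have b2 : Nat.beq (idx p) 0 = false := by
          cases hb : Nat.beq (idx p) 0 with
          | false => rfl
          | true => exact absurd (Nat.eq_of_beq_eq_true hb) c2
        rw [b1, b2] at h
        simp only [cond_false] at h
        rw [if_neg (fun hh => c1 (e1.mp hh)), if_neg (fun hh => c2 (e2.mp hh))]
        omega
  rw [this]
  exact HG.sub_mem (lvec_mem_HG (by simp [G0])) (dfun_mem _)

theorem mem_HG_of_type0 {x : GolayPt → ℤ} (h : IsL 0 ∅ x) : x ∈ HG := by
  obtain ⟨z, hz⟩ := h.exists_z
  have h2 := h.2
  rw [sum_decomp hz] at h2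
  simp only [Finset.card_empty] at h2
  obtain ⟨s, hs⟩ : ∃ s, ∑ i, z i = 2 * s := ⟨(∑ i, z i) / 2, by
    unfold Int.ModEq at h2; push_cast at h2; omega⟩
  have : x = ∑ i, z i • dfun i + s • e8 := by
    funext p
    rw [Pi.add_apply, Finset.sum_apply, hz p]
    simp only [Pi.smul_apply, smul_eq_mul, dfun, e8, ia, Finset.notMem_empty, if_false]
    have e1 : ∑ i, z i * (4 * (if p = i then 1 else 0) - 4 * (if p = pt 0 then 1 else 0)) =
        4 * z p - 4 * (if p = pt 0 then 1 else 0) * ∑ i, z i := by
      simp only [mul_sub, Finset.sum_sub_distrib]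
      congr 1
      · rw [Finset.sum_eq_single p]
        · simp; ring
        · intro b _ hb; simp [Ne.symm hb]
        · intro hp; exact absurd (Finset.mem_univ p) hp
      · rw [Finset.mul_sum]
        apply Finset.sum_congr rfl
        intro i _; ring
    rw [e1, hs]
    ring
  rw [this]
  exact HG.add_mem (HG.sum_mem fun i _ => HG.zsmul_mem (dfun_mem i) _) (HG.zsmul_mem e8_mem _)

theorem G0_le : ∀ c ∈ G0, lvec c ∈ leechLattice := by
  intro c hc
  simp only [G0, List.mem_cons, List.mem_append] at hc
  rcases hc with rfl | rfl | hc | hc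
  · exact (mem_leech_iff' _).mpr ⟨_, _, by rw [setOf_zero]; exact empty_mem_CS, IsL_of_isLB ucode_type⟩
  · exact (mem_leech_iff' _).mpr ⟨_, _, by rw [setOf_zero]; exact empty_mem_CS, IsL_of_isLB ecode_type⟩
  · obtain ⟨i, hi, rfl⟩ := List.getElem_of_mem hc
    have hi' : i < octB.length := hi
    have hz : (ocodes[i], octB[i]) ∈ ocodes.zip octB := by
      have : (ocodes.zip octB)[i]'(by simp [List.length_zip]; exact ⟨hi, hi'⟩) =
        (ocodes[i], octB[i]) := List.getElem_zip
      rw [← this]; exact List.getElem_mem _
    have := List.all_eq_true.mp ocodes_type _ hz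
    refine (mem_leech_iff' _).mpr ⟨_, _, ?_, IsL_of_isLB this⟩
    exact (setOf_mem_supports_iff (octB_lt _ (List.getElem_mem _))).mpr
      (List.all_eq_true.mp octB_code _ (List.getElem_mem _))
  · exact (mem_leech_iff' _).mpr ⟨_, _, by rw [setOf_zero]; exact empty_mem_CS,
      IsL_of_isLB (List.all_eq_true.mp dcodes_type _ hc)⟩

theorem HG_eq : HG = leechLattice := by
  apply le_antisymm
  · apply (AddSubgroup.closure_le _).mpr
    rintro x ⟨c, hc, rfl⟩
    exact G0_le c hc
  · intro x hx
    obtain ⟨A, hA, h | h⟩ := exists_norm_type hx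
    · obtain ⟨y, hy, hy2⟩ := exists_HG_type hA
      have h3 := h.add hy2.neg
      rw [symmDiff_self] at h3
      have h4 : IsL 0 ∅ (x + -y) := by simpa using h3
      have := HG.add_mem (mem_HG_of_type0 h4) hy
      simpa using this
    · obtain ⟨y, hy, hy2⟩ := exists_HG_type hA
      have hu : IsL 1 ∅ (lvec ucode) := by
        have := IsL_of_isLB ucode_type
        rw [setOf_zero] at this
        exact_mod_cast this
      have h3 := (h.add hy2.neg).add hu.neg
      rw [symmDiff_self] at h3
      have h4 : IsL 0 ∅ (x + -y + -lvec ucode) := by simpa using h3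
      have := HG.add_mem (HG.add_mem (mem_HG_of_type0 h4) (lvec_mem_HG (c := ucode) (by simp [G0]))) hy
      simpa using this

/-- boolean test for the norm of a coded vector -/
def normIs (n X : ℕ) : Bool :=
  Nat.beq ((List.range 24).foldl (fun s j => s + dg X j * dg X j) 0 + 1536)
    (n + 16 * (List.range 24).foldl (fun s j => s + dg X j) 0)

theorem sqNorm_of_normIs {n X : ℕ} (h : normIs n X = true) : sqNorm (lvec X) = n := by
  have h1 := Nat.eq_of_beq_eq_true h
  rw [foldl_sum, foldl_sum] at h1
  unfold sqNorm lvec
  rw [sum_pts (fun j => ((dg X j : ℤ) - 8) ^ 2)]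
  have e : ∀ j, ((dg X j : ℤ) - 8) ^ 2 = (dg X j * dg X j : ℕ) - 16 * (dg X j : ℕ) + 64 := by
    intro j; push_cast; ring
  simp only [e, Finset.sum_add_distrib, Finset.sum_sub_distrib, ← Finset.mul_sum, Finset.sum_const,
    Finset.card_range]
  have h2 : ((∑ j ∈ Finset.range 24, dg X j * dg X j : ℕ) : ℤ) + 1536 =
      n + 16 * ((∑ j ∈ Finset.range 24, dg X j : ℕ) : ℤ) := by exact_mod_cast h1
  push_cast at h2 ⊢
  simp only [nsmul_eq_mul, Nat.cast_ofNat]
  linarith

theorem G0_norm : G0.all (normIs 32) = true := by decide +kernel

theorem closure_min : AddSubgroup.closure {x : GolayPt → ℤ | x ∈ leechLattice ∧ sqNorm x = 32} =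
    leechLattice := by
  apply le_antisymm
  · exact (AddSubgroup.closure_le _).mpr (fun x hx => hx.1)
  · rw [← HG_eq]
    apply (AddSubgroup.closure_le _).mpr
    rintro x ⟨c, hc, rfl⟩
    apply AddSubgroup.subset_closure
    refine ⟨HG_eq ▸ lvec_mem_HG hc, ?_⟩
    have := sqNorm_of_normIs (List.all_eq_true.mp G0_norm c hc)
    exact_mod_cast this

end Cfsg.Agent.Lib.Helper8
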