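import Cfsg.Agent.Lib.Helper8.Stab

set_option autoImplicit false

namespace Cfsg.Agent.Lib.Helper8

open Cfsg
open scoped Pointwise

/-- derived invariants of `GInv L` -/
def derived (L : List ℕ) (prog : List (ℕ × ℕ × ℕ)) : List ℕ := prog.foldl dstep (16777215 :: L)

theorem inv_of_derived {L : List ℕ} (prog : List (ℕ × ℕ × ℕ)) {g : Equiv.Perm GolayPt}
    (hg : g ∈ GInv L) : ∀ m ∈ derived L prog, Inv g m := by
  apply inv_run hg.1
  intro m hm
  rcases List.mem_cons.mp hm with h | h
  · rw [h]; exact Inv.full g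
  · exact hg.2 m h

def kapD (D m : ℕ) : ℕ := bif Nat.beq (m &&& D) 0 then m else 0
def rootD (b c : ℕ) : ℕ := bif Nat.beq c 0 then 2 ^ b else c

theorem two_pow_and_ne {D k : ℕ} (h : D.testBit k = true) : Nat.beq (2 ^ k &&& D) 0 = false := by
  rw [Nat.and_comm, Nat.and_two_pow, h]
  cases hb : Nat.beq (true.toNat * 2 ^ k) 0 with
  | false => rfl
  | true =>
    have := Nat.eq_of_beq_eq_true hb
    simp at this

/-- the point-orbit check for one level of a stabiliser chain -/
def levelCheck (L Ts : List ℕ) (prog : List (ℕ × ℕ × ℕ)) (b D parP gnP levP : ℕ) : Bool :=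
  Ts.all (invTest L) && (derived L prog).contains D && D.testBit b && Nat.blt b 24 &&
    orbCheck Ts applyMask Nat.beq (kapD D) (rootD b) (fun k => 2 ^ k) (getP 5 parP) (getP 4 gnP)
      (getP 5 levP) 24

theorem level_trans {L Ts : List ℕ} {prog : List (ℕ × ℕ × ℕ)} {b D parP gnP levP : ℕ}
    (h : levelCheck L Ts prog b D parP gnP levP = true) :
    ∀ j < 24, D.testBit j = true → ∃ g ∈ GInv L, g (pt b) = pt j := by
  simp only [levelCheck, Bool.and_eq_true] at h
  obtain ⟨⟨⟨⟨h1, _⟩, _⟩, h4⟩, h5⟩ := h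
  have hb : b < 24 := Nat.le_of_ble_eq_true h4
  intro j hj hD
  obtain ⟨g, hg, hgx⟩ := orbit_masks (GInv L) Ts (all_mem_GInv h1) _ _ _ _ _ _ 24 h5 j hj
  refine ⟨g, hg, ?_⟩
  have e1 : kapD D (2 ^ j) = 0 := by rw [kapD, two_pow_and_ne hD, cond_false]
  have e2 : rootD b 0 = 2 ^ b := rfl
  simp only [e1, e2] at hgx
  rw [setOf_two_pow hb, setOf_two_pow hj, Finset.smul_finset_singleton, Finset.singleton_inj] at hgx
  exact hgx

theorem level_orbit {L Ts : List ℕ} {prog : List (ℕ × ℕ × ℕ)} {b D parP gnP levP : ℕ}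
    (h : levelCheck L Ts prog b D parP gnP levP = true) :
    MulAction.orbit (GInv L) (pt b) = ↑(setOf D) := by
  have htr := level_trans h
  simp only [levelCheck, Bool.and_eq_true] at h
  obtain ⟨⟨⟨⟨_, h2⟩, h3⟩, h4⟩, _⟩ := h
  have hb : b < 24 := Nat.le_of_ble_eq_true h4
  have hD : D ∈ derived L prog := by simpa using h2
  apply orbit_eq
  · rw [Finset.mem_coe, mem_setOf, idx_pt hb]; exact h3
  · intro g hg a ha
    have hinv : g • setOf D = setOf D := inv_of_derived prog hg D hD
    rw [Finset.mem_coe] at ha ⊢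
    rw [← hinv]
    exact Finset.smul_mem_smul_finset ha
  · intro a ha
    rw [Finset.mem_coe, mem_setOf] at ha
    obtain ⟨g, hg, hga⟩ := htr (idx a) (idx_lt a) ha
    exact ⟨g, hg, by rw [Equiv.Perm.smul_def, hga, pt_idx]⟩

theorem GInv_cons_pt {b : ℕ} (hb : b < 24) (L : List ℕ) :
    GInv (2 ^ b :: L) = GInv L ⊓ MulAction.stabilizer (Equiv.Perm GolayPt) (pt b) := by
  rw [GInv_cons, setOf_two_pow hb, stabilizer_singleton]

theorem level_card {L Ts : List ℕ} {prog : List (ℕ × ℕ × ℕ)} {b D parP gnP levP : ℕ}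
    (h : levelCheck L Ts prog b D parP gnP levP = true) :
    Nat.card (GInv L) = popc D * Nat.card (GInv (2 ^ b :: L)) := by
  have horb := level_orbit h
  simp only [levelCheck, Bool.and_eq_true] at h
  have hb : b < 24 := Nat.le_of_ble_eq_true h.1.2
  rw [card_step (GInv L) (pt b), horb, Set.ncard_coe_finset, card_setOf, GInv_cons_pt hb]

/-- rigidity check: all singletons are derived invariants -/
def rigidCheck (L : List ℕ) (prog : List (ℕ × ℕ × ℕ)) : Bool :=
  allBelow 24 fun i => (derived L prog).contains (2 ^ i)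

theorem GInv_eq_bot {L : List ℕ} {prog : List (ℕ × ℕ × ℕ)} (h : rigidCheck L prog = true) :
    GInv L = ⊥ := by
  rw [Subgroup.eq_bot_iff_forall]
  intro g hg
  apply eq_one_of_inv
  intro i hi
  have := of_allBelow h i hi
  exact inv_of_derived prog hg _ (by simpa using this)

end Cfsg.Agent.Lib.Helper8
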