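import Cfsg.Agent.Lib.Helper8.OutM12d

set_option autoImplicit false

namespace Cfsg.Agent.Lib.Helper8

open Cfsg
open scoped Pointwise

theorem mem_conj_smul {g x : Equiv.Perm GolayPt} {H : Subgroup (Equiv.Perm GolayPt)} :
    x ∈ MulAut.conj g • H ↔ g⁻¹ * x * g ∈ H := by
  rw [Subgroup.mem_pointwise_smul_iff_inv_smul_mem, MulAut.smul_def, MulAut.conj_inv_apply]

theorem M11_iff {x : Equiv.Perm GolayPt} : x ∈ Spor.M11 ↔ x ∈ G12 ∧ x (pt 0) = pt 0 := by
  show x ∈ Spor.M12 ∧ x (pt 0) = pt 0 ↔ _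
  rw [M12_eq]

theorem M11b_iff {x : Equiv.Perm GolayPt} :
    x ∈ Spor.M12 ⊓ MulAction.stabilizer (Equiv.Perm GolayPt) (none : GolayPt) ↔
      x ∈ G12 ∧ x (pt 23) = pt 23 := by
  show x ∈ Spor.M12 ∧ x (pt 23) = pt 23 ↔ _
  rw [M12_eq]

theorem two_classes_M11 :
    Nonempty (↥(Spor.M12 ⊓ MulAction.stabilizer (Equiv.Perm GolayPt) (none : GolayPt)) ≃*
      ↥Spor.M11) ∧
    (¬ ∃ k ∈ Spor.M12, MulAut.conj k • Spor.M11 =
      Spor.M12 ⊓ MulAction.stabilizer (Equiv.Perm GolayPt) (none : GolayPt)) ∧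
    ∃ g ∈ M24, g • Spor.squareDodecad = Finset.univ \ Spor.squareDodecad ∧
      MulAut.conj g • Spor.M11 =
        Spor.M12 ⊓ MulAction.stabilizer (Equiv.Perm GolayPt) (none : GolayPt) := by
  obtain ⟨g, hg, gD, g0⟩ := exists_swap12
  have hN : isN12 g := ⟨hg, Or.inr gD⟩
  have hconj : MulAut.conj g • Spor.M11 =
      Spor.M12 ⊓ MulAction.stabilizer (Equiv.Perm GolayPt) (none : GolayPt) := by
    ext x
    rw [mem_conj_smul, M11_iff, M11b_iff]
    constructor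
    · rintro ⟨h1, h2⟩
      have h3 := isN12_conj hN h1
      have e : g * (g⁻¹ * x * g) * g⁻¹ = x := by group
      rw [e] at h3
      refine ⟨h3, ?_⟩
      rw [Equiv.Perm.mul_apply, Equiv.Perm.mul_apply, g0, Equiv.Perm.inv_eq_iff_eq, g0] at h2
      exact h2
    · rintro ⟨h1, h2⟩
      have h3 := isN12_conj (isN12_inv hN) h1
      rw [inv_inv] at h3
      refine ⟨h3, ?_⟩
      rw [Equiv.Perm.mul_apply, Equiv.Perm.mul_apply, g0, h2, Equiv.Perm.inv_eq_iff_eq, g0]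
  refine ⟨?_, ?_, g, hg, ?_, hconj⟩
  · rw [← hconj]
    exact ⟨(Subgroup.equivSMul (MulAut.conj g) Spor.M11).symm⟩
  · rintro ⟨k, hk, e⟩
    rw [M12_eq] at hk
    set b : GolayPt := k⁻¹ (pt 23) with hb
    have hbD : b ∉ D12 := by
      intro h
      have : k b ∈ D12 := (G12_mem_iff hk _).mpr h
      rw [hb] at this
      simp only [Equiv.Perm.coe_inv, Equiv.apply_symm_apply] at this
      exact pt23_notMem_D this
    have hb0 : b ≠ pt 0 := fun h => hbD (h ▸ pt0_mem_D)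
    obtain ⟨w, hw, w0, wb⟩ := M11_moves hb0
    apply wb
    have h1 : k * w * k⁻¹ ∈ MulAut.conj k • Spor.M11 := by
      rw [mem_conj_smul, M11_iff]
      have e1 : k⁻¹ * (k * w * k⁻¹) * k = w := by group
      rw [e1]; exact ⟨hw, w0⟩
    rw [e, M11b_iff] at h1
    have h2 : k (w b) = pt 23 := h1.2
    rw [← Equiv.Perm.eq_inv_iff_eq] at h2
    exact h2
  · rw [squareDodecad_eq, ← Finset.compl_eq_univ_sdiff]
    exact gD

end Cfsg.Agent.Lib.Helper8
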