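import Cfsg.Agent.Lib.Helper8.M12Chain

set_option autoImplicit false

namespace Cfsg.Agent.Lib.Helper8

open Cfsg
open scoped Pointwise

theorem GInv_mono {L0 L : List ℕ} (hsub : ∀ m ∈ L0, m ∈ L) : GInv L ≤ GInv L0 :=
  fun _ hg => ⟨hg.1, fun m hm => hg.2 m (hsub m hm)⟩

theorem chain_step {L Ts : List ℕ} {prog : List (ℕ × ℕ × ℕ)} {b D parP gnP levP : ℕ}
    (h : levelCheck L Ts prog b D parP gnP levP = true) {L0 : List ℕ} (hsub : ∀ m ∈ L0, m ∈ L)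
    {g : Equiv.Perm GolayPt} (hg : g ∈ GInv L0) {y : GolayPt}
    (hy : D.testBit (idx (g y)) = true) :
    ∃ g' ∈ GInv L0, g' y = pt b ∧ ∀ z i, i < 24 → 2 ^ i ∈ L → g z = pt i → g' z = pt i := by
  obtain ⟨k, hk, hky⟩ := level_move h (g y) hy
  refine ⟨k * g, (GInv L0).mul_mem (GInv_mono hsub hk) hg, hky, ?_⟩
  intro z i hi hL hz
  rw [Equiv.Perm.mul_apply, hz, GInv_fix hk hi hL]

theorem GInv_apply_mem {L : List ℕ} {g : Equiv.Perm GolayPt} (hg : g ∈ GInv L) {m : ℕ}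
    (hm : m ∈ L) {x : GolayPt} : g x ∈ setOf m ↔ x ∈ setOf m := by
  conv_lhs => rw [← hg.2 m hm]
  exact apply_mem_smul_iff g x _

theorem tbD1 : ∀ j < 24, (340831 : ℕ).testBit j = true → j ≠ 0 → (340830 : ℕ).testBit j = true := by
  decide
theorem tbD2 : ∀ j < 24, (340831 : ℕ).testBit j = true → j ≠ 0 → j ≠ 1 →
    (340828 : ℕ).testBit j = true := by decide
theorem tbD3 : ∀ j < 24, (340831 : ℕ).testBit j = true → j ≠ 0 → j ≠ 1 → j ≠ 2 →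
    (340824 : ℕ).testBit j = true := by decide
theorem tbD4 : ∀ j < 24, (340831 : ℕ).testBit j = true → j ≠ 0 → j ≠ 1 → j ≠ 2 → j ≠ 3 →
    (340816 : ℕ).testBit j = true := by
  intro j hj
  interval_cases j <;> decide

theorem apply_ne {g : Equiv.Perm GolayPt} {x y : GolayPt} {i : ℕ} (hxy : x ≠ y) (h : g x = pt i) :
    idx (g y) ≠ i := idx_ne fun h' => hxy (g.injective (h.trans h'.symm))

theorem moveD1 {x0 : GolayPt} (m0 : x0 ∈ setOf 340831) : ∃ g ∈ GInv [340831], g x0 = pt 0 := by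
  obtain ⟨g, hg, h, _⟩ := chain_step m12c0 (L0 := [340831]) (by simp) (GInv [340831]).one_mem
    (y := x0) (mem_setOf.mp m0)
  exact ⟨g, hg, h⟩

theorem moveD2 {x0 x1 : GolayPt} (m0 : x0 ∈ setOf 340831) (m1 : x1 ∈ setOf 340831)
    (h01 : x0 ≠ x1) : ∃ g ∈ GInv [340831], g x0 = pt 0 ∧ g x1 = pt 1 := by
  obtain ⟨g, hg, h0⟩ := moveD1 m0
  obtain ⟨k, hk, h, hz⟩ := chain_step m12c1 (L0 := [340831]) (by simp) hg (y := x1)
    (tbD1 _ (idx_lt _) (mem_setOf.mp ((GInv_apply_mem hg (by simp)).mpr m1)) (apply_ne h01 h0))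
  exact ⟨k, hk, hz _ _ (by norm_num) (by simp) h0, h⟩

theorem moveD3 {x0 x1 x2 : GolayPt} (m0 : x0 ∈ setOf 340831) (m1 : x1 ∈ setOf 340831)
    (m2 : x2 ∈ setOf 340831) (h01 : x0 ≠ x1) (h02 : x0 ≠ x2) (h12 : x1 ≠ x2) :
    ∃ g ∈ GInv [340831], g x0 = pt 0 ∧ g x1 = pt 1 ∧ g x2 = pt 2 := by
  obtain ⟨g, hg, h0, h1⟩ := moveD2 m0 m1 h01
  obtain ⟨k, hk, h, hz⟩ := chain_step m12c2 (L0 := [340831]) (by simp) hg (y := x2)
    (tbD2 _ (idx_lt _) (mem_setOf.mp ((GInv_apply_mem hg (by simp)).mpr m2)) (apply_ne h02 h0)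
      (apply_ne h12 h1))
  exact ⟨k, hk, hz _ _ (by norm_num) (by simp) h0, hz _ _ (by norm_num) (by simp) h1, h⟩

theorem moveD4 {x0 x1 x2 x3 : GolayPt} (m0 : x0 ∈ setOf 340831) (m1 : x1 ∈ setOf 340831)
    (m2 : x2 ∈ setOf 340831) (m3 : x3 ∈ setOf 340831) (h01 : x0 ≠ x1) (h02 : x0 ≠ x2)
    (h12 : x1 ≠ x2) (h03 : x0 ≠ x3) (h13 : x1 ≠ x3) (h23 : x2 ≠ x3) :
    ∃ g ∈ GInv [340831], g x0 = pt 0 ∧ g x1 = pt 1 ∧ g x2 = pt 2 ∧ g x3 = pt 3 := by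
  obtain ⟨g, hg, h0, h1, h2⟩ := moveD3 m0 m1 m2 h01 h02 h12
  obtain ⟨k, hk, h, hz⟩ := chain_step m12c3 (L0 := [340831]) (by simp) hg (y := x3)
    (tbD3 _ (idx_lt _) (mem_setOf.mp ((GInv_apply_mem hg (by simp)).mpr m3)) (apply_ne h03 h0)
      (apply_ne h13 h1) (apply_ne h23 h2))
  exact ⟨k, hk, hz _ _ (by norm_num) (by simp) h0, hz _ _ (by norm_num) (by simp) h1,
    hz _ _ (by norm_num) (by simp) h2, h⟩

theorem moveD5 {x0 x1 x2 x3 x4 : GolayPt} (m0 : x0 ∈ setOf 340831) (m1 : x1 ∈ setOf 340831)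
    (m2 : x2 ∈ setOf 340831) (m3 : x3 ∈ setOf 340831) (m4 : x4 ∈ setOf 340831)
    (h01 : x0 ≠ x1) (h02 : x0 ≠ x2)
    (h12 : x1 ≠ x2) (h03 : x0 ≠ x3) (h13 : x1 ≠ x3) (h23 : x2 ≠ x3) (h04 : x0 ≠ x4)
    (h14 : x1 ≠ x4) (h24 : x2 ≠ x4) (h34 : x3 ≠ x4) :
    ∃ g ∈ GInv [340831], g x0 = pt 0 ∧ g x1 = pt 1 ∧ g x2 = pt 2 ∧ g x3 = pt 3 ∧ g x4 = pt 4 := by
  obtain ⟨g, hg, h0, h1, h2, h3⟩ := moveD4 m0 m1 m2 m3 h01 h02 h12 h03 h13 h23
  obtain ⟨k, hk, h, hz⟩ := chain_step m12c4 (L0 := [340831]) (by simp) hg (y := x4)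
    (tbD4 _ (idx_lt _) (mem_setOf.mp ((GInv_apply_mem hg (by simp)).mpr m4)) (apply_ne h04 h0)
      (apply_ne h14 h1) (apply_ne h24 h2) (apply_ne h34 h3))
  exact ⟨k, hk, hz _ _ (by norm_num) (by simp) h0, hz _ _ (by norm_num) (by simp) h1,
    hz _ _ (by norm_num) (by simp) h2, hz _ _ (by norm_num) (by simp) h3, h⟩

theorem card_D1 : Nat.card (GInv [2 ^ 0, 340831]) = 7920 := by
  have h := level_card m12c0
  rw [card_D] at h
  have e : popc 340831 = 12 := by decide +kernel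
  rw [e] at h
  omega

theorem card_D2 : Nat.card (GInv [2 ^ 1, 2 ^ 0, 340831]) = 720 := by
  have h := level_card m12c1
  rw [card_D1] at h
  have e : popc 340830 = 11 := by decide +kernel
  rw [e] at h
  omega

theorem card_D3 : Nat.card (GInv [2 ^ 2, 2 ^ 1, 2 ^ 0, 340831]) = 72 := by
  have h := level_card m12c2
  rw [card_D2] at h
  have e : popc 340828 = 10 := by decide +kernel
  rw [e] at h
  omega

theorem card_D4 : Nat.card (GInv [2 ^ 3, 2 ^ 2, 2 ^ 1, 2 ^ 0, 340831]) = 8 := by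
  have h := level_card m12c3
  rw [card_D3] at h
  have e : popc 340824 = 9 := by decide +kernel
  rw [e] at h
  omega

theorem card_D5 : Nat.card (GInv [2 ^ 4, 2 ^ 3, 2 ^ 2, 2 ^ 1, 2 ^ 0, 340831]) = 1 := by
  have h := level_card m12c4
  rw [card_D4] at h
  have e : popc 340816 = 8 := by decide +kernel
  rw [e] at h
  omega

theorem GInv_D5_eq_bot : GInv [2 ^ 4, 2 ^ 3, 2 ^ 2, 2 ^ 1, 2 ^ 0, 340831] = ⊥ :=
  Subgroup.card_eq_one.mp card_D5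

theorem normD5 {d : Finset GolayPt} (hd : d ∈ dodecads) (x : Fin 5 ↪ GolayPt)
    (hx : ∀ i, x i ∈ d) : ∃ w ∈ M24, w • d = setOf 340831 ∧ w (x 0) = pt 0 ∧ w (x 1) = pt 1 ∧
      w (x 2) = pt 2 ∧ w (x 3) = pt 3 ∧ w (x 4) = pt 4 := by
  obtain ⟨g0, hg0, hgd⟩ := norm_D hd
  have mem : ∀ i, g0 (x i) ∈ setOf 340831 := fun i => by
    rw [← hgd]; exact (apply_mem_smul_iff _ _ _).mpr (hx i)
  have inj : ∀ i j, i ≠ j → g0 (x i) ≠ g0 (x j) := fun i j hij h =>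
    hij (x.injective (g0.injective h))
  obtain ⟨a, ha, a0, a1, a2, a3, a4⟩ := moveD5 (mem 0) (mem 1) (mem 2) (mem 3) (mem 4)
    (inj 0 1 (by decide)) (inj 0 2 (by decide)) (inj 1 2 (by decide)) (inj 0 3 (by decide))
    (inj 1 3 (by decide)) (inj 2 3 (by decide)) (inj 0 4 (by decide)) (inj 1 4 (by decide))
    (inj 2 4 (by decide)) (inj 3 4 (by decide))
  refine ⟨a * g0, M24.mul_mem ha.1 hg0, ?_, a0, a1, a2, a3, a4⟩
  rw [mul_smul, hgd]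
  exact ha.2 _ (by simp)

theorem eq_one_of_fix5 {d : Finset GolayPt} (hd : d ∈ dodecads) (x : Fin 5 ↪ GolayPt)
    (hx : ∀ i, x i ∈ d) {e : Equiv.Perm GolayPt} (he : e ∈ M24) (hed : e • d = d)
    (hex : ∀ i, e (x i) = x i) : e = 1 := by
  obtain ⟨w, hw, hwd, w0, w1, w2, w3, w4⟩ := normD5 hd x hx
  have h : w * e * w⁻¹ ∈ GInv [2 ^ 4, 2 ^ 3, 2 ^ 2, 2 ^ 1, 2 ^ 0, 340831] := by
    rw [mem_GInv_conj hw]
    refine ⟨he, ?_⟩
    simp only [List.mem_cons, List.not_mem_nil, or_false, forall_eq_or_imp, forall_eq,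
      inv_conj_iff hwd, inv_conj_pt_iff (show 0 < 24 by norm_num) w0,
      inv_conj_pt_iff (show 1 < 24 by norm_num) w1, inv_conj_pt_iff (show 2 < 24 by norm_num) w2,
      inv_conj_pt_iff (show 3 < 24 by norm_num) w3, inv_conj_pt_iff (show 4 < 24 by norm_num) w4]
    exact ⟨hex 4, hex 3, hex 2, hex 1, hex 0, hed⟩
  rw [GInv_D5_eq_bot, Subgroup.mem_bot] at h
  have : e = w⁻¹ * (w * e * w⁻¹) * w := by group
  rw [this, h]
  group

theorem sharp5 {d : Finset GolayPt} (hd : d ∈ dodecads) (x y : Fin 5 ↪ GolayPt)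
    (hx : ∀ i, x i ∈ d) (hy : ∀ i, y i ∈ d) :
    ∃ k ∈ M24, k • d = d ∧ ∀ i, k (x i) = y i := by
  obtain ⟨w, hw, hwd, w0, w1, w2, w3, w4⟩ := normD5 hd x hx
  obtain ⟨v, hv, hvd, v0, v1, v2, v3, v4⟩ := normD5 hd y hy
  refine ⟨v⁻¹ * w, M24.mul_mem (M24.inv_mem hv) hw, ?_, ?_⟩
  · rw [mul_smul, hwd, ← hvd, inv_smul_smul]
  · intro i
    rw [Equiv.Perm.mul_apply, Equiv.Perm.inv_eq_iff_eq]
    fin_cases i
    · exact w0.trans v0.symm
    · exact w1.trans v1.symm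
    · exact w2.trans v2.symm
    · exact w3.trans v3.symm
    · exact w4.trans v4.symm

theorem level_trans2 {L Ts : List ℕ} {prog : List (ℕ × ℕ × ℕ)} {b D parP gnP levP : ℕ}
    (h : levelCheck L Ts prog b D parP gnP levP = true) {y z : GolayPt}
    (hy : D.testBit (idx y) = true) (hz : D.testBit (idx z) = true) :
    ∃ g ∈ GInv L, g y = z := by
  obtain ⟨a, ha, hay⟩ := level_move h y hy
  obtain ⟨c, hc, hcz⟩ := level_move h z hz
  refine ⟨c⁻¹ * a, (GInv L).mul_mem ((GInv L).inv_mem hc) ha, ?_⟩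
  rw [Equiv.Perm.mul_apply, hay, Equiv.Perm.inv_eq_iff_eq, hcz]

theorem normD1 {d : Finset GolayPt} (hd : d ∈ dodecads) {p : GolayPt} (hp : p ∈ d) :
    ∃ w ∈ M24, w • d = setOf 340831 ∧ w p = pt 0 := by
  obtain ⟨g0, hg0, hgd⟩ := norm_D hd
  have mem : ∀ z ∈ d, g0 z ∈ setOf 340831 := fun z hz => by
    rw [← hgd]; exact (apply_mem_smul_iff _ _ _).mpr hz
  obtain ⟨a, ha, a0⟩ := moveD1 (mem p hp)
  refine ⟨a * g0, M24.mul_mem ha.1 hg0, ?_, a0⟩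
  rw [mul_smul, hgd]
  exact ha.2 _ (by simp)

theorem normD3 {d : Finset GolayPt} (hd : d ∈ dodecads) {p q r : GolayPt} (hp : p ∈ d)
    (hq : q ∈ d) (hr : r ∈ d) (hpq : p ≠ q) (hpr : p ≠ r) (hqr : q ≠ r) :
    ∃ w ∈ M24, w • d = setOf 340831 ∧ w p = pt 0 ∧ w q = pt 1 ∧ w r = pt 2 := by
  obtain ⟨g0, hg0, hgd⟩ := norm_D hd
  have mem : ∀ z ∈ d, g0 z ∈ setOf 340831 := fun z hz => by
    rw [← hgd]; exact (apply_mem_smul_iff _ _ _).mpr hz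
  obtain ⟨a, ha, a0, a1, a2⟩ := moveD3 (mem p hp) (mem q hq) (mem r hr)
    (fun h => hpq (g0.injective h)) (fun h => hpr (g0.injective h)) (fun h => hqr (g0.injective h))
  refine ⟨a * g0, M24.mul_mem ha.1 hg0, ?_, a0, a1, a2⟩
  rw [mul_smul, hgd]
  exact ha.2 _ (by simp)

theorem tbC0 : ∀ j < 24, ¬ (340831 : ℕ).testBit j = true → (16436384 : ℕ).testBit j = true := by
  decide
theorem tbC1 : ∀ j < 24, ¬ (340831 : ℕ).testBit j = true → j ≠ 23 →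
    (8047776 : ℕ).testBit j = true := by decide
theorem tbC2 : ∀ j < 24, ¬ (340831 : ℕ).testBit j = true → j ≠ 23 → j ≠ 5 →
    (8047744 : ℕ).testBit j = true := by decide

theorem notMem_D0 {w : Equiv.Perm GolayPt} {d : Finset GolayPt} (hwd : w • d = setOf 340831)
    {x : GolayPt} (hx : x ∉ d) : ¬ (340831 : ℕ).testBit (idx (w x)) = true := by
  rw [← mem_setOf, ← hwd, apply_mem_smul_iff]; exact hx

theorem moveO3 {x0 x1 x2 : GolayPt} (m0 : x0 ∉ setOf 340831) (m1 : x1 ∉ setOf 340831)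
    (m2 : x2 ∉ setOf 340831) (h01 : x0 ≠ x1) (h02 : x0 ≠ x2) (h12 : x1 ≠ x2) :
    ∃ g ∈ GInv [2 ^ 0, 340831], g x0 = pt 23 ∧ g x1 = pt 5 ∧ g x2 = pt 7 := by
  have nm : ∀ {g : Equiv.Perm GolayPt}, g ∈ GInv [2 ^ 0, 340831] → ∀ {x : GolayPt},
      x ∉ setOf 340831 → ¬ (340831 : ℕ).testBit (idx (g x)) = true := by
    intro g hg x hx
    rw [← mem_setOf, GInv_apply_mem hg (by simp)]; exact hx
  obtain ⟨g, hg, h0, _⟩ := chain_step m11o0 (L0 := [2 ^ 0, 340831]) (by simp)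
    (GInv [2 ^ 0, 340831]).one_mem (y := x0) (tbC0 _ (idx_lt _) (nm (Subgroup.one_mem _) m0))
  obtain ⟨k, hk, h1, hz⟩ := chain_step m11o1 (L0 := [2 ^ 0, 340831]) (by simp) hg (y := x1)
    (tbC1 _ (idx_lt _) (nm hg m1) (apply_ne h01 h0))
  have h0' := hz _ _ (by norm_num) (by simp) h0
  obtain ⟨l, hl, h2, hz'⟩ := chain_step m11o2 (L0 := [2 ^ 0, 340831]) (by simp) hk (y := x2)
    (tbC2 _ (idx_lt _) (nm hk m2) (apply_ne h02 h0') (apply_ne h12 h1))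
  exact ⟨l, hl, hz' _ _ (by norm_num) (by simp) h0', hz' _ _ (by norm_num) (by simp) h1, h2⟩

end Cfsg.Agent.Lib.Helper8
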