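import Cfsg.Agent.Lib.Helper8.Pair

set_option autoImplicit false

namespace Cfsg.Agent.Lib.Helper8

open Cfsg
open scoped Pointwise

theorem m12c0 : levelCheck [340831] [713602767080559153557984348525316301, 802929061544138449398694801973725616] [(1, 0, 1)] 0 340831
    2475880087794698836232283552 18447025552981299200 4952969124466383565120146496 = true := by
  decide +kernel

theorem m12c1 : levelCheck [2 ^ 0, 340831] [484412954677472389495034798131157408, 811768520210201612038595491545789504] [(1, 0, 1), (0, 3, 2), (1, 3, 4)] 1 340830
    9908356075207695795162842112 281474976780544 3717446936820301816729273344 = true := by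
  decide +kernel

theorem m12c2 : levelCheck [2 ^ 1, 2 ^ 0, 340831] [891381132628121948382745378857103392, 486067527387073594520997041631530016] [(1, 0, 1), (1, 4, 2), (0, 5, 3), (1, 5, 6)] 2 340828
    11157176834251577428737589248 73014513664 4955387009540371640366432256 = true := by
  decide +kernel

theorem m12c3 : levelCheck [2 ^ 2, 2 ^ 1, 2 ^ 0, 340831] [899189355044933402820830013086107680, 233054687951835244750033064009402400] [(1, 0, 1), (1, 5, 2), (1, 6, 3), (0, 7, 4), (1, 7, 8)] 3 340824
    4973521495201168639027838976 4503603939115008 2479506969016018544643538944 = true := by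
  decide +kernel

theorem m12c4 : levelCheck [2 ^ 3, 2 ^ 2, 2 ^ 1, 2 ^ 0, 340831] [719923664328491199848526586197411872, 609271311764373893382231684089481248] [(1, 0, 1), (1, 6, 2), (1, 7, 3), (1, 8, 4), (0, 9, 5), (1, 9, 10)] 4 340816
    19811876560123436238140080128 18451247677631889408 2477089080483303335749746688 = true := by
  decide +kernel

theorem m11o0 : levelCheck [2 ^ 0, 340831] [595377065269604696807146892354961536, 235574414548826811735420875188869248] [(1, 0, 1), (0, 3, 2), (1, 3, 4)] 23 16436384
    25562372965898905597160995646603264 20551738933467387937161216 4059096527579074763065952722485248 = true := by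
  decide +kernel

theorem m11o1 : levelCheck [2 ^ 23, 2 ^ 0, 340831] [982945552743155205048692816444138624, 981635003231519018937760348564425792] [(1, 0, 1), (1, 4, 2), (0, 5, 3), (1, 5, 6)] 5 8047776
    13433492062076611158817644002410496 19418666197522754509471744 4057789301547797878290573730775040 = true := by
  decide +kernel

theorem m11o2 : levelCheck [2 ^ 5, 2 ^ 23, 2 ^ 0, 340831] [981768338684678545046305695285549568, 981808745361848138686218733556926976] [(1, 0, 1), (1, 5, 2), (1, 6, 3), (0, 7, 4), (1, 7, 8)] 7 8047744
    9885417414841285578080662637772800 75854164570190469136384 1381778845818158317051584943489024 = true := by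
  decide +kernel

theorem m9o : levelCheck [2 ^ 2, 2 ^ 1, 2 ^ 0, 340831] [609271311764373893382231684089481248, 796422664143520048046740322637776928] [(1, 0, 1), (1, 5, 2), (1, 6, 3), (0, 7, 4), (1, 7, 8)] 23 16436384
    25565621591474710648627752066875392 310769788652608384031260672 2721685607628288101431398522421248 = true := by
  decide +kernel


end Cfsg.Agent.Lib.Helper8
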