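import Cfsg.Agent.Lib.Helper8.Level

set_option autoImplicit false

namespace Cfsg.Agent.Lib.Helper8

open Cfsg
open scoped Pointwise

def chainTs0 : List ℕ := [841198426461438833427400935028888819, 148902331521355303159141217669098035]
theorem chain0 : levelCheck [] chainTs0 [] 23 16777215 27775507213102790387279060364140811 328828118083383455051157521 5315540178850263705184397013586054 = true := by
  decide +kernel

def chainTs1 : List ℕ := [967353056586619218839810100688240204, 961954818733362227156197527248165319]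
theorem chain1 : levelCheck [2 ^ 23] chainTs1 [(1, 0, 1)] 0 8388607 2936118188967640433603759199372704 310769493509189216431505408 5357334153966140515846645623131232 = true := by
  decide +kernel

def chainTs2 : List ℕ := [973701816317739841979772642221347968, 965870265652673903664480677675637184]
theorem chain2 : levelCheck [2 ^ 0, 2 ^ 23] chainTs2 [(1, 0, 1), (1, 3, 2)] 1 8388606 18348776139107194802363624154911744 330041472346255737297568000 2681245784172924938584356847455232 = true := by
  decide +kernel

def chainTs3 : List ℕ := [981834264380064724380731353234377760, 958512865600216655855602473047171104]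
theorem chain3 : levelCheck [2 ^ 1, 2 ^ 0, 2 ^ 23] chainTs3 [(1, 0, 1), (1, 4, 2), (1, 5, 3)] 2 8388604 9804466894195554838170734192295936 19418390581730331606450176 4061716049809412502732815095332864 = true := by
  decide +kernel

def chainTs4 : List ℕ := [966138168381547397435583948828280864, 980387487254749445020844698044237856]
theorem chain4 : levelCheck [2 ^ 2, 2 ^ 1, 2 ^ 0, 2 ^ 23] chainTs4 [(1, 0, 1), (1, 5, 2), (1, 6, 3), (1, 7, 4)] 3 8388600 19657593500628858677845374452891648 19343109419182015869157376 6614645593834250379160091120107520 = true := by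
  decide +kernel

def chainTs5 : List ℕ := [981818691054096003685363657089320992, 969836898326968551397880902883313696, 980874226864350081512017426024335392]
theorem chain5 : levelCheck [2 ^ 3, 2 ^ 2, 2 ^ 1, 2 ^ 0, 2 ^ 23] chainTs5 [(1, 0, 1), (1, 6, 2), (1, 7, 3), (1, 8, 4), (1, 9, 5), (1, 1, 2), (1, 11, 3), (1, 12, 4), (1, 13, 5), (2, 14, 8536111), (0, 10, 15), (1, 10, 16)] 4 8241104 8132461405693757246171483186659328 330036767211109228891602944 2679934690670996410616080045703168 = true := by
  decide +kernel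

def chainTs6 : List ℕ := [972606645568131968584696805283956768]
theorem chain6 : levelCheck [2 ^ 4, 2 ^ 3, 2 ^ 2, 2 ^ 1, 2 ^ 0, 2 ^ 23] chainTs6 [(1, 0, 1), (1, 7, 2), (1, 8, 3), (1, 9, 4), (1, 10, 5), (1, 11, 6), (1, 1, 2), (1, 13, 3), (1, 14, 4), (1, 15, 5), (2, 16, 5279), (0, 12, 17), (1, 12, 18), (1, 1, 6), (1, 20, 18), (2, 21, 8541360), (0, 19, 22), (1, 19, 23)] 5 147488 193448201195892863945146368 0 38687987410909568413204480 = true := by
  decide +kernel

theorem chain7 : rigidCheck [2 ^ 5, 2 ^ 4, 2 ^ 3, 2 ^ 2, 2 ^ 1, 2 ^ 0, 2 ^ 23] [(1, 0, 1), (1, 8, 2), (1, 9, 3), (1, 10, 4), (1, 11, 5), (1, 12, 6), (1, 13, 7), (1, 1, 2), (1, 15, 3), (1, 16, 4), (1, 17, 5), (2, 18, 10558), (0, 14, 19), (1, 14, 20), (1, 1, 6), (1, 22, 20), (2, 23, 15777), (0, 21, 24), (1, 21, 25), (1, 15, 25), (2, 27, 8541360), (0, 26, 28), (1, 26, 29), (1, 1, 3), (1, 31, 25), (2, 32, 792232), (0, 30, 33), (1, 30, 34), (1, 1, 4), (1, 36, 25), (2, 37, 2168036), (0, 35, 38), (1, 35, 39), (1, 1, 7), (1, 41, 20), (2, 42, 8694112), (0, 34, 43), (1,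 34, 44), (0, 39, 43), (1, 39, 46), (0, 40, 43), (1, 40, 48), (1, 1, 29), (1, 50, 45), (2, 51, 684577), (0, 20, 52), (1, 20, 53), (0, 25, 52), (1, 25, 55), (1, 4, 54), (1, 57, 29), (2, 58, 4409606), (0, 47, 59), (1, 47, 60), (0, 49, 59), (1, 49, 62), (1, 17, 7), (2, 64, 8978620), (0, 56, 65), (1, 56, 66), (0, 45, 65), (1, 45, 68), (1, 17, 55), (2, 70, 21116), (0, 29, 71), (1, 29, 72), (1, 16, 6), (1, 74, 66), (2, 75, 133817), (0, 54, 76), (1, 54, 77)] = true := by
  decide +kernel

theorem card_M24 : Nat.card M24 = 244823040 := by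
  rw [← GInv_nil, level_card chain0, level_card chain1, level_card chain2, level_card chain3,
    level_card chain4, level_card chain5, level_card chain6, GInv_eq_bot chain7, Subgroup.card_bot]
  decide +kernel

end Cfsg.Agent.Lib.Helper8
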