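import Cfsg.Agent.Lib.Helper8.Pair

set_option autoImplicit false

namespace Cfsg.Agent.Lib.Helper8

def R7 : ℕ := 961485910559246924271964063609034784
def a7A : ℕ := 685715739696193671152507749728803467990649801625222434767744441285217039248635347629558790638712232613374827881408593462646602982751598106239371610212987946098564799759500365783727543247460629504773171531733387178827174251489602334403228216813207680540027216647260083681023822422943881954803091934652023952737639081833019501199611903551379895916431714699845287562217979294463886045710867263301338385261567227536631632984588080314545059754950684830880576369786357132926627102957407104066430352080094802635471843864363172638830394296118643573630663659237205455674882029483598856821639762865491635059468725826161352428534140471119207234130248068852922109966786752507185666676633882805777416914647387527922763401653167041284230987297011763096152078749532859028602914327151353646065629871656150842907011312136468965435814168671115334757385285688056556423192593735709987895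
def b7A : ℕ := 685715739696193671152507749728803467990649801625222434767744441285217039248635347629558790638712232613374827881408593462646602982751598106239371610212987946098564799759500365783727543247460629504773171531733387178827174251489602334403228216813207680540027216647260083681023822422943881954803091934652023952737639081833019501199611903551379895916431714699845287562217979294463886045710867263301338385261567227536631632984588080314545059754950684830880576369786357132926627102957407104066430352080094802635471843864363172638830394296118643573630663659237205455674882029483598856821639762865491635059468725826161352428534140471119207234130248068852922109966786752507185666676633882805777416914647387527922763401653167041284230987297011763096152078749532859028602914327151353646065629871656150842908242869147008097887917361212778005418225949523709633843226732525028214816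
def g7A : ℕ := 685715739696193671152507749728803467979364472432207916227898736275735435875307376022951378926891813582622947643043758627131008045385747504123033402463581265989568955062763669096659154367478596424187889884083960377722694574037263286691696461645012309404097549841987876992659589659615582284230994968006679142974362179638071939251458674899563076428327189632400205864211610134867866978041404324682756919929485131111634162633240222261761231034074677288559822044672436028203039295545753174657229944183611196456201862310625407845356370800981246470247643681339129489329265364037386109808932974332784921153151373544272993119179170120786384719053941442697695469981985867526940028300221822171161875053382696693911140662306097945735734400639071537733028292644457282624388169082051341314597074821537697702071224632772813734904123144302088848453754837957784748631480187711194761248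
def th7A : ℕ := 685715739696193671152507749728803467990649801625222434767744441285217039248635347629558790638712232613374827875586884907211065709793039984538987394168283536069267844896624377068985117107496165038759080400176661366591773992917218297707765971397673542357834978583857322719144088314424026019750898839520127378734476495071361779361677310968498941176167545113292816007053053288070474079310057389459218534411752200378677716041213456073381671769422134012686731297907754502803954958450779779216998252940189647173432358888939565084065327950357270706938280165552447857627088881473717638225117322828268231046199573646908364881740647233192403639144573103766859682437839346429000467390223674697880359388016857117246984919030286808395641430025102782545671289673229567006235413748620177220729376756290329736614369419731922233938976871871614707978665748870443609021415718230396340256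
def c7x : ℕ := 980393627520270125857459822322715649
def c7y : ℕ := 12357829971409379973640193003590711

end Cfsg.Agent.Lib.Helper8
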