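import Cfsg.Agent.Lib.Helper8.Cent2B
import Cfsg.Agent.Lib.Helper8.Norm7Data

set_option autoImplicit false

namespace Cfsg.Agent.Lib.Helper8

open Cfsg
open scoped Pointwise

theorem mem_normalizer_zpowers {G : Type*} [Group G] [Finite G] {y : G} (n : G) :
    n ∈ Subgroup.normalizer (Subgroup.zpowers y : Set G) ↔ ∃ e : ℕ, n * y = y ^ e * n := by
  constructor
  · intro h
    have h1 := (Subgroup.mem_normalizer_iff.mp h y).mp (Subgroup.mem_zpowers y)
    rw [← (isOfFinOrder_of_finite y).mem_powers_iff_mem_zpowers] at h1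
    obtain ⟨e, he⟩ := h1
    refine ⟨e, ?_⟩
    have he' : y ^ e = n * y * n⁻¹ := he
    rw [he']; group
  · rintro ⟨e, he⟩
    have hconj : n * y * n⁻¹ = y ^ e := by rw [he]; group
    have fwd : ∀ h ∈ Subgroup.zpowers y, n * h * n⁻¹ ∈ Subgroup.zpowers y := by
      rintro h ⟨k, rfl⟩
      show n * y ^ k * n⁻¹ ∈ _
      rw [← conj_zpow, hconj]
      exact Subgroup.zpow_mem _ (Subgroup.pow_mem _ (Subgroup.mem_zpowers y) e) k
    rw [Subgroup.mem_normalizer_iff]
    intro h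
    refine ⟨fwd h, fun hh => ?_⟩
    let f : Subgroup.zpowers y → Subgroup.zpowers y := fun z => ⟨n * z.1 * n⁻¹, fwd z.1 z.2⟩
    have hinj : Function.Injective f := by
      intro a b hab
      have : n * a.1 * n⁻¹ = n * b.1 * n⁻¹ := congrArg Subtype.val hab
      exact Subtype.ext (mul_left_cancel (mul_right_cancel this))
    obtain ⟨z, hz⟩ := Finite.surjective_of_injective hinj ⟨n * h * n⁻¹, hh⟩
    have : n * z.1 * n⁻¹ = n * h * n⁻¹ := congrArg Subtype.val hz
    rw [← mul_left_cancel (mul_right_cancel this)]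
    exact z.2

theorem mem_centralizer_zpowers {G : Type*} [Group G] {y : G} (c : G) :
    c ∈ Subgroup.centralizer (Subgroup.zpowers y : Set G) ↔ c * y = y * c := by
  rw [Subgroup.mem_centralizer_iff]
  constructor
  · intro h
    exact (h y (Subgroup.mem_zpowers y)).symm
  · rintro h z ⟨k, rfl⟩
    exact ((show Commute c y from h).zpow_right k).symm.eq

/-- the normaliser in `M24` of a cyclic subgroup -/
def Nn (y : Equiv.Perm GolayPt) : Subgroup (Equiv.Perm GolayPt) :=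
  M24 ⊓ Subgroup.normalizer (Subgroup.zpowers y : Set (Equiv.Perm GolayPt))

theorem mem_Nn {y n : Equiv.Perm GolayPt} : n ∈ Nn y ↔ n ∈ M24 ∧ ∃ e : ℕ, n * y = y ^ e * n := by
  rw [Nn, Subgroup.mem_inf, mem_normalizer_zpowers]

theorem Cn_le_Nn (y : Equiv.Perm GolayPt) : Cn y ≤ Nn y := by
  intro c hc
  obtain ⟨h1, h2⟩ := mem_Cn.mp hc
  exact mem_Nn.mpr ⟨h1, 1, by rw [pow_one]; exact h2⟩

theorem Nn_fix {y n : Equiv.Perm GolayPt} (hn : n ∈ Nn y) {p : GolayPt} (hp : y p = p) :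
    y (n p) = n p := by
  obtain ⟨-, e, he⟩ := mem_Nn.mp ((Nn y).inv_mem hn)
  have h1 : y = n * y ^ e * n⁻¹ := by
    have : n * (n⁻¹ * y) = n * (y ^ e * n⁻¹) := by rw [he]
    rw [mul_inv_cancel_left] at this
    exact this.trans (mul_assoc _ _ _).symm
  have h2 : (y ^ e) p = p := Equiv.Perm.pow_apply_eq_self_of_apply_eq_self hp e
  conv_lhs => rw [h1]
  rw [Equiv.Perm.mul_apply, Equiv.Perm.mul_apply]
  have h3 : n⁻¹ (n p) = p := by simp
  rw [h3, h2]

def normE (f : ℕ → ℕ) (R e : ℕ) : Bool :=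
  allBelow 24 fun i => Nat.beq (f (img R i)) (itT R e (f i))

theorem normE_iff {σ : Equiv.Perm GolayPt} {f : ℕ → ℕ} (hσ : ∀ j < 24, σ (pt j) = pt (f j))
    (hf : ∀ j < 24, f j < 24) {R : ℕ} (hR : validT R = true) (e : ℕ) :
    normE f R e = true ↔ σ * toPerm R = toPerm R ^ e * σ := by
  rw [normE, allBelow_iff]
  constructor
  · intro h
    apply Equiv.ext
    intro p
    have hi := idx_lt p
    rw [← pt_idx p, Equiv.Perm.mul_apply, Equiv.Perm.mul_apply, toPerm_pt hR hi,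
      hσ _ (img_lt hR hi), hσ _ hi, toPerm_pow_pt hR (hf _ hi), Nat.eq_of_beq_eq_true (h _ hi)]
  · intro h i hi
    have h1 := congrFun (congrArg DFunLike.coe h) (pt i)
    rw [Equiv.Perm.mul_apply, Equiv.Perm.mul_apply, toPerm_pt hR hi, hσ _ (img_lt hR hi), hσ _ hi,
      toPerm_pow_pt hR (hf _ hi)] at h1
    have h2 := congrArg idx h1
    rw [idx_pt (hf _ (img_lt hR hi)), idx_pt (itT_lt hR (hf _ hi) e)] at h2
    rw [h2]; exact Nat.beq_refl _

def normA (f : ℕ → ℕ) (R : ℕ) : Bool := [1, 2, 4, 3, 5, 6, 0].any (fun e => normE f R e)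

theorem normA_iff {σ : Equiv.Perm GolayPt} {f : ℕ → ℕ} (hσ : ∀ j < 24, σ (pt j) = pt (f j))
    (hf : ∀ j < 24, f j < 24) {R : ℕ} (hR : validT R = true) (h7 : toPerm R ^ 7 = 1) :
    normA f R = true ↔ ∃ e : ℕ, σ * toPerm R = toPerm R ^ e * σ := by
  rw [normA, List.any_eq_true]
  constructor
  · rintro ⟨e, -, h⟩
    exact ⟨e, (normE_iff hσ hf hR e).mp h⟩
  · rintro ⟨e, h⟩
    refine ⟨e % 7, ?_, (normE_iff hσ hf hR _).mpr (by rw [← pow_eq_pow_mod e h7]; exact h)⟩
    have : e % 7 < 7 := Nat.mod_lt _ (by norm_num)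
    interval_cases (e % 7) <;> simp

theorem R7_mem : inM24 R7 = true := by decide +kernel

theorem order_R7 : orderOf (toPerm R7) = 7 :=
  orderOf_toPerm (validT_of_inM24 R7_mem) (by decide +kernel) (j0 := 2) (by norm_num)
    (by decide +kernel)

theorem R7_pow : toPerm R7 ^ 7 = 1 := by rw [← order_R7]; exact pow_orderOf_eq_one _

theorem fix_R7 : fixF (toPerm R7) = setOf 8388611 :=
  fixF_toPerm (validT_of_inM24 R7_mem) (by decide +kernel)

theorem a7_chk : allBelow 24 (fun j => !((8388611 : ℕ).testBit j) ||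
    (inM24F (getR 120 a7A j) && commT (getR 120 a7A j) R7 &&
    Nat.beq (img (getR 120 a7A j) 23) j)) = true := by decide +kernel

theorem b7_chk : allBelow 24 (fun j => !((3 : ℕ).testBit j) ||
    (inM24F (getR 120 b7A j) && commT (getR 120 b7A j) R7 &&
    Nat.beq (img (getR 120 b7A j) 23) 23 && Nat.beq (img (getR 120 b7A j) 0) j)) = true := by
  decide +kernel

theorem g7_chk : allBelow 24 (fun j => !((6557780 : ℕ).testBit j) ||
    (inM24F (getR 120 g7A j) && commT (getR 120 g7A j) R7 &&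
    Nat.beq (img (getR 120 g7A j) 23) 23 && Nat.beq (img (getR 120 g7A j) 0) 0 &&
    Nat.beq (img (getR 120 g7A j) 2) j)) = true := by
  decide +kernel

theorem th7_chk : allBelow 24 (fun j => (14946391 : ℕ).testBit j ||
    (inM24F (getR 120 th7A j) && Nat.beq (img (getR 120 th7A j) 23) 23 &&
    Nat.beq (img (getR 120 th7A j) 0) 0 && Nat.beq (img (getR 120 th7A j) 1) 1 &&
    Nat.beq (img (getR 120 th7A j) 2) j &&
    allBelow 960 (fun i => !(normA (Ucomp (getR 120 th7A j) (getR 120 q960A i)) R7)))) = true := by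
  decide +kernel

theorem cntC7 : countBelow 960 (fun i => commT (getR 120 q960A i) R7) = 1 := by decide +kernel
theorem cntN7 : countBelow 960 (fun i => normA (img (getR 120 q960A i)) R7) = 3 := by
  decide +kernel

theorem card_filter_Q0 (K : Subgroup (Equiv.Perm GolayPt)) (q : ℕ → Bool)
    (hq : ∀ T, validT T = true → toPerm T ∈ M24 → (q T = true ↔ toPerm T ∈ K)) :
    Nat.card ↥(K ⊓ GInv [2 ^ 2, 2 ^ 1, 2 ^ 0, 2 ^ 23]) =
      countBelow 960 (fun i => q (getR 120 q960A i)) := by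
  have hm : ∀ i < 960, validT (getR 120 q960A i) = true ∧
      toPerm (getR 120 q960A i) ∈ GInv [2 ^ 2, 2 ^ 1, 2 ^ 0, 2 ^ 23] := by
    intro i hi
    have := of_allBelow q960_mem i hi
    rw [invTestF_eq] at this
    exact toPerm_mem_GInv this
  have hmono := strictMono_of_incCheck q960_inc
  have h := ncard_enum_filter (GInv [2 ^ 2, 2 ^ 1, 2 ^ 0, 2 ^ 23] : Set (Equiv.Perm GolayPt))
    (fun i => toPerm (getR 120 q960A i)) 960 (fun i hi => (hm i hi).2)
    (fun a ha => by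
      obtain ⟨i, hi, e⟩ := list_complete card_P4 q960_mem q960_inc a ha
      exact ⟨i, hi, e.symm⟩)
    (by
      intro i j hi hj e
      have e' := toPerm_inj (hm i hi).1 (hm j hj).1 (getR_lt _ _ _) (getR_lt _ _ _) e
      by_contra hne
      rcases Nat.lt_or_gt_of_ne hne with h | h
      · exact absurd e' (Nat.ne_of_lt (hmono i j h hj))
      · exact absurd e'.symm (Nat.ne_of_lt (hmono j i h hi)))
    (fun σ => σ ∈ K) (fun i => q (getR 120 q960A i))
    (fun i hi => hq _ (hm i hi).1 (hm i hi).2.1)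
  rw [← h]
  show Set.ncard _ = _
  congr 1
  ext c
  simp only [SetLike.mem_coe, Set.mem_ofPred_eq, Subgroup.mem_inf]
  exact and_comm

theorem tbF : ∀ j < 24, ((8388611 : ℕ).testBit j = true ∧ j ≠ 23) → (3 : ℕ).testBit j = true := by
  decide
theorem tbF' : ∀ j < 24, ((8388611 : ℕ).testBit j = true ∧ j ≠ 23 ∧ j ≠ 0) → j = 1 := by
  decide
theorem tbF'' : ∀ j < 24, ((14946391 : ℕ).testBit j = true ∧ j ≠ 23 ∧ j ≠ 0 ∧ j ≠ 1) →
    (6557780 : ℕ).testBit j = true := by decide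

theorem pt_ne {i j : ℕ} (hi : i < 24) (hj : j < 24) (h : i ≠ j) : pt i ≠ pt j := by
  intro e
  apply h
  have := congrArg idx e
  rwa [idx_pt hi, idx_pt hj] at this

/-- the order of a group between the centraliser and the normaliser -/
theorem chainN7 (H : Subgroup (Equiv.Perm GolayPt)) (hC : Cn (toPerm R7) ≤ H)
    (hN : H ≤ Nn (toPerm R7)) :
    Nat.card H = 42 * Nat.card ↥(H ⊓ GInv [2 ^ 2, 2 ^ 1, 2 ^ 0, 2 ^ 23]) := by
  have hvR := validT_of_inM24 R7_mem
  have inF : ∀ c ∈ H, ∀ i < 24, (8388611 : ℕ).testBit i = true →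
      (8388611 : ℕ).testBit (idx (c (pt i))) = true := by
    intro c hc i hi hb
    have h1 : pt i ∈ fixF (toPerm R7) := by rw [fix_R7, pt_mem_setOf hi]; exact hb
    have h2 := Nn_fix (hN hc) (mem_fixF.mp h1)
    have h3 : c (pt i) ∈ fixF (toPerm R7) := mem_fixF.mpr h2
    rw [fix_R7, mem_setOf] at h3
    exact h3
  have fix1 : ∀ c ∈ H, c (pt 23) = pt 23 → c (pt 0) = pt 0 → c (pt 1) = pt 1 := by
    intro c hc h23 h0
    have := tbF' _ (idx_lt _) ⟨inF c hc 1 (by norm_num) (by decide), idx_ne (fun h =>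
      pt_ne (by norm_num) (by norm_num) (by norm_num : (1 : ℕ) ≠ 23)
        (c.injective (h.trans h23.symm))), idx_ne (fun h =>
      pt_ne (by norm_num) (by norm_num) (by norm_num : (1 : ℕ) ≠ 0)
        (c.injective (h.trans h0.symm)))⟩
    rw [← pt_idx (c (pt 1)), this]
  have e3 : H ⊓ MulAction.stabilizer (Equiv.Perm GolayPt) (pt 23) ⊓
      MulAction.stabilizer (Equiv.Perm GolayPt) (pt 0) ⊓
      MulAction.stabilizer (Equiv.Perm GolayPt) (pt 2) =
      H ⊓ GInv [2 ^ 2, 2 ^ 1, 2 ^ 0, 2 ^ 23] := by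
    ext c
    constructor
    · rintro ⟨⟨⟨hc, h23⟩, h0⟩, h2⟩
      refine ⟨hc, ?_⟩
      have h23' : c (pt 23) = pt 23 := h23
      have h0' : c (pt 0) = pt 0 := h0
      have h2' : c (pt 2) = pt 2 := h2
      have := mem_Q0_of (h := 1) (g' := c) M24.one_mem (mem_Nn.mp (hN hc)).1 h23'.symm h0'.symm
        (fix1 c hc h23' h0').symm h2'.symm
      simpa using this
    · rintro ⟨hc, hq⟩
      exact ⟨⟨⟨hc, GInv_fix hq (by norm_num) (by simp)⟩, GInv_fix hq (by norm_num) (by simp)⟩,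
        GInv_fix hq (by norm_num) (by simp)⟩
  rw [card_step H (pt 23),
    card_step (H ⊓ MulAction.stabilizer (Equiv.Perm GolayPt) (pt 23)) (pt 0),
    card_step (H ⊓ MulAction.stabilizer (Equiv.Perm GolayPt) (pt 23) ⊓
      MulAction.stabilizer (Equiv.Perm GolayPt) (pt 0)) (pt 2), e3,
    orbit_eq_setOf _ _ 8388611 ?_ ?_, orbit_eq_setOf _ _ 3 ?_ ?_,
    orbit_eq_setOf _ _ 6557780 ?_ ?_]
  · rw [show popc 8388611 = 3 by decide +kernel, show popc 3 = 2 by decide +kernel,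
      show popc 6557780 = 7 by decide +kernel]
    ring
  · -- transitivity on the cycle
    intro j hj hD
    have h := of_allBelow g7_chk j hj
    rw [hD] at h
    simp only [Bool.not_true, Bool.false_or, Bool.and_eq_true, inM24F_eq] at h
    obtain ⟨⟨⟨⟨h1, h2⟩, h3⟩, h4⟩, h5⟩ := h
    have hv := validT_of_inM24 h1
    refine ⟨toPerm (getR 120 g7A j), ⟨⟨hC (mem_Cn.mpr ⟨toPerm_mem_M24 h1,
      commute_of_commT hv hvR h2⟩), ?_⟩, ?_⟩, ?_⟩
    · show toPerm (getR 120 g7A j) (pt 23) = pt 23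
      rw [toPerm_pt hv (by norm_num), Nat.eq_of_beq_eq_true h3]
    · show toPerm (getR 120 g7A j) (pt 0) = pt 0
      rw [toPerm_pt hv (by norm_num), Nat.eq_of_beq_eq_true h4]
    · rw [toPerm_pt hv (by norm_num), Nat.eq_of_beq_eq_true h5]
  · -- the orbit of `2`
    rintro c ⟨⟨hc, h23⟩, h0⟩
    have h23' : c (pt 23) = pt 23 := h23
    have h0' : c (pt 0) = pt 0 := h0
    have h1' := fix1 c hc h23' h0'
    set j := idx (c (pt 2)) with hj
    have hjlt : j < 24 := idx_lt _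
    have hcj : c (pt 2) = pt j := (pt_idx _).symm
    have n23 : j ≠ 23 := idx_ne (fun h => pt_ne (by norm_num) (by norm_num)
      (by norm_num : (2 : ℕ) ≠ 23) (c.injective (h.trans h23'.symm)))
    have n0 : j ≠ 0 := idx_ne (fun h => pt_ne (by norm_num) (by norm_num)
      (by norm_num : (2 : ℕ) ≠ 0) (c.injective (h.trans h0'.symm)))
    have n1 : j ≠ 1 := idx_ne (fun h => pt_ne (by norm_num) (by norm_num)
      (by norm_num : (2 : ℕ) ≠ 1) (c.injective (h.trans h1'.symm)))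
    apply tbF'' j hjlt
    refine ⟨?_, n23, n0, n1⟩
    by_contra hb
    have h := of_allBelow th7_chk j hjlt
    rw [Bool.not_eq_true] at hb
    rw [hb] at h
    simp only [Bool.false_or, Bool.and_eq_true, inM24F_eq] at h
    obtain ⟨⟨⟨⟨⟨k1, k2⟩, k3⟩, k4⟩, k5⟩, k6⟩ := h
    have hv := validT_of_inM24 k1
    obtain ⟨hcM, hce⟩ := mem_Nn.mp (hN hc)
    have hs : (toPerm (getR 120 th7A j))⁻¹ * c ∈ GInv [2 ^ 2, 2 ^ 1, 2 ^ 0, 2 ^ 23] := by
      apply mem_Q0_of (toPerm_mem_M24 k1) hcM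
      · rw [toPerm_pt hv (by norm_num), Nat.eq_of_beq_eq_true k2, h23']
      · rw [toPerm_pt hv (by norm_num), Nat.eq_of_beq_eq_true k3, h0']
      · rw [toPerm_pt hv (by norm_num), Nat.eq_of_beq_eq_true k4, h1']
      · rw [toPerm_pt hv (by norm_num), Nat.eq_of_beq_eq_true k5, hcj]
    have key := coset_forall (Th := getR 120 th7A j)
      (fun σ => ¬ ∃ e : ℕ, σ * toPerm R7 = toPerm R7 ^ e * σ)
      (fun T => !(normA (Ucomp (getR 120 th7A j) T) R7)) (by
        intro T hT hcT hcm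
        rw [(normA_iff (fun i hi => mul_pt hv hT hi) (fun i hi => Ucomp_lt hv hT hi) hvR
          R7_pow).mpr hcm] at hcT
        simp at hcT) k6 _ hs
    rw [mul_inv_cancel_left] at key
    exact key hce
  · -- transitivity on `{0, 1}`
    intro j hj hD
    have h := of_allBelow b7_chk j hj
    rw [hD] at h
    simp only [Bool.not_true, Bool.false_or, Bool.and_eq_true, inM24F_eq] at h
    obtain ⟨⟨⟨h1, h2⟩, h3⟩, h4⟩ := h
    have hv := validT_of_inM24 h1
    refine ⟨toPerm (getR 120 b7A j), ⟨hC (mem_Cn.mpr ⟨toPerm_mem_M24 h1,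
      commute_of_commT hv hvR h2⟩), ?_⟩, ?_⟩
    · show toPerm (getR 120 b7A j) (pt 23) = pt 23
      rw [toPerm_pt hv (by norm_num), Nat.eq_of_beq_eq_true h3]
    · rw [toPerm_pt hv (by norm_num), Nat.eq_of_beq_eq_true h4]
  · rintro c ⟨hc, h23⟩
    have h23' : c (pt 23) = pt 23 := h23
    exact tbF _ (idx_lt _) ⟨inF c hc 0 (by norm_num) (by decide), idx_ne (fun h =>
      pt_ne (by norm_num) (by norm_num) (by norm_num : (0 : ℕ) ≠ 23)
        (c.injective (h.trans h23'.symm)))⟩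
  · intro j hj hD
    have h := of_allBelow a7_chk j hj
    rw [hD] at h
    simp only [Bool.not_true, Bool.false_or, Bool.and_eq_true, inM24F_eq] at h
    obtain ⟨⟨h1, h2⟩, h3⟩ := h
    have hv := validT_of_inM24 h1
    refine ⟨toPerm (getR 120 a7A j), hC (mem_Cn.mpr ⟨toPerm_mem_M24 h1,
      commute_of_commT hv hvR h2⟩), ?_⟩
    rw [toPerm_pt hv (by norm_num), Nat.eq_of_beq_eq_true h3]
  · intro c hc
    exact inF c hc 23 (by norm_num) (by decide)

theorem card_Cn7 : Nat.card ↥(Cn (toPerm R7)) = 42 := by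
  have hvR := validT_of_inM24 R7_mem
  rw [chainN7 _ le_rfl (Cn_le_Nn _), card_filter_Q0 _ (fun T => commT T R7) ?_, cntC7]
  intro T hT hM
  rw [mem_Cn]
  constructor
  · intro h2
    exact ⟨hM, commute_of_commT hT hvR h2⟩
  · rintro ⟨-, h2⟩
    exact commT_of_commute hT hvR h2

theorem card_Nn7 : Nat.card ↥(Nn (toPerm R7)) = 126 := by
  have hvR := validT_of_inM24 R7_mem
  rw [chainN7 _ (Cn_le_Nn _) le_rfl, card_filter_Q0 _ (fun T => normA (img T) R7) ?_, cntN7]
  intro T hT hM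
  rw [mem_Nn, normA_iff (fun i hi => toPerm_pt hT hi) (fun i hi => img_lt hT hi) hvR R7_pow]
  exact ⟨fun h => ⟨hM, h⟩, fun h => h.2⟩

end Cfsg.Agent.Lib.Helper8
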