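import Cfsg.Agent.Lib.Helper8.Norm7

set_option autoImplicit false

namespace Cfsg.Agent.Lib.Helper8

open Cfsg
open scoped Pointwise

theorem card_eq_card_conj (K : Subgroup M24) (K' : Subgroup (Equiv.Perm GolayPt)) (hK' : K' ≤ M24)
    {g : Equiv.Perm GolayPt} (hg : g ∈ M24)
    (h : ∀ k : M24, k ∈ K ↔ g * (k : Equiv.Perm GolayPt) * g⁻¹ ∈ K') :
    Nat.card K = Nat.card K' := by
  apply Nat.card_congr
  refine ⟨fun k => ⟨g * (k : M24) * g⁻¹, (h k.1).mp k.2⟩,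
    fun x => ⟨⟨g⁻¹ * x * g, ?_⟩, ?_⟩, ?_, ?_⟩
  · exact M24.mul_mem (M24.mul_mem (M24.inv_mem hg) (hK' x.2)) hg
  · rw [h]
    have : g * (g⁻¹ * (x : Equiv.Perm GolayPt) * g) * g⁻¹ = x := by group
    show g * (g⁻¹ * (x : Equiv.Perm GolayPt) * g) * g⁻¹ ∈ K'
    rw [this]; exact x.2
  · intro k
    apply Subtype.ext; apply Subtype.ext
    show g⁻¹ * (g * ((k : M24) : Equiv.Perm GolayPt) * g⁻¹) * g = _
    group
  · intro x
    apply Subtype.ext
    show g * (g⁻¹ * (x : Equiv.Perm GolayPt) * g) * g⁻¹ = _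
    group

theorem conj_eq_iff (G K Y : Equiv.Perm GolayPt) (e : ℕ) :
    (G * K * G⁻¹) * (G * Y * G⁻¹) = (G * Y * G⁻¹) ^ e * (G * K * G⁻¹) ↔ K * Y = Y ^ e * K := by
  rw [conj_pow]
  have e1 : G * K * G⁻¹ * (G * Y * G⁻¹) = G * (K * Y) * G⁻¹ := by group
  have e2 : G * Y ^ e * G⁻¹ * (G * K * G⁻¹) = G * (Y ^ e * K) * G⁻¹ := by group
  rw [e1, e2]
  constructor
  · intro h
    exact mul_left_cancel (mul_right_cancel h)
  · intro h
    rw [h]

theorem tr_R7_cnt :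
    {S : Finset (Finset GolayPt) | S ∈ trios ∧ toPerm R7 • S = S}.ncard = 1 := by
  rw [fix_trios (validT_of_inM24 R7_mem)]; decide +kernel

theorem Nn_trio : ∃ T ∈ trios, ∀ n ∈ Nn (toPerm R7), n • T = T := by
  obtain ⟨T0, hT0⟩ := Set.ncard_eq_one.mp tr_R7_cnt
  have hmem : T0 ∈ {S : Finset (Finset GolayPt) | S ∈ trios ∧ toPerm R7 • S = S} := by
    rw [hT0]; rfl
  refine ⟨T0, hmem.1, fun n hn => ?_⟩
  obtain ⟨hnM, -⟩ := mem_Nn.mp hn
  obtain ⟨-, e, he⟩ := mem_Nn.mp ((Nn _).inv_mem hn)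
  have h1 : toPerm R7 * n = n * toPerm R7 ^ e := by
    have : n * (n⁻¹ * toPerm R7) * n = n * (toPerm R7 ^ e * n⁻¹) * n := by rw [he]
    rw [mul_inv_cancel_left] at this
    rw [this]; group
  have h2 : toPerm R7 ^ e • T0 = T0 :=
    Subgroup.pow_mem (MulAction.stabilizer (Equiv.Perm GolayPt) T0) hmem.2 e
  have : n • T0 ∈ {S : Finset (Finset GolayPt) | S ∈ trios ∧ toPerm R7 • S = S} := by
    refine ⟨smul_mem_trios hnM hmem.1, ?_⟩
    rw [← mul_smul, h1, mul_smul, h2]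
  rw [hT0] at this
  exact this

theorem c7_chk : (inM24 c7x && inM24 c7y && commT c7x R7 && commT c7y R7 &&
    !(Nat.beq (img c7x (img c7y 0)) (img c7y (img c7x 0)))) = true := by decide +kernel

theorem Cn7_nonabelian : ∃ a ∈ Cn (toPerm R7), ∃ b ∈ Cn (toPerm R7), a * b ≠ b * a := by
  have h := c7_chk
  simp only [Bool.and_eq_true, Bool.not_eq_true'] at h
  obtain ⟨⟨⟨⟨h1, h2⟩, h3⟩, h4⟩, h5⟩ := h
  have hvR := validT_of_inM24 R7_mem
  have v1 := validT_of_inM24 h1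
  have v2 := validT_of_inM24 h2
  refine ⟨toPerm c7x, mem_Cn.mpr ⟨toPerm_mem_M24 h1, commute_of_commT v1 hvR h3⟩,
    toPerm c7y, mem_Cn.mpr ⟨toPerm_mem_M24 h2, commute_of_commT v2 hvR h4⟩, ?_⟩
  intro e
  have := of_allBelow (commT_of_commute v1 v2 e) 0 (by norm_num)
  rw [h5] at this
  exact absurd this (by decide)

theorem norm7_main (S : Subgroup ↥M24) (hS : Nat.card S = 7) :
    Nat.card ↥(Subgroup.normalizer (S : Set ↥M24)) = 126 ∧
    Nat.card ↥(Subgroup.centralizer (S : Set ↥M24)) = 42 ∧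
    (∃ x ∈ Subgroup.centralizer (S : Set ↥M24), ∃ y ∈ Subgroup.centralizer (S : Set ↥M24),
      x * y ≠ y * x) ∧
    ∃ T ∈ trios, ∀ n ∈ Subgroup.normalizer (S : Set ↥M24),
      ((n : ↥M24) : Equiv.Perm GolayPt) • T = T := by
  obtain ⟨y1, hSz, g, e⟩ : ∃ y1 : M24, S = Subgroup.zpowers y1 ∧ ∃ g : M24,
      (⟨toPerm R7, toPerm_mem_M24 R7_mem⟩ : M24) = g * y1 * g⁻¹ := by
    obtain ⟨x, hx⟩ := exists_prime_orderOf_dvd_card' (G := S) 7 (by rw [hS])
    have hy : orderOf (x : M24) = 7 := by rw [Subgroup.orderOf_coe]; exact hx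
    have hy0 : orderOf (⟨toPerm R7, toPerm_mem_M24 R7_mem⟩ : M24) = 7 := by
      rw [← order_R7, ← Subgroup.orderOf_coe]
    have hr2' : ¬ 7 ^ 2 ∣ Nat.card M24 := by rw [card_M24]; norm_num
    obtain ⟨g, j, e⟩ := exists_conj_pow hr2' hy0 hy
    have hy1 : orderOf ((x : M24) ^ j) = 7 := by
      have := (MulAut.conj g).orderOf_eq ((x : M24) ^ j)
      rw [MulAut.conj_apply, ← e, hy0] at this
      exact this.symm
    refine ⟨(x : M24) ^ j, ?_, g, e⟩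
    symm
    apply Subgroup.eq_of_le_of_card_ge (Subgroup.zpowers_le.mpr (S.zpow_mem x.2 j))
    rw [Nat.card_zpowers, hy1, hS]
  subst hSz
  have e' : toPerm R7 = (g : Equiv.Perm GolayPt) * y1 * (g : Equiv.Perm GolayPt)⁻¹ :=
    congrArg Subtype.val e
  have hN : ∀ k : M24, k ∈ Subgroup.normalizer (Subgroup.zpowers y1 : Set M24) ↔
      (g : Equiv.Perm GolayPt) * k * (g : Equiv.Perm GolayPt)⁻¹ ∈ Nn (toPerm R7) := by
    intro k
    rw [mem_normalizer_zpowers, mem_Nn, e', conj_mem_M24_iff g.2]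
    simp only [k.2, true_and, conj_eq_iff]
    constructor
    · rintro ⟨e, he⟩
      exact ⟨e, congrArg Subtype.val he⟩
    · rintro ⟨e, he⟩
      exact ⟨e, Subtype.ext he⟩
  have hC : ∀ k : M24, k ∈ Subgroup.centralizer (Subgroup.zpowers y1 : Set M24) ↔
      (g : Equiv.Perm GolayPt) * k * (g : Equiv.Perm GolayPt)⁻¹ ∈ Cn (toPerm R7) := by
    intro k
    rw [mem_centralizer_zpowers, e', conj_mem_Cn g.2]
    simp only [k.2, true_and]
    constructor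
    · intro he
      exact congrArg Subtype.val he
    · intro he
      exact Subtype.ext he
  refine ⟨?_, ?_, ?_, ?_⟩
  · rw [card_eq_card_conj _ (Nn (toPerm R7)) inf_le_left g.2 hN, card_Nn7]
  · rw [card_eq_card_conj _ (Cn (toPerm R7)) inf_le_left g.2 hC, card_Cn7]
  · obtain ⟨a, ha, b, hb, hab⟩ := Cn7_nonabelian
    have back : ∀ c ∈ Cn (toPerm R7), ∃ k : M24,
        (g : Equiv.Perm GolayPt) * k * (g : Equiv.Perm GolayPt)⁻¹ = c := by
      intro c hc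
      refine ⟨⟨(g : Equiv.Perm GolayPt)⁻¹ * c * g,
        M24.mul_mem (M24.mul_mem (M24.inv_mem g.2) (mem_Cn.mp hc).1) g.2⟩, ?_⟩
      show (g : Equiv.Perm GolayPt) * ((g : Equiv.Perm GolayPt)⁻¹ * c * g) *
        (g : Equiv.Perm GolayPt)⁻¹ = c
      group
    obtain ⟨ka, hka⟩ := back a ha
    obtain ⟨kb, hkb⟩ := back b hb
    refine ⟨ka, (hC ka).mpr (by rw [hka]; exact ha), kb, (hC kb).mpr (by rw [hkb]; exact hb), ?_⟩
    intro hcomm
    apply hab
    have h1 : (ka : Equiv.Perm GolayPt) * kb = kb * ka := congrArg Subtype.val hcomm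
    rw [← hka, ← hkb]
    have e1 : (g : Equiv.Perm GolayPt) * ka * (g : Equiv.Perm GolayPt)⁻¹ *
        ((g : Equiv.Perm GolayPt) * kb * (g : Equiv.Perm GolayPt)⁻¹) =
        (g : Equiv.Perm GolayPt) * ((ka : Equiv.Perm GolayPt) * kb) *
          (g : Equiv.Perm GolayPt)⁻¹ := by group
    have e2 : (g : Equiv.Perm GolayPt) * kb * (g : Equiv.Perm GolayPt)⁻¹ *
        ((g : Equiv.Perm GolayPt) * ka * (g : Equiv.Perm GolayPt)⁻¹) =
        (g : Equiv.Perm GolayPt) * ((kb : Equiv.Perm GolayPt) * ka) *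
          (g : Equiv.Perm GolayPt)⁻¹ := by group
    rw [e1, e2, h1]
  · obtain ⟨T0, hT0, hfix⟩ := Nn_trio
    refine ⟨(g : Equiv.Perm GolayPt)⁻¹ • T0, smul_mem_trios (M24.inv_mem g.2) hT0, ?_⟩
    intro n hn
    have h1 := hfix _ ((hN n).mp hn)
    rw [mul_smul, mul_smul] at h1
    rw [eq_inv_smul_iff]
    exact h1

end Cfsg.Agent.Lib.Helper8
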