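import Cfsg.Agent.Lib.Helper8.Sym5
import Cfsg.Agent.Lib.Helper8.OutM

set_option autoImplicit false

namespace Cfsg.Agent.Lib.Helper8

open Cfsg
open scoped Pointwise

abbrev L8 : List ℕ := [2 ^ 0, 2 ^ 1, 2 ^ 2, 2 ^ 3, 2 ^ 5, 2 ^ 14, 2 ^ 17, 2 ^ 23]

theorem card_L8 : Nat.card (GInv L8) = 16 := by
  have h := level_card o16lev
  have hbot : GInv (2 ^ 4 :: L8) = ⊥ := by
    rw [Subgroup.eq_bot_iff_forall]
    intro g hg
    apply eq_one_of_nine hg.1
    have hsub : setOf 8536127 ⊆ fixF g := by
      intro a ha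
      rw [mem_setOf] at ha
      have h1 : ∀ j < 24, (8536127 : ℕ).testBit j = true → 2 ^ j ∈ (2 ^ 4 :: L8) := by decide
      rw [mem_fixF, ← pt_idx a]
      exact GInv_fix hg (idx_lt a) (h1 _ (idx_lt a) ha)
    have := Finset.card_le_card hsub
    rw [card_setOf, show popc 8536127 = 9 by decide +kernel] at this
    exact this
  rw [hbot, Subgroup.card_bot, show popc 8241104 = 16 by decide +kernel] at h
  omega

theorem card_stab_oct {o : Finset GolayPt} (ho : o ∈ octads) :
    Nat.card (MulAction.stabilizer M24 o) = 322560 := by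
  obtain ⟨w, hw, hwo⟩ := norm_O ho
  rw [card_eq_card_GInv _ [8536111] hw, card_O]
  intro k
  rw [mem_GInv_conj hw]
  simp only [List.mem_singleton, forall_eq, inv_conj_iff hwo, MulAction.mem_stabilizer_iff, k.2,
    true_and]
  rfl

theorem stab_oct_smul {o : Finset GolayPt} : ∀ g ∈ MulAction.stabilizer M24 o,
    ((g : M24) : Equiv.Perm GolayPt) • o = o := fun _ hg => hg

/-- the pointwise stabiliser of an octad has order 16 -/
theorem card_ker_oct {o : Finset GolayPt} (ho : o ∈ octads) :
    Nat.card (restrictHom (MulAction.stabilizer M24 o) o stab_oct_smul).ker = 16 := by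
  obtain ⟨w, hw, hwo⟩ := norm_O ho
  rw [← card_L8, ← Subgroup.card_map_of_injective (MulAction.stabilizer M24 o).subtype_injective]
  apply card_eq_card_GInv _ _ hw
  intro k
  rw [mem_GInv_conj hw, show L8 = ptsL 8536111 from ptsL_O0.symm, fix_conj_iff hwo]
  simp only [k.2, true_and]
  constructor
  · rintro ⟨y, hy, rfl⟩ x hx
    have := congrArg (fun σ : Equiv.Perm {x // x ∈ o} => ((σ ⟨x, hx⟩ : {x // x ∈ o}) : GolayPt))
      (MonoidHom.mem_ker.mp hy)
    exact this
  · intro h
    have hko : (k : Equiv.Perm GolayPt) • o = o := by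
      ext a
      constructor
      · intro ha
        obtain ⟨b, hb, rfl⟩ := Finset.mem_smul_finset.mp ha
        rw [Equiv.Perm.smul_def, h b hb]; exact hb
      · intro ha
        rw [← h a ha, apply_mem_smul_iff]; exact ha
    refine ⟨⟨k, hko⟩, ?_, rfl⟩
    rw [SetLike.mem_coe, MonoidHom.mem_ker]
    apply Equiv.ext
    intro x
    apply Subtype.ext
    exact h x x.2

theorem range_oct {o : Finset GolayPt} (ho : o ∈ octads) :
    (restrictHom (MulAction.stabilizer M24 o) o stab_oct_smul).range = alternatingGroup ↥o := by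
  apply Equiv.Perm.eq_alternatingGroup_of_index_eq_two
  set φ := restrictHom (MulAction.stabilizer M24 o) o stab_oct_smul with hφ
  have h1 := Subgroup.card_mul_index φ.ker
  rw [Subgroup.index_ker, card_ker_oct ho, card_stab_oct ho] at h1
  have h2 := Subgroup.card_mul_index φ.range
  rw [Nat.card_eq_fintype_card (α := Equiv.Perm ↥o), Fintype.card_perm, Fintype.card_coe, ho.2,
    show Nat.factorial 8 = 40320 by decide] at h2
  have h3 : Nat.card φ.range = 20160 := by omega
  rw [h3] at h2
  omega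

theorem octad_induces_alt (o : Finset GolayPt) (ho : o ∈ octads) :
    {e : Equiv.Perm ↥o | ∃ g : Equiv.Perm GolayPt, g ∈ M24 ∧ ∃ h : (∀ x, g x ∈ o ↔ x ∈ o),
      g.subtypePerm h = e} = (alternatingGroup ↥o : Set (Equiv.Perm ↥o)) := by
  rw [← range_oct ho]
  ext e
  constructor
  · rintro ⟨g, hg, h, rfl⟩
    have hgo : g • o = o := by
      ext a
      rw [← Finset.inv_smul_mem_iff, ← h, Equiv.Perm.smul_def]
      simp
    exact ⟨⟨⟨g, hg⟩, hgo⟩, rfl⟩
  · rintro ⟨⟨⟨k, hk⟩, hko⟩, rfl⟩
    have hko' : k • o = o := hko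
    refine ⟨k, hk, ?_, rfl⟩
    intro x
    have := apply_mem_smul_iff k x o
    rw [hko'] at this
    exact this

end Cfsg.Agent.Lib.Helper8
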