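import Cfsg.Agent.Lib.Helper8.GList
import Cfsg.Agent.Lib.Helper8.Classes

set_option autoImplicit false

namespace Cfsg.Agent.Lib.Helper8

open Cfsg
open scoped Pointwise

section engine

variable {C : Type}

/-- One entry of a labelled orbit certificate on coded objects. -/
def orbEntryC (Ts : List ℕ) (act : ℕ → C → C) (eqv : C → C → Bool) (root : ℕ → C) (obj : ℕ → C)
    (lab par gn lev : ℕ → ℕ) (N i : ℕ) : Bool :=
  bif Nat.beq (lev i) 0 then eqv (root (lab i)) (obj i)
  else
    Nat.blt (par i) N && Nat.blt (lev (par i)) (lev i) && Nat.blt (gn i) Ts.length &&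
      Nat.beq (lab (par i)) (lab i) && eqv (act (Ts.getD (gn i) 0) (obj (par i))) (obj i)

def orbCheckC (Ts : List ℕ) (act : ℕ → C → C) (eqv : C → C → Bool) (root : ℕ → C) (obj : ℕ → C)
    (lab par gn lev : ℕ → ℕ) (N : ℕ) : Bool :=
  allBelow N (orbEntryC Ts act eqv root obj lab par gn lev N)

theorem orbitC_of_check {X : Type*} [MulAction (Equiv.Perm GolayPt) X]
    (H : Subgroup (Equiv.Perm GolayPt)) (interp : C → X) (Ts : List ℕ) (act : ℕ → C → C)
    (eqv : C → C → Bool) (hH : ∀ T ∈ Ts, toPerm T ∈ H)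
    (hact : ∀ T ∈ Ts, ∀ m, interp (act T m) = toPerm T • interp m)
    (heqv : ∀ a b, eqv a b = true → interp a = interp b)
    (root : ℕ → C) (obj : ℕ → C) (lab par gn lev : ℕ → ℕ) (N : ℕ)
    (h : orbCheckC Ts act eqv root obj lab par gn lev N = true) :
    ∀ i < N, ∃ g ∈ H, g • interp (root (lab i)) = interp (obj i) := by
  have h' := of_allBelow h
  have key : ∀ n i, lev i = n → i < N → ∃ g ∈ H, g • interp (root (lab i)) = interp (obj i) := by
    intro n
    induction n using Nat.strong_induction_on with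
    | _ n ih =>
      intro i hlev hi
      have hc := h' i hi
      unfold orbEntryC at hc
      by_cases h0 : lev i = 0
      · have : Nat.beq (lev i) 0 = true := by rw [h0]; rfl
        rw [this, cond_true] at hc
        exact ⟨1, H.one_mem, by rw [one_smul]; exact heqv _ _ hc⟩
      · have : Nat.beq (lev i) 0 = false := by
          cases hb : Nat.beq (lev i) 0 with
          | false => rfl
          | true => exact absurd (Nat.eq_of_beq_eq_true hb) h0
        rw [this, cond_false] at hc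
        simp only [Bool.and_eq_true] at hc
        obtain ⟨⟨⟨⟨h1, h2⟩, h3⟩, h4⟩, h5⟩ := hc
        have h1' : par i < N := Nat.le_of_ble_eq_true h1
        have h2' : lev (par i) < lev i := Nat.le_of_ble_eq_true h2
        have h3' : gn i < Ts.length := Nat.le_of_ble_eq_true h3
        have h4' := Nat.eq_of_beq_eq_true h4
        have hT : Ts.getD (gn i) 0 ∈ Ts := by
          rw [List.getD_eq_getElem _ _ h3']; exact List.getElem_mem _
        obtain ⟨g, hg, hgx⟩ := ih (lev (par i)) (hlev ▸ h2') (par i) rfl h1'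
        refine ⟨toPerm (Ts.getD (gn i) 0) * g, H.mul_mem (hH _ hT) hg, ?_⟩
        rw [mul_smul, ← h4', hgx, ← hact _ hT]
        exact heqv _ _ h5
  intro i hi
  exact key _ i rfl hi

end engine

/-! ### lower bounds for the orders of stabilisers -/

/-- data of one level: generators, base point, orbit, certificate arrays -/
abbrev LevelData := List ℕ × ℕ × ℕ × ℕ × ℕ × ℕ

def lowLevel (tst : ℕ → Bool) (L : List ℕ) (lv : LevelData) : Bool :=
  lv.1.all (fun T => invTestF L T && tst T) && Nat.blt lv.2.1 24 &&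
    orbCheck lv.1 applyMaskG Nat.beq (kapD lv.2.2.1) (rootD lv.2.1) (fun k => 2 ^ k)
      (getR 5 lv.2.2.2.1) (getR 4 lv.2.2.2.2.1) (getR 5 lv.2.2.2.2.2) 24

def lowChain (tst : ℕ → Bool) : List ℕ → List LevelData → ℕ
  | _, [] => 1
  | L, lv :: rest =>
    bif lowLevel tst L lv then popF lv.2.2.1 * lowChain tst (2 ^ lv.2.1 :: L) rest else 0

theorem lowLevel_trans {tst : ℕ → Bool} {S : Subgroup (Equiv.Perm GolayPt)}
    (hS : ∀ T, validT T = true → tst T = true → toPerm T ∈ S) {L : List ℕ} {lv : LevelData}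
    (h : lowLevel tst L lv = true) :
    lv.2.1 < 24 ∧ ∀ j < 24, lv.2.2.1.testBit j = true →
      ∃ g ∈ GInv L ⊓ S, g (pt lv.2.1) = pt j := by
  simp only [lowLevel, Bool.and_eq_true] at h
  obtain ⟨⟨h1, h4⟩, h5⟩ := h
  have hb : lv.2.1 < 24 := Nat.le_of_ble_eq_true h4
  refine ⟨hb, ?_⟩
  have hT : ∀ T ∈ lv.1, validT T = true ∧ toPerm T ∈ GInv L ⊓ S := by
    intro T hT
    have := List.all_eq_true.mp h1 T hT
    rw [Bool.and_eq_true, invTestF_eq] at this
    have h2 := toPerm_mem_GInv this.1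
    exact ⟨h2.1, h2.2, hS T h2.1 this.2⟩
  intro j hj hD
  obtain ⟨g, hg, hgx⟩ := orbit_masks (GInv L ⊓ S) lv.1 hT _ _ _ _ _ _ 24 h5 j hj
  refine ⟨g, hg, ?_⟩
  have e1 : kapD lv.2.2.1 (2 ^ j) = 0 := by rw [kapD, two_pow_and_ne hD, cond_false]
  have e2 : rootD lv.2.1 0 = 2 ^ lv.2.1 := rfl
  simp only [e1, e2] at hgx
  rw [setOf_two_pow hb, setOf_two_pow hj, Finset.smul_finset_singleton, Finset.singleton_inj] at hgx
  exact hgx

theorem lowChain_le {tst : ℕ → Bool} {S : Subgroup (Equiv.Perm GolayPt)}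
    (hS : ∀ T, validT T = true → tst T = true → toPerm T ∈ S) (lvs : List LevelData) (L : List ℕ) :
    lowChain tst L lvs ≤ Nat.card ↥(GInv L ⊓ S) := by
  induction lvs generalizing L with
  | nil => exact Nat.card_pos
  | cons lv rest ih =>
    rw [lowChain]
    cases hc : lowLevel tst L lv with
    | false => rw [cond_false]; exact Nat.zero_le _
    | true =>
      rw [cond_true]
      obtain ⟨hb, htr⟩ := lowLevel_trans hS hc
      rw [card_step (GInv L ⊓ S) (pt lv.2.1)]
      have e : GInv L ⊓ S ⊓ MulAction.stabilizer (Equiv.Perm GolayPt) (pt lv.2.1) =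
          GInv (2 ^ lv.2.1 :: L) ⊓ S := by
        rw [GInv_cons_pt hb, inf_right_comm]
      rw [e]
      apply Nat.mul_le_mul _ (ih _)
      rw [← card_setOf', ← Set.ncard_coe_finset]
      apply Set.ncard_le_ncard _ (Set.toFinite _)
      intro a ha
      rw [Finset.mem_coe, mem_setOf] at ha
      obtain ⟨g, hg, hga⟩ := htr (idx a) (idx_lt a) ha
      exact ⟨⟨g, hg⟩, by
        show g • pt lv.2.1 = a
        rw [Equiv.Perm.smul_def, hga, pt_idx]⟩

/-- Completeness of an enumeration of a transitive set, from a lower bound for the stabiliser. -/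
theorem enum_complete {X : Type*} [MulAction (Equiv.Perm GolayPt) X]
    (G : Subgroup (Equiv.Perm GolayPt)) (A : Set X) (a0 : X)
    (htrans : ∀ a ∈ A, ∃ g ∈ G, g • a0 = a) (f : ℕ → X) (N : ℕ) (hmem : ∀ i < N, f i ∈ A)
    (hinj : ∀ i j, i < N → j < N → f i = f j → i = j)
    (hlow : Nat.card G ≤ N * Nat.card ↥(G ⊓ MulAction.stabilizer (Equiv.Perm GolayPt) a0)) :
    A.ncard = N ∧ (∀ a ∈ A, ∃ i < N, f i = a) ∧ A = MulAction.orbit G a0 ∧
      Nat.card G = N * Nat.card ↥(G ⊓ MulAction.stabilizer (Equiv.Perm GolayPt) a0) := by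
  have hsub : A ⊆ MulAction.orbit G a0 := by
    intro a ha
    obtain ⟨g, hg, rfl⟩ := htrans a ha
    exact ⟨⟨g, hg⟩, rfl⟩
  have hfin : (MulAction.orbit G a0).Finite := Set.finite_range _
  have hstep := card_step G a0
  have hpos : 0 < Nat.card ↥(G ⊓ MulAction.stabilizer (Equiv.Perm GolayPt) a0) := Nat.card_pos
  have hle : (MulAction.orbit G a0).ncard ≤ N := by
    rw [hstep] at hlow
    exact Nat.le_of_mul_le_mul_right hlow hpos
  have himg : (f '' (Set.Iio N)).ncard = N := by
    rw [Set.InjOn.ncard_image]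
    · rw [← Finset.coe_range, Set.ncard_coe_finset, Finset.card_range]
    · intro i hi j hj hij; exact hinj i j hi hj hij
  have hsub2 : f '' (Set.Iio N) ⊆ A := by
    rintro _ ⟨i, hi, rfl⟩; exact hmem i hi
  have e1 : f '' (Set.Iio N) = MulAction.orbit G a0 :=
    Set.eq_of_subset_of_ncard_le (hsub2.trans hsub) (by rw [himg]; exact hle) hfin
  have e2 : A = MulAction.orbit G a0 := Set.Subset.antisymm hsub (by rw [← e1]; exact hsub2)
  refine ⟨by rw [e2, ← e1, himg], ?_, e2, ?_⟩
  · intro a ha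
    rw [e2, ← e1] at ha
    obtain ⟨i, hi, rfl⟩ := ha
    exact ⟨i, hi, rfl⟩
  · rw [hstep, ← e1, himg]

end Cfsg.Agent.Lib.Helper8
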