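import Cfsg.Agent.Lib.Helper8.Perm

set_option autoImplicit false

namespace Cfsg.Agent.Lib.Helper8

open Cfsg
open scoped Pointwise

/-- entry `i` of a packed array with `w`-bit entries -/
def getP (w A i : ℕ) : ℕ := (A >>> (w * i)) % 2 ^ w

/-- One entry of an orbit certificate: either a root (level 0) or the image of an entry of lower
level under one of the listed tables. -/
def orbEntry (Ts : List ℕ) (act : ℕ → ℕ → ℕ) (eqv : ℕ → ℕ → Bool) (κ root obj par gn lev : ℕ → ℕ)
    (N i : ℕ) : Bool :=
  bif Nat.beq (lev i) 0 then eqv (root (κ (obj i))) (obj i)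
  else
    Nat.blt (par i) N && Nat.blt (lev (par i)) (lev i) && Nat.blt (gn i) Ts.length &&
      Nat.beq (κ (obj (par i))) (κ (obj i)) && eqv (act (Ts.getD (gn i) 0) (obj (par i))) (obj i)

def orbCheck (Ts : List ℕ) (act : ℕ → ℕ → ℕ) (eqv : ℕ → ℕ → Bool) (κ root obj par gn lev : ℕ → ℕ)
    (N : ℕ) : Bool :=
  allBelow N (orbEntry Ts act eqv κ root obj par gn lev N)

theorem orbit_of_check {X : Type*} [MulAction (Equiv.Perm GolayPt) X]
    (H : Subgroup (Equiv.Perm GolayPt)) (interp : ℕ → X) (Ts : List ℕ) (act : ℕ → ℕ → ℕ)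
    (eqv : ℕ → ℕ → Bool) (hH : ∀ T ∈ Ts, toPerm T ∈ H)
    (hact : ∀ T ∈ Ts, ∀ m, interp (act T m) = toPerm T • interp m)
    (heqv : ∀ a b, eqv a b = true → interp a = interp b)
    (κ root obj par gn lev : ℕ → ℕ) (N : ℕ)
    (h : orbCheck Ts act eqv κ root obj par gn lev N = true) :
    ∀ i < N, ∃ g ∈ H, g • interp (root (κ (obj i))) = interp (obj i) := by
  have h' := of_allBelow h
  have key : ∀ n i, lev i = n → i < N → ∃ g ∈ H, g • interp (root (κ (obj i))) = interp (obj i) := by
    intro n
    induction n using Nat.strong_induction_on with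
    | _ n ih =>
      intro i hlev hi
      have hc := h' i hi
      unfold orbEntry at hc
      by_cases h0 : lev i = 0
      · have : Nat.beq (lev i) 0 = true := by rw [h0]; rfl
        rw [this, cond_true] at hc
        exact ⟨1, H.one_mem, by rw [one_smul]; exact heqv _ _ hc⟩
      · have : Nat.beq (lev i) 0 = false := by
          cases hb : Nat.beq (lev i) 0 with
          | false => rfl
          | true => exact absurd (Nat.eq_of_beq_eq_true hb) h0
        rw [this, cond_false] at hc
        simp only [Bool.and_eq_true] at hc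
        obtain ⟨⟨⟨⟨h1, h2⟩, h3⟩, h4⟩, h5⟩ := hc
        have h1' : par i < N := Nat.le_of_ble_eq_true h1
        have h2' : lev (par i) < lev i := Nat.le_of_ble_eq_true h2
        have h3' : gn i < Ts.length := Nat.le_of_ble_eq_true h3
        have h4' := Nat.eq_of_beq_eq_true h4
        have hT : Ts.getD (gn i) 0 ∈ Ts := by
          rw [List.getD_eq_getElem _ _ h3']; exact List.getElem_mem _
        obtain ⟨g, hg, hgx⟩ := ih (lev (par i)) (hlev ▸ h2') (par i) rfl h1'
        refine ⟨toPerm (Ts.getD (gn i) 0) * g, H.mul_mem (hH _ hT) hg, ?_⟩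
        rw [mul_smul, ← h4', hgx, ← hact _ hT]
        exact heqv _ _ h5
  intro i hi
  exact key _ i rfl hi

/-- specialisation to masks -/
theorem orbit_masks (H : Subgroup (Equiv.Perm GolayPt)) (Ts : List ℕ)
    (hH : ∀ T ∈ Ts, validT T = true ∧ toPerm T ∈ H)
    (κ root obj par gn lev : ℕ → ℕ) (N : ℕ)
    (h : orbCheck Ts applyMask Nat.beq κ root obj par gn lev N = true) :
    ∀ i < N, ∃ g ∈ H, g • setOf (root (κ (obj i))) = setOf (obj i) :=
  orbit_of_check H setOf Ts applyMask Nat.beq (fun T hT => (hH T hT).2)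
    (fun T hT m => (toPerm_smul_setOf (hH T hT).1 m).symm)
    (fun _ _ hab => by rw [Nat.eq_of_beq_eq_true hab]) κ root obj par gn lev N h

/-- strictly increasing packed arrays -/
def incCheck (obj : ℕ → ℕ) (N : ℕ) : Bool := allBelow (N - 1) fun i => Nat.blt (obj i) (obj (i + 1))

theorem strictMono_of_incCheck {obj : ℕ → ℕ} {N : ℕ} (h : incCheck obj N = true) :
    ∀ i j, i < j → j < N → obj i < obj j := by
  have h' := of_allBelow h
  intro i j hij
  induction j with
  | zero => omega
  | succ k ih =>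
    intro hk
    have hstep : obj k < obj (k + 1) := Nat.le_of_ble_eq_true (h' k (by omega))
    rcases Nat.lt_succ_iff_lt_or_eq.mp hij with h1 | h1
    · exact lt_trans (ih h1 (by omega)) hstep
    · rw [h1]; exact hstep

/-- Completeness of an enumeration by counting. -/
theorem exists_index_of_card {α : Type*} (A : Set α) (hfin : A.Finite) (f : ℕ → α) (N : ℕ)
    (hcard : A.ncard = N) (hmem : ∀ i < N, f i ∈ A)
    (hinj : ∀ i j, i < N → j < N → f i = f j → i = j) : ∀ a ∈ A, ∃ i < N, f i = a := by
  classical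
  have himg : (f '' (Set.Iio N)) = A := by
    apply Set.eq_of_subset_of_ncard_le
    · rintro _ ⟨i, hi, rfl⟩; exact hmem i hi
    · rw [Set.ncard_image_of_injOn]
      · rw [hcard, ← Finset.coe_range, Set.ncard_coe_finset, Finset.card_range]
      · intro i hi j hj hij; exact hinj i j hi hj hij
    · exact hfin
  intro a ha
  rw [← himg] at ha
  obtain ⟨i, hi, rfl⟩ := ha
  exact ⟨i, hi, rfl⟩

end Cfsg.Agent.Lib.Helper8
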