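import Cfsg.Agent.Lib.Helper8.GList

set_option autoImplicit false

namespace Cfsg.Agent.Lib.Helper8

open Cfsg
open scoped Pointwise

def invT11 : List ℕ := [970499966350631336865513127433832480, 731682470506012057756351896624837824, 236681085738091196965317018400171200, 984246521836818460956491656630404160, 818015854031940836654194692781548640, 969958826742993894265839954570609728, 652347741100061557169914214413831360, 444819351316424441011164844367399328, 435164862652805219953057134465356032, 969241353870756385364331985140518304, 610961446608002731848341773020039424, 483764132979692398727233352118765952]
def invO11 : List ℕ := [8536111, 2135601, 5511305, 13121601, 5441617, 8946281, 4287105, 7864649, 1075305, 12325377, 6857221, 3031301]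
def extra11 : List ℕ := []
def coef11 : List ℕ := [4076, 2277, 1536, 3496, 24, 3232, 808, 3724, 492, 3564, 3770, 3276]

end Cfsg.Agent.Lib.Helper8
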