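import Cfsg.Agent.Lib.Helper8.GList

set_option autoImplicit false

namespace Cfsg.Agent.Lib.Helper8

open Cfsg
open scoped Pointwise

def octB22 : List ℕ := [8391797, 8398155, 8412681, 8421811, 8471941, 8524371, 8657159, 8922769, 9440193, 10486557, 12587685]
def octO1 : ℕ := 8394986
def octCoef22 : List ℕ := [1137, 1176, 3403, 1761, 2485, 2918, 3791, 495, 989, 1971, 2840, 3647]
def dualR0 : ℕ := 1141

end Cfsg.Agent.Lib.Helper8
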