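import Cfsg.Agent.Lib.Helper8.OutM
import Cfsg.Prelude.Def_Spor_Mathieu

set_option autoImplicit false

namespace Cfsg.Agent.Lib.Helper8

open Cfsg
open scoped Pointwise

theorem card_stab23 : Nat.card (MulAction.stabilizer M24 (pt 23)) = 10200960 := by
  rw [card_eq_card_GInv _ [2 ^ 23] M24.one_mem, card_P1]
  intro k
  rw [mem_GInv]
  simp only [List.mem_singleton, forall_eq, one_mul, inv_one, mul_one, k.2, true_and,
    MulAction.mem_stabilizer_iff]
  constructor
  · intro h; exact Inv.of_fix (by norm_num) h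
  · intro h; exact h.fix (by norm_num)

theorem inner_M24 (α : MulAut M24) : α ∈ (MulAut.conj : M24 →* MulAut M24).range := by
  set p0 : GolayPt := pt 23 with hp0
  set K : Subgroup (Equiv.Perm GolayPt) :=
    ((MulAction.stabilizer M24 p0).map α.toMonoidHom).map M24.subtype with hK
  have hKM : K ≤ M24 := by
    rintro _ ⟨y, _, rfl⟩; exact y.2
  have hKc : Nat.card K = 10200960 := by
    rw [hK, Subgroup.card_map_of_injective M24.subtype_injective,
      Subgroup.card_map_of_injective α.injective]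
    exact card_stab23
  obtain ⟨q, hq⟩ := fixed_point_M24 K hKM hKc
  have hfix : ∀ x : M24, (x : Equiv.Perm GolayPt) p0 = p0 →
      ((α x : M24) : Equiv.Perm GolayPt) q = q := by
    intro x hx
    apply hq
    exact ⟨α x, ⟨x, hx, rfl⟩, rfl⟩
  have htrans : ∀ ω, ∃ x : M24, (x : Equiv.Perm GolayPt) p0 = ω := by
    intro ω
    obtain ⟨g, hg, h⟩ := move1 ω
    refine ⟨⟨g⁻¹, M24.inv_mem hg⟩, ?_⟩
    show g⁻¹ (pt 23) = ω
    rw [← h]; simp
  have h1 := stab_iff_of_fixed M24 α p0 q (htrans q) hfix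
  obtain ⟨π, hπ, _⟩ := exists_perm_of_aut M24 α p0 q h1 (fun ω => Or.inl (htrans ω)) (htrans q)
  have hπM : π ∈ M24 := by
    apply mem_M24_of_octads
    intro O hO
    apply perm_maps_octad π hO
    intro e he _
    rw [← hπ ⟨e, he⟩]
    exact (α ⟨e, he⟩).2
  refine ⟨⟨π, hπM⟩, ?_⟩
  ext x : 1
  apply Subtype.ext
  rw [hπ x]
  rfl

theorem pt23_eq : pt 23 = none := rfl

theorem inner_M23 (α : MulAut Spor.M23) :
    α ∈ (MulAut.conj : Spor.M23 →* MulAut Spor.M23).range := by
  have hG : ∀ x : Spor.M23, (x : Equiv.Perm GolayPt) ∈ M24 ∧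
      (x : Equiv.Perm GolayPt) (pt 23) = pt 23 := fun x => x.2
  have hG' : ∀ x : Equiv.Perm GolayPt, x ∈ M24 → x (pt 23) = pt 23 → x ∈ Spor.M23 :=
    fun x h1 h2 => ⟨h1, h2⟩
  set p0 : GolayPt := pt 0 with hp0
  set K : Subgroup (Equiv.Perm GolayPt) :=
    ((MulAction.stabilizer Spor.M23 p0).map α.toMonoidHom).map Spor.M23.subtype with hK
  have hKM : K ≤ M24 := by
    rintro _ ⟨y, _, rfl⟩; exact (hG y).1
  have hst : (MulAction.stabilizer Spor.M23 p0).map Spor.M23.subtype = GInv [2 ^ 0, 2 ^ 23] := by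
    ext x
    constructor
    · rintro ⟨y, hy, rfl⟩
      refine ⟨(hG y).1, ?_⟩
      intro m hm
      simp only [List.mem_cons, List.not_mem_nil, or_false] at hm
      rcases hm with rfl | rfl
      · exact Inv.of_fix (by norm_num) hy
      · exact Inv.of_fix (by norm_num) (hG y).2
    · intro hx
      exact ⟨⟨x, hG' x hx.1 (GInv_fix hx (by norm_num) (by simp))⟩,
        GInv_fix hx (by norm_num) (by simp), rfl⟩
  have hKc : Nat.card K = 443520 := by
    rw [hK, Subgroup.card_map_of_injective Spor.M23.subtype_injective,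
      Subgroup.card_map_of_injective α.injective, ← card_P2, ← hst,
      Subgroup.card_map_of_injective Spor.M23.subtype_injective]
  have hinf : ∀ g ∈ K, g (pt 23) = pt 23 := by
    rintro _ ⟨y, _, rfl⟩; exact (hG y).2
  obtain ⟨q, hq23, hq⟩ := fixed_point_M23 K hKM hinf hKc
  have hfix : ∀ x : Spor.M23, (x : Equiv.Perm GolayPt) p0 = p0 →
      ((α x : Spor.M23) : Equiv.Perm GolayPt) q = q := by
    intro x hx
    apply hq
    exact ⟨α x, ⟨x, hx, rfl⟩, rfl⟩
  have htrans : ∀ ω, ω ≠ pt 23 → ∃ x : Spor.M23, (x : Equiv.Perm GolayPt) p0 = ω := by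
    intro ω hω
    obtain ⟨g, hg, h⟩ := level_trans chain1 (idx ω) (idx_lt ω) (tb1 _ (idx_lt ω) (idx_ne hω))
    refine ⟨⟨g, hG' g hg.1 (GInv_fix hg (by norm_num) (by simp))⟩, ?_⟩
    show g (pt 0) = ω
    rw [h, pt_idx]
  have h1 := stab_iff_of_fixed Spor.M23 α p0 q (htrans q hq23) hfix
  have hΔ : ∀ ω, (∃ x : Spor.M23, (x : Equiv.Perm GolayPt) p0 = ω) ∨
      (∀ x : Spor.M23, (x : Equiv.Perm GolayPt) ω = ω) := by
    intro ω
    by_cases hω : ω = pt 23
    · right; intro x; rw [hω]; exact (hG x).2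
    · left; exact htrans ω hω
  obtain ⟨π, hπ, hπ2⟩ := exists_perm_of_aut Spor.M23 α p0 q h1 hΔ (htrans q hq23)
  have hπ23 : π (pt 23) = pt 23 := by
    apply hπ2
    rintro ⟨x, hx⟩
    have h2 := (hG x).2
    rw [← hx] at h2
    have h3 := (x : Equiv.Perm GolayPt).injective h2
    rw [hx] at h3
    have := congrArg idx h3
    rw [hp0, idx_pt (by norm_num), idx_pt (by norm_num)] at this
    omega
  have hπM : π ∈ M24 := by
    apply mem_M24_of_octads23
    intro O hO h23
    apply perm_maps_octad π hO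
    intro e he hfixO
    rw [← hπ ⟨e, hG' e he (hfixO _ h23)⟩]
    exact (hG (α ⟨e, hG' e he (hfixO _ h23)⟩)).1
  refine ⟨⟨π, hG' π hπM hπ23⟩, ?_⟩
  ext x : 1
  apply Subtype.ext
  rw [hπ x]
  rfl

theorem card_out_eq_one {G : Type*} [Group G]
    (h : ∀ α : MulAut G, α ∈ (MulAut.conj : G →* MulAut G).range) :
    Nat.card (MulAut G ⧸ (MulAut.conj : G →* MulAut G).range) = 1 := by
  have htop : (MulAut.conj : G →* MulAut G).range = ⊤ := by
    rw [eq_top_iff]; intro α _; exact h α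
  exact Subgroup.index_eq_one.mpr htop

end Cfsg.Agent.Lib.Helper8
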