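import Mathlib

set_option autoImplicit false

namespace Cfsg.Agent.Lib.Helper8

open Subgroup

section
variable {Ω : Type*} [Finite Ω] (G : Subgroup (Equiv.Perm Ω)) (α : MulAut G) (p0 q : Ω)

/-- an automorphism taking a point stabiliser to a point stabiliser is induced by a permutation -/
theorem exists_perm_of_aut
    (h1 : ∀ x : G, (x : Equiv.Perm Ω) p0 = p0 ↔ ((α x : G) : Equiv.Perm Ω) q = q)
    (hΔ : ∀ ω, (∃ x : G, (x : Equiv.Perm Ω) p0 = ω) ∨ (∀ x : G, (x : Equiv.Perm Ω) ω = ω))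
    (hq : ∃ x : G, (x : Equiv.Perm Ω) p0 = q) :
    ∃ π : Equiv.Perm Ω, (∀ x : G, ((α x : G) : Equiv.Perm Ω) = π * x * π⁻¹) ∧
      (∀ ω, (¬ ∃ x : G, (x : Equiv.Perm Ω) p0 = ω) → π ω = ω) := by
  classical
  let f : Ω → Ω := fun ω => if h : ∃ x : G, (x : Equiv.Perm Ω) p0 = ω then
    ((α h.choose : G) : Equiv.Perm Ω) q else ω
  have same : ∀ x y : G, (x : Equiv.Perm Ω) p0 = (y : Equiv.Perm Ω) p0 ↔
      ((α x : G) : Equiv.Perm Ω) q = ((α y : G) : Equiv.Perm Ω) q := by
    intro x y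
    have e1 : (x : Equiv.Perm Ω) p0 = (y : Equiv.Perm Ω) p0 ↔
        ((y⁻¹ * x : G) : Equiv.Perm Ω) p0 = p0 := by
      rw [Subgroup.coe_mul, Subgroup.coe_inv, Equiv.Perm.mul_apply, Equiv.Perm.inv_eq_iff_eq]
    have e2 : ((α x : G) : Equiv.Perm Ω) q = ((α y : G) : Equiv.Perm Ω) q ↔
        ((α (y⁻¹ * x) : G) : Equiv.Perm Ω) q = q := by
      rw [map_mul, map_inv, Subgroup.coe_mul, Subgroup.coe_inv, Equiv.Perm.mul_apply,
        Equiv.Perm.inv_eq_iff_eq]
    rw [e1, e2, h1]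
  have key : ∀ x : G, f ((x : Equiv.Perm Ω) p0) = ((α x : G) : Equiv.Perm Ω) q := by
    intro x
    have h : ∃ y : G, (y : Equiv.Perm Ω) p0 = (x : Equiv.Perm Ω) p0 := ⟨x, rfl⟩
    show (if h : ∃ y : G, (y : Equiv.Perm Ω) p0 = (x : Equiv.Perm Ω) p0 then
      ((α h.choose : G) : Equiv.Perm Ω) q else _) = _
    rw [dif_pos h]
    exact (same _ _).mp h.choose_spec
  have out : ∀ ω, (¬ ∃ x : G, (x : Equiv.Perm Ω) p0 = ω) → f ω = ω := by
    intro ω h
    show (if h : ∃ y : G, (y : Equiv.Perm Ω) p0 = ω then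
      ((α h.choose : G) : Equiv.Perm Ω) q else ω) = ω
    rw [dif_neg h]
  have equiv : ∀ (y : G) (ω : Ω), f ((y : Equiv.Perm Ω) ω) = ((α y : G) : Equiv.Perm Ω) (f ω) := by
    intro y ω
    by_cases h : ∃ x : G, (x : Equiv.Perm Ω) p0 = ω
    · obtain ⟨x, rfl⟩ := h
      have : (y : Equiv.Perm Ω) ((x : Equiv.Perm Ω) p0) = ((y * x : G) : Equiv.Perm Ω) p0 := rfl
      rw [this, key, key, map_mul]
      rfl
    · have hfix := (hΔ ω).resolve_left h
      rw [hfix y, out ω h, hfix (α y)]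
  have inj : Function.Injective f := by
    intro ω ω' hf
    by_cases h : ∃ x : G, (x : Equiv.Perm Ω) p0 = ω <;>
      by_cases h' : ∃ x : G, (x : Equiv.Perm Ω) p0 = ω'
    · obtain ⟨x, rfl⟩ := h
      obtain ⟨x', rfl⟩ := h'
      rw [key, key] at hf
      exact (same _ _).mpr hf
    · exfalso
      obtain ⟨x, rfl⟩ := h
      rw [key, out ω' h'] at hf
      have hfix := (hΔ ω').resolve_left h'
      have : q = ω' := by
        have h2 := hfix (α x)⁻¹
        rw [← hf, Subgroup.coe_inv, Equiv.Perm.inv_eq_iff_eq] at h2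
        exact (((α x : G) : Equiv.Perm Ω).injective h2).trans hf
      exact h' (this ▸ hq)
    · exfalso
      obtain ⟨x, rfl⟩ := h'
      rw [key, out ω h] at hf
      have hfix := (hΔ ω).resolve_left h
      have : q = ω := by
        have h2 := hfix (α x)⁻¹
        rw [hf, Subgroup.coe_inv, Equiv.Perm.inv_eq_iff_eq] at h2
        exact (((α x : G) : Equiv.Perm Ω).injective h2).trans hf.symm
      exact h (this ▸ hq)
    · rwa [out ω h, out ω' h'] at hf
  have bij : Function.Bijective f := Finite.injective_iff_bijective.mp inj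
  refine ⟨Equiv.ofBijective f bij, ?_, ?_⟩
  · intro x
    ext ω
    rw [Equiv.Perm.mul_apply, Equiv.Perm.mul_apply]
    show _ = f ((x : Equiv.Perm Ω) _)
    rw [equiv]
    congr 1
    exact ((Equiv.ofBijective f bij).apply_symm_apply ω).symm
  · intro ω h
    exact out ω h

/-- if the image of a point stabiliser fixes a point of the same orbit, it is its stabiliser -/
theorem stab_iff_of_fixed (hq : ∃ x : G, (x : Equiv.Perm Ω) p0 = q)
    (hfix : ∀ x : G, (x : Equiv.Perm Ω) p0 = p0 → ((α x : G) : Equiv.Perm Ω) q = q) :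
    ∀ x : G, (x : Equiv.Perm Ω) p0 = p0 ↔ ((α x : G) : Equiv.Perm Ω) q = q := by
  set H := MulAction.stabilizer G p0 with hH
  set H' := (MulAction.stabilizer G q).comap α.toMonoidHom with hH'
  have hle : H ≤ H' := by
    intro x hx
    exact hfix x hx
  have hc1 : Nat.card H' = Nat.card (MulAction.stabilizer G q) := by
    apply Nat.card_congr
    exact ⟨fun x => ⟨α x, x.2⟩, fun y => ⟨α.symm y, by
      show α (α.symm y) ∈ MulAction.stabilizer G q
      rw [MulEquiv.apply_symm_apply]; exact y.2⟩,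
      fun x => by apply Subtype.ext; exact α.symm_apply_apply _,
      fun y => by apply Subtype.ext; exact α.apply_symm_apply _⟩
  have hc2 : Nat.card (MulAction.stabilizer G q) = Nat.card H := by
    obtain ⟨x, hx⟩ := hq
    exact Nat.card_congr (MulAction.stabilizerEquivStabilizer (g := x) (a := p0) (b := q) hx.symm).symm.toEquiv
  have heq : H = H' := Subgroup.eq_of_le_of_card_ge hle (by rw [hc1, hc2])
  intro x
  constructor
  · exact hfix x
  · intro hx
    have : x ∈ H' := hx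
    rw [← heq] at this
    exact this

end

section
variable {Ω : Type*} [Fintype Ω] [DecidableEq Ω]

/-- the fixed points of a permutation -/
def fixF (x : Equiv.Perm Ω) : Finset Ω := Finset.univ.filter (fun a => x a = a)

theorem mem_fixF {x : Equiv.Perm Ω} {a : Ω} : a ∈ fixF x ↔ x a = a := by simp [fixF]

theorem apply_mem_orbit_iff (K : Subgroup (Equiv.Perm Ω)) {x : Equiv.Perm Ω} (hx : x ∈ K) (ω a : Ω) :
    x a ∈ MulAction.orbit K ω ↔ a ∈ MulAction.orbit K ω := by
  have : x a = (⟨x, hx⟩ : K) • a := rfl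
  rw [this, ← MulAction.orbit_eq_iff, MulAction.orbit_smul, MulAction.orbit_eq_iff]

theorem orbit_mod (K : Subgroup (Equiv.Perm Ω)) {x : Equiv.Perm Ω} (hx : x ∈ K) {r : ℕ}
    [Fact r.Prime] (hxr : x ^ r = 1) (ω : Ω) :
    (MulAction.orbit K ω).ncard ≡ (MulAction.orbit K ω ∩ (fixF x : Set Ω)).ncard [MOD r] := by
  classical
  set A := MulAction.orbit K ω with hA
  have hAx : ∀ a, x a ∈ A ↔ a ∈ A := apply_mem_orbit_iff K hx ω
  set σ : Equiv.Perm {a // a ∈ A} := x.subtypePerm hAx with hσ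
  have hσr : σ ^ r ^ 1 = 1 := by
    rw [pow_one, hσ, Equiv.Perm.subtypePerm_pow]
    ext a
    simp [hxr]
  have h1 := Equiv.Perm.card_compl_support_modEq hσr
  have h2 : Fintype.card {a // a ∈ A} = A.ncard := by
    rw [← Nat.card_eq_fintype_card]; exact Nat.card_coe_set_eq A
  have h3 : σ.supportᶜ.card = (A ∩ (fixF x : Set Ω)).ncard := by
    have : (A ∩ (fixF x : Set Ω)) =
        ((σ.supportᶜ.map ⟨Subtype.val, Subtype.val_injective⟩ : Finset Ω) : Set Ω) := by
      ext a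
      simp only [Set.mem_inter_iff, Finset.mem_coe, mem_fixF, Finset.mem_map, Finset.mem_compl,
        Equiv.Perm.mem_support, not_not, Function.Embedding.coeFn_mk, Subtype.exists,
        exists_and_right, exists_eq_right]
      constructor
      · rintro ⟨ha, hxa⟩
        exact ⟨ha, Subtype.ext hxa⟩
      · rintro ⟨ha, hxa⟩
        exact ⟨ha, congrArg Subtype.val hxa⟩
    rw [this, Set.ncard_coe_finset, Finset.card_map]
  rw [h2, h3] at h1
  exact h1.symm

theorem orbit_disjoint_fixed (K : Subgroup (Equiv.Perm Ω)) (F : Finset Ω)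
    (hF : ∀ g ∈ K, ∀ a ∈ F, g a = a) {ω : Ω} (hω : ω ∉ F) :
    ∀ a ∈ MulAction.orbit K ω, a ∉ F := by
  rintro _ ⟨g, rfl⟩ ha
  apply hω
  have h1 := hF g⁻¹ (K.inv_mem g.2) _ ha
  have h2 : (g : Equiv.Perm Ω)⁻¹ (g • ω) = ω := by
    show (g : Equiv.Perm Ω)⁻¹ ((g : Equiv.Perm Ω) ω) = ω
    simp
  rw [h2] at h1
  rw [h1]; exact ha

theorem orbit_ncard_le (K : Subgroup (Equiv.Perm Ω)) (F : Finset Ω)
    (hF : ∀ g ∈ K, ∀ a ∈ F, g a = a) {ω : Ω} (hω : ω ∉ F) :
    (MulAction.orbit K ω).ncard + F.card ≤ Fintype.card Ω := by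
  classical
  have h := orbit_disjoint_fixed K F hF hω
  have h1 : (MulAction.orbit K ω) ⊆ ((Fᶜ : Finset Ω) : Set Ω) := by
    intro a ha
    simpa using h a ha
  have h2 := Set.ncard_le_ncard h1 (Set.toFinite _)
  rw [Set.ncard_coe_finset, Finset.card_compl] at h2
  have := F.card_le_univ
  omega

theorem orbit_ncard_pos (K : Subgroup (Equiv.Perm Ω)) (ω : Ω) : 0 < (MulAction.orbit K ω).ncard :=
  (Set.ncard_pos (Set.toFinite _)).mpr ⟨ω, MulAction.mem_orbit_self ω⟩

/-- bound for the number of fixed points in an orbit -/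
theorem orbit_inter_le (K : Subgroup (Equiv.Perm Ω)) (F : Finset Ω)
    (hF : ∀ g ∈ K, ∀ a ∈ F, g a = a) {ω : Ω} (hω : ω ∉ F) {x : Equiv.Perm Ω} (hx : x ∈ K) :
    (MulAction.orbit K ω ∩ (fixF x : Set Ω)).ncard + F.card ≤ (fixF x).card := by
  classical
  have h := orbit_disjoint_fixed K F hF hω
  have hFx : F ⊆ fixF x := fun a ha => mem_fixF.mpr (hF x hx a ha)
  have h1 : (MulAction.orbit K ω ∩ (fixF x : Set Ω)) ⊆ ((fixF x \ F : Finset Ω) : Set Ω) := by
    rintro a ⟨ha, ha'⟩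
    simp only [Finset.coe_sdiff, Set.mem_sdiff, Finset.mem_coe]
    exact ⟨ha', h a ha⟩
  have h2 := Set.ncard_le_ncard h1 (Set.toFinite _)
  rw [Set.ncard_coe_finset, Finset.card_sdiff_of_subset hFx] at h2
  have := Finset.card_le_card hFx
  omega

/-- if the base point is itself fixed and there is no room for another fixed point -/
theorem orbit_inter_eq_one (K : Subgroup (Equiv.Perm Ω)) (F : Finset Ω)
    (hF : ∀ g ∈ K, ∀ a ∈ F, g a = a) {ω : Ω} (hω : ω ∉ F) {x : Equiv.Perm Ω} (hx : x ∈ K)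
    (hxω : x ω = ω) (hc : (fixF x).card = F.card + 1) :
    (MulAction.orbit K ω ∩ (fixF x : Set Ω)).ncard = 1 := by
  have h1 := orbit_inter_le K F hF hω hx
  have h2 : 0 < (MulAction.orbit K ω ∩ (fixF x : Set Ω)).ncard :=
    (Set.ncard_pos (Set.toFinite _)).mpr ⟨ω, MulAction.mem_orbit_self ω, mem_fixF.mpr hxω⟩
  omega

theorem fixed_of_orbit_ncard_one (K : Subgroup (Equiv.Perm Ω)) {ω : Ω}
    (h : (MulAction.orbit K ω).ncard = 1) : ∀ g ∈ K, g ω = ω := by
  intro g hg
  obtain ⟨a, ha⟩ := Set.ncard_eq_one.mp h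
  have h1 : ω ∈ MulAction.orbit K ω := MulAction.mem_orbit_self ω
  have h2 : g ω ∈ MulAction.orbit K ω := ⟨⟨g, hg⟩, rfl⟩
  rw [ha, Set.mem_singleton_iff] at h1 h2
  rw [h2, h1]

/-- conjugate-power elements: fixed points -/
theorem card_fixF_le {x x0 g : Equiv.Perm Ω} {j : ℤ} (h : x0 = g * x ^ j * g⁻¹) :
    (fixF x).card ≤ (fixF x0).card := by
  apply Finset.card_le_card_of_injOn (fun a => g a)
  · intro a ha
    have ha' : x a = a := mem_fixF.mp ha
    have hj : (x ^ j) a = a := Equiv.Perm.zpow_apply_eq_self_of_apply_eq_self ha' j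
    show g a ∈ fixF x0
    rw [mem_fixF, h]
    simp [hj]
  · intro a _ b _ hab
    exact g.injective hab

end

end Cfsg.Agent.Lib.Helper8
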