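import Cfsg.Agent.Lib.Helper8.OutGen

set_option autoImplicit false

namespace Cfsg.Agent.Lib.Helper8

open Subgroup

section
variable {Ω : Type*} [Finite Ω] (G : Subgroup (Equiv.Perm Ω)) (α : MulAut G)

theorem same_of_stab_iff {p q : Ω}
    (h1 : ∀ x : G, (x : Equiv.Perm Ω) p = p ↔ ((α x : G) : Equiv.Perm Ω) q = q) (x y : G) :
    (x : Equiv.Perm Ω) p = (y : Equiv.Perm Ω) p ↔
      ((α x : G) : Equiv.Perm Ω) q = ((α y : G) : Equiv.Perm Ω) q := by
  have e1 : (x : Equiv.Perm Ω) p = (y : Equiv.Perm Ω) p ↔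
      ((y⁻¹ * x : G) : Equiv.Perm Ω) p = p := by
    rw [Subgroup.coe_mul, Subgroup.coe_inv, Equiv.Perm.mul_apply, Equiv.Perm.inv_eq_iff_eq]
  have e2 : ((α x : G) : Equiv.Perm Ω) q = ((α y : G) : Equiv.Perm Ω) q ↔
      ((α (y⁻¹ * x) : G) : Equiv.Perm Ω) q = q := by
    rw [map_mul, map_inv, Subgroup.coe_mul, Subgroup.coe_inv, Equiv.Perm.mul_apply,
      Equiv.Perm.inv_eq_iff_eq]
  rw [e1, e2, h1]

/-- the version of `exists_perm_of_aut` for a group with two orbits -/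
theorem exists_perm_of_aut2 (p1 q1 p2 q2 : Ω)
    (h1 : ∀ x : G, (x : Equiv.Perm Ω) p1 = p1 ↔ ((α x : G) : Equiv.Perm Ω) q1 = q1)
    (h2 : ∀ x : G, (x : Equiv.Perm Ω) p2 = p2 ↔ ((α x : G) : Equiv.Perm Ω) q2 = q2)
    (hΔ : ∀ ω, (∃ x : G, (x : Equiv.Perm Ω) p1 = ω) ∨ (∃ x : G, (x : Equiv.Perm Ω) p2 = ω))
    (hp : ∀ x y : G, (x : Equiv.Perm Ω) p1 ≠ (y : Equiv.Perm Ω) p2)
    (hq : ∀ x y : G, (x : Equiv.Perm Ω) q1 ≠ (y : Equiv.Perm Ω) q2) :
    ∃ π : Equiv.Perm Ω, (∀ x : G, ((α x : G) : Equiv.Perm Ω) = π * x * π⁻¹) ∧ π p1 = q1 := by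
  classical
  let f : Ω → Ω := fun ω => if h : ∃ x : G, (x : Equiv.Perm Ω) p1 = ω then
    ((α h.choose : G) : Equiv.Perm Ω) q1 else if h' : ∃ x : G, (x : Equiv.Perm Ω) p2 = ω then
    ((α h'.choose : G) : Equiv.Perm Ω) q2 else ω
  have key1 : ∀ x : G, f ((x : Equiv.Perm Ω) p1) = ((α x : G) : Equiv.Perm Ω) q1 := by
    intro x
    have h : ∃ y : G, (y : Equiv.Perm Ω) p1 = (x : Equiv.Perm Ω) p1 := ⟨x, rfl⟩
    show (if h : ∃ y : G, (y : Equiv.Perm Ω) p1 = (x : Equiv.Perm Ω) p1 then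
      ((α h.choose : G) : Equiv.Perm Ω) q1 else _) = _
    rw [dif_pos h]
    exact (same_of_stab_iff G α h1 _ _).mp h.choose_spec
  have key2 : ∀ x : G, f ((x : Equiv.Perm Ω) p2) = ((α x : G) : Equiv.Perm Ω) q2 := by
    intro x
    have h0 : ¬ ∃ y : G, (y : Equiv.Perm Ω) p1 = (x : Equiv.Perm Ω) p2 := by
      rintro ⟨y, hy⟩; exact hp y x hy
    have h : ∃ y : G, (y : Equiv.Perm Ω) p2 = (x : Equiv.Perm Ω) p2 := ⟨x, rfl⟩
    show (if h : ∃ y : G, (y : Equiv.Perm Ω) p1 = (x : Equiv.Perm Ω) p2 then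
      ((α h.choose : G) : Equiv.Perm Ω) q1 else
        if h' : ∃ y : G, (y : Equiv.Perm Ω) p2 = (x : Equiv.Perm Ω) p2 then
      ((α h'.choose : G) : Equiv.Perm Ω) q2 else _) = _
    rw [dif_neg h0, dif_pos h]
    exact (same_of_stab_iff G α h2 _ _).mp h.choose_spec
  have equiv : ∀ (y : G) (ω : Ω), f ((y : Equiv.Perm Ω) ω) = ((α y : G) : Equiv.Perm Ω) (f ω) := by
    intro y ω
    rcases hΔ ω with ⟨x, rfl⟩ | ⟨x, rfl⟩
    · have : (y : Equiv.Perm Ω) ((x : Equiv.Perm Ω) p1) = ((y * x : G) : Equiv.Perm Ω) p1 := rfl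
      rw [this, key1, key1, map_mul]
      rfl
    · have : (y : Equiv.Perm Ω) ((x : Equiv.Perm Ω) p2) = ((y * x : G) : Equiv.Perm Ω) p2 := rfl
      rw [this, key2, key2, map_mul]
      rfl
  have inj : Function.Injective f := by
    intro ω ω' hf
    rcases hΔ ω with ⟨x, rfl⟩ | ⟨x, rfl⟩ <;> rcases hΔ ω' with ⟨x', rfl⟩ | ⟨x', rfl⟩
    · rw [key1, key1] at hf
      exact (same_of_stab_iff G α h1 _ _).mpr hf
    · rw [key1, key2] at hf
      exact absurd hf (hq _ _)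
    · rw [key2, key1] at hf
      exact absurd hf.symm (hq _ _)
    · rw [key2, key2] at hf
      exact (same_of_stab_iff G α h2 _ _).mpr hf
  have bij : Function.Bijective f := Finite.injective_iff_bijective.mp inj
  refine ⟨Equiv.ofBijective f bij, ?_, ?_⟩
  · intro x
    ext ω
    rw [Equiv.Perm.mul_apply, Equiv.Perm.mul_apply]
    show _ = f ((x : Equiv.Perm Ω) _)
    rw [equiv]
    congr 1
    exact ((Equiv.ofBijective f bij).apply_symm_apply ω).symm
  · show f p1 = q1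
    have := key1 1
    simpa using this

/-- variant of `stab_iff_of_fixed` with a hypothesis on orders -/
theorem stab_iff_of_fixed' (p0 q : Ω)
    (hcard : Nat.card (MulAction.stabilizer G q) ≤ Nat.card (MulAction.stabilizer G p0))
    (hfix : ∀ x : G, (x : Equiv.Perm Ω) p0 = p0 → ((α x : G) : Equiv.Perm Ω) q = q) :
    ∀ x : G, (x : Equiv.Perm Ω) p0 = p0 ↔ ((α x : G) : Equiv.Perm Ω) q = q := by
  set H := MulAction.stabilizer G p0 with hH
  set H' := (MulAction.stabilizer G q).comap α.toMonoidHom with hH'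
  have hle : H ≤ H' := by
    intro x hx
    exact hfix x hx
  have hc1 : Nat.card H' = Nat.card (MulAction.stabilizer G q) := by
    apply Nat.card_congr
    exact ⟨fun x => ⟨α x, x.2⟩, fun y => ⟨α.symm y, by
      show α (α.symm y) ∈ MulAction.stabilizer G q
      rw [MulEquiv.apply_symm_apply]; exact y.2⟩,
      fun x => by apply Subtype.ext; exact α.symm_apply_apply _,
      fun y => by apply Subtype.ext; exact α.apply_symm_apply _⟩
  have heq : H = H' := Subgroup.eq_of_le_of_card_ge hle (by rw [hc1]; exact hcard)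
  intro x
  constructor
  · exact hfix x
  · intro hx
    have : x ∈ H' := hx
    rw [← heq] at this
    exact this

/-- if the images of two point stabilisers are stabilisers of points of one orbit, the two
stabilisers are conjugate -/
theorem stab_conj_of_same_orbit {p p' q q' : Ω}
    (h1 : ∀ x : G, (x : Equiv.Perm Ω) p = p ↔ ((α x : G) : Equiv.Perm Ω) q = q)
    (h2 : ∀ x : G, (x : Equiv.Perm Ω) p' = p' ↔ ((α x : G) : Equiv.Perm Ω) q' = q')
    (y : G) (hy : (y : Equiv.Perm Ω) q = q') :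
    ∀ x : G, (x : Equiv.Perm Ω) p' = p' ↔
      (x : Equiv.Perm Ω) (((α.symm y : G) : Equiv.Perm Ω) p) = ((α.symm y : G) : Equiv.Perm Ω) p := by
  intro x
  set z := α.symm y with hz
  have hzy : α z = y := α.apply_symm_apply y
  have e := h1 (z⁻¹ * x * z)
  rw [map_mul, map_mul, map_inv, hzy] at e
  simp only [Subgroup.coe_mul, Subgroup.coe_inv, Equiv.Perm.mul_apply,
    Equiv.Perm.inv_eq_iff_eq] at e
  rw [h2 x, e, hy]

end

end Cfsg.Agent.Lib.Helper8
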