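import Cfsg.Agent.Lib.Helper8.OutGen2

set_option autoImplicit false

namespace Cfsg.Agent.Lib.Helper8

open Subgroup

section
variable {Ω : Type*} [Finite Ω] (G : Subgroup (Equiv.Perm Ω)) (α : MulAut G)

/-- the version of `exists_perm_of_aut` for a group with two orbits and some fixed points -/
theorem exists_perm_of_aut3 (p1 q1 p2 q2 : Ω)
    (h1 : ∀ x : G, (x : Equiv.Perm Ω) p1 = p1 ↔ ((α x : G) : Equiv.Perm Ω) q1 = q1)
    (h2 : ∀ x : G, (x : Equiv.Perm Ω) p2 = p2 ↔ ((α x : G) : Equiv.Perm Ω) q2 = q2)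
    (hΔ : ∀ ω, (∃ x : G, (x : Equiv.Perm Ω) p1 = ω) ∨ (∃ x : G, (x : Equiv.Perm Ω) p2 = ω) ∨
      (∀ x : G, (x : Equiv.Perm Ω) ω = ω))
    (hp : ∀ x y : G, (x : Equiv.Perm Ω) p1 ≠ (y : Equiv.Perm Ω) p2)
    (hq : ∀ x y : G, (x : Equiv.Perm Ω) q1 ≠ (y : Equiv.Perm Ω) q2)
    (hq1 : ¬ ∀ x : G, (x : Equiv.Perm Ω) q1 = q1) (hq2 : ¬ ∀ x : G, (x : Equiv.Perm Ω) q2 = q2) :
    ∃ π : Equiv.Perm Ω, (∀ x : G, ((α x : G) : Equiv.Perm Ω) = π * x * π⁻¹) ∧
      (∀ ω, (¬ ∃ x : G, (x : Equiv.Perm Ω) p1 = ω) → (¬ ∃ x : G, (x : Equiv.Perm Ω) p2 = ω) →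
        π ω = ω) ∧ π p1 = q1 := by
  classical
  let f : Ω → Ω := fun ω => if h : ∃ x : G, (x : Equiv.Perm Ω) p1 = ω then
    ((α h.choose : G) : Equiv.Perm Ω) q1 else if h' : ∃ x : G, (x : Equiv.Perm Ω) p2 = ω then
    ((α h'.choose : G) : Equiv.Perm Ω) q2 else ω
  have key1 : ∀ x : G, f ((x : Equiv.Perm Ω) p1) = ((α x : G) : Equiv.Perm Ω) q1 := by
    intro x
    have h : ∃ y : G, (y : Equiv.Perm Ω) p1 = (x : Equiv.Perm Ω) p1 := ⟨x, rfl⟩
    show (if h : ∃ y : G, (y : Equiv.Perm Ω) p1 = (x : Equiv.Perm Ω) p1 then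
      ((α h.choose : G) : Equiv.Perm Ω) q1 else _) = _
    rw [dif_pos h]
    exact (same_of_stab_iff G α h1 _ _).mp h.choose_spec
  have key2 : ∀ x : G, f ((x : Equiv.Perm Ω) p2) = ((α x : G) : Equiv.Perm Ω) q2 := by
    intro x
    have h0 : ¬ ∃ y : G, (y : Equiv.Perm Ω) p1 = (x : Equiv.Perm Ω) p2 := by
      rintro ⟨y, hy⟩; exact hp y x hy
    have h : ∃ y : G, (y : Equiv.Perm Ω) p2 = (x : Equiv.Perm Ω) p2 := ⟨x, rfl⟩
    show (if h : ∃ y : G, (y : Equiv.Perm Ω) p1 = (x : Equiv.Perm Ω) p2 then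
      ((α h.choose : G) : Equiv.Perm Ω) q1 else
        if h' : ∃ y : G, (y : Equiv.Perm Ω) p2 = (x : Equiv.Perm Ω) p2 then
      ((α h'.choose : G) : Equiv.Perm Ω) q2 else _) = _
    rw [dif_neg h0, dif_pos h]
    exact (same_of_stab_iff G α h2 _ _).mp h.choose_spec
  have out : ∀ ω, (¬ ∃ x : G, (x : Equiv.Perm Ω) p1 = ω) → (¬ ∃ x : G, (x : Equiv.Perm Ω) p2 = ω) →
      f ω = ω := by
    intro ω h h'
    show (if h : ∃ y : G, (y : Equiv.Perm Ω) p1 = ω then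
      ((α h.choose : G) : Equiv.Perm Ω) q1 else
        if h' : ∃ y : G, (y : Equiv.Perm Ω) p2 = ω then
      ((α h'.choose : G) : Equiv.Perm Ω) q2 else ω) = ω
    rw [dif_neg h, dif_neg h']
  -- a trichotomy with exclusive last case
  have tri : ∀ ω, (∃ x : G, (x : Equiv.Perm Ω) p1 = ω) ∨ (∃ x : G, (x : Equiv.Perm Ω) p2 = ω) ∨
      ((∀ x : G, (x : Equiv.Perm Ω) ω = ω) ∧ f ω = ω) := by
    intro ω
    by_cases a : ∃ x : G, (x : Equiv.Perm Ω) p1 = ω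
    · exact Or.inl a
    by_cases b : ∃ x : G, (x : Equiv.Perm Ω) p2 = ω
    · exact Or.inr (Or.inl b)
    · exact Or.inr (Or.inr ⟨((hΔ ω).resolve_left a).resolve_left b, out ω a b⟩)
  have equiv : ∀ (y : G) (ω : Ω), f ((y : Equiv.Perm Ω) ω) = ((α y : G) : Equiv.Perm Ω) (f ω) := by
    intro y ω
    rcases tri ω with ⟨x, rfl⟩ | ⟨x, rfl⟩ | ⟨hfix, hf⟩
    · have : (y : Equiv.Perm Ω) ((x : Equiv.Perm Ω) p1) = ((y * x : G) : Equiv.Perm Ω) p1 := rfl
      rw [this, key1, key1, map_mul]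
      rfl
    · have : (y : Equiv.Perm Ω) ((x : Equiv.Perm Ω) p2) = ((y * x : G) : Equiv.Perm Ω) p2 := rfl
      rw [this, key2, key2, map_mul]
      rfl
    · rw [hfix y, hf, hfix (α y)]
  have nofix : ∀ (q ω : Ω) (x : G), (¬ ∀ x : G, (x : Equiv.Perm Ω) q = q) →
      (∀ x : G, (x : Equiv.Perm Ω) ω = ω) → (x : Equiv.Perm Ω) q ≠ ω := by
    intro q ω x hq hfix e
    apply hq
    have hqω : q = ω := by
      have h2 := hfix x
      rw [← e] at h2
      exact ((x : Equiv.Perm Ω).injective h2).symm.trans e |>.symm ▸ rfl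
    intro y
    rw [hqω]; exact hfix y
  have inj : Function.Injective f := by
    intro ω ω' hf
    rcases tri ω with ⟨x, rfl⟩ | ⟨x, rfl⟩ | ⟨hfix, hfω⟩ <;>
      rcases tri ω' with ⟨x', rfl⟩ | ⟨x', rfl⟩ | ⟨hfix', hfω'⟩
    · rw [key1, key1] at hf
      exact (same_of_stab_iff G α h1 _ _).mpr hf
    · rw [key1, key2] at hf
      exact absurd hf (hq _ _)
    · rw [key1, hfω'] at hf
      exact absurd hf (nofix q1 ω' _ hq1 hfix')
    · rw [key2, key1] at hf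
      exact absurd hf.symm (hq _ _)
    · rw [key2, key2] at hf
      exact (same_of_stab_iff G α h2 _ _).mpr hf
    · rw [key2, hfω'] at hf
      exact absurd hf (nofix q2 ω' _ hq2 hfix')
    · rw [key1, hfω] at hf
      exact absurd hf.symm (nofix q1 ω _ hq1 hfix)
    · rw [key2, hfω] at hf
      exact absurd hf.symm (nofix q2 ω _ hq2 hfix)
    · rwa [hfω, hfω'] at hf
  have bij : Function.Bijective f := Finite.injective_iff_bijective.mp inj
  refine ⟨Equiv.ofBijective f bij, ?_, ?_, ?_⟩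
  · intro x
    ext ω
    rw [Equiv.Perm.mul_apply, Equiv.Perm.mul_apply]
    show _ = f ((x : Equiv.Perm Ω) _)
    rw [equiv]
    congr 1
    exact ((Equiv.ofBijective f bij).apply_symm_apply ω).symm
  · intro ω h h'
    exact out ω h h'
  · show f p1 = q1
    have := key1 1
    simpa using this

end

end Cfsg.Agent.Lib.Helper8
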