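import Cfsg.Agent.Lib.Helper8.M11Classes
import Cfsg.Agent.Lib.Helper8.OutGen3
import Cfsg.Agent.Lib.Helper8.OutData11

set_option autoImplicit false

namespace Cfsg.Agent.Lib.Helper8

open Cfsg
open scoped Pointwise

abbrev G11 : Subgroup (Equiv.Perm GolayPt) := GInv [2 ^ 0, 340831]

theorem G11_le : G11 ≤ G12 := GInv_mono (L0 := [340831]) (by simp)

theorem M11_eq : Spor.M11 = G11 := by
  ext x
  rw [M11_iff]
  constructor
  · rintro ⟨h1, h2⟩
    refine ⟨h1.1, ?_⟩
    intro m hm
    simp only [List.mem_cons, List.not_mem_nil, or_false] at hm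
    rcases hm with rfl | rfl
    · exact Inv.of_fix (by norm_num) h2
    · exact h1.2 _ (by simp)
  · intro h
    exact ⟨G11_le h, GInv_fix h (by norm_num) (by simp)⟩

/-- a subgroup acting faithfully on an invariant set `S` has order at most `|S|!` -/
theorem card_le_factorial' (K : Subgroup (Equiv.Perm GolayPt)) (S : Finset GolayPt)
    (hS : ∀ g ∈ K, ∀ a, g a ∈ S ↔ a ∈ S)
    (hone : ∀ g ∈ K, (∀ a ∈ S, g a = a) → g = 1) : Nat.card K ≤ S.card.factorial := by
  classical
  let φ : K → Equiv.Perm {a // a ∈ S} := fun g => (g : Equiv.Perm GolayPt).subtypePerm (hS g g.2)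
  have hφ : Function.Injective φ := by
    intro g g' e
    have e1 : ∀ a ∈ S, (g : Equiv.Perm GolayPt) a = (g' : Equiv.Perm GolayPt) a := by
      intro a ha
      have := congrArg (fun σ : Equiv.Perm {a // a ∈ S} => ((σ ⟨a, ha⟩ : {a // a ∈ S}) : GolayPt)) e
      exact this
    have h1 : ((g : Equiv.Perm GolayPt)⁻¹ * (g' : Equiv.Perm GolayPt)) = 1 := by
      apply hone _ (K.mul_mem (K.inv_mem g.2) g'.2)
      intro a ha
      rw [Equiv.Perm.mul_apply, Equiv.Perm.inv_eq_iff_eq]
      exact (e1 a ha).symm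
    apply Subtype.ext
    exact (inv_mul_eq_one.mp h1)
  have := Nat.card_le_card_of_injective φ hφ
  rwa [Nat.card_eq_fintype_card (α := Equiv.Perm {a // a ∈ S}), Fintype.card_perm,
    Fintype.card_coe] at this

theorem fixed_point_M11a (K : Subgroup (Equiv.Perm GolayPt)) (hK : K ≤ G11)
    (hc : Nat.card K = 720) : ∃ q, q ∈ D12 ∧ q ≠ pt 0 ∧ ∀ g ∈ K, g q = q := by
  classical
  have cD : D12.card = 12 := D0_mem.2
  have hKD : ∀ g ∈ K, ∀ a, g a ∈ D12 ↔ a ∈ D12 := fun g hg a => G12_mem_iff (G11_le (hK hg)) a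
  have hK0 : ∀ g ∈ K, g (pt 0) = pt 0 := fun g hg => GInv_fix (hK hg) (by norm_num) (by simp)
  have hKM : K ≤ M24 := fun g hg => (hK hg).1
  obtain ⟨x, hx, hox⟩ := exists_order K (r := 5) (by rw [hc]; norm_num)
  have hx5 : x ^ 5 = 1 := by rw [← hox]; exact pow_orderOf_eq_one x
  have hcx := fix5 x (hKM hx) hox
  have mD := invset_mod hx5 D12 (hKD x hx)
  have hle : (D12 ∩ fixF x).card ≤ 4 := by
    rw [← hcx]; exact Finset.card_le_card Finset.inter_subset_right
  rw [cD] at mD
  unfold Nat.ModEq at mD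
  have fD : (D12 ∩ fixF x).card = 2 := by omega
  obtain ⟨f, hf, hf0⟩ := Finset.exists_mem_ne (s := D12 ∩ fixF x) (by rw [fD]; norm_num) (pt 0)
  rw [Finset.mem_inter, mem_fixF] at hf
  -- the orbit of `f`
  have hsub : ∀ a ∈ MulAction.orbit K f, a ∈ D12 ∧ a ≠ pt 0 := by
    rintro _ ⟨g, rfl⟩
    refine ⟨(hKD g g.2 f).mpr hf.1, ?_⟩
    intro e
    apply hf0
    have : (g : Equiv.Perm GolayPt) f = (g : Equiv.Perm GolayPt) (pt 0) := by
      rw [hK0 g g.2]; exact e
    exact (g : Equiv.Perm GolayPt).injective this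
  have hint : (MulAction.orbit K f ∩ (fixF x : Set GolayPt)).ncard = 1 := by
    apply le_antisymm
    · have h2 : (MulAction.orbit K f ∩ (fixF x : Set GolayPt)) ⊆
          (((D12 ∩ fixF x).erase (pt 0) : Finset GolayPt) : Set GolayPt) := by
        rintro a ⟨ha, ha'⟩
        rw [Finset.mem_coe, Finset.mem_erase, Finset.mem_inter]
        exact ⟨(hsub a ha).2, (hsub a ha).1, ha'⟩
      have h3 := Set.ncard_le_ncard h2 (Finset.finite_toSet _)
      rw [Set.ncard_coe_finset, Finset.card_erase_of_mem (by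
        rw [Finset.mem_inter, mem_fixF]; exact ⟨pt0_mem_D, hK0 x hx⟩), fD] at h3
      exact h3
    · exact (Set.ncard_pos (Set.toFinite _)).mpr ⟨f, MulAction.mem_orbit_self f, mem_fixF.mpr hf.2⟩
  have m0 := orbit_mod K hx (r := 5) hx5 f
  rw [hint] at m0
  unfold Nat.ModEq at m0
  set Of : Finset GolayPt := (Set.toFinite (MulAction.orbit K f)).toFinset with hOf
  have hOfmem : ∀ a, a ∈ Of ↔ a ∈ MulAction.orbit K f := fun a => by
    rw [hOf, Set.Finite.mem_toFinset]
  have cOf : Of.card = (MulAction.orbit K f).ncard := by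
    rw [Set.ncard_eq_toFinset_card _ (Set.toFinite _)]
  have hOfsub : Of ⊆ D12.erase (pt 0) := by
    intro a ha
    rw [Finset.mem_erase]
    exact ⟨(hsub a ((hOfmem a).mp ha)).2, (hsub a ((hOfmem a).mp ha)).1⟩
  have c11 : (D12.erase (pt 0)).card = 11 := by
    rw [Finset.card_erase_of_mem pt0_mem_D, cD]
  have hle11 := Finset.card_le_card hOfsub
  rw [c11, cOf] at hle11
  have p0 := orbit_ncard_pos K f
  have s0 := card_step K f
  rw [hc] at s0
  have hA : (MulAction.orbit K f).ncard = 1 ∨ (MulAction.orbit K f).ncard = 6 ∨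
      (MulAction.orbit K f).ncard = 11 := by omega
  rcases hA with hA | hA | hA
  · exact ⟨f, hf.1, hf0, fixed_of_orbit_ncard_one K hA⟩
  · exfalso
    set S : Finset GolayPt := (D12.erase (pt 0)) \ Of with hS
    have cS : S.card = 5 := by
      rw [hS, Finset.card_sdiff_of_subset hOfsub, c11, cOf, hA]
    have hSD : S ⊆ D12 := fun a ha =>
      Finset.mem_of_mem_erase (Finset.mem_sdiff.mp ha).1
    have h0iff : ∀ g ∈ K, ∀ a, g a = pt 0 ↔ a = pt 0 := by
      intro g hg a
      constructor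
      · intro h
        apply g.injective
        rw [h, hK0 g hg]
      · intro h; rw [h, hK0 g hg]
    have := card_le_factorial' K S (by
      intro g hg a
      simp only [hS, Finset.mem_sdiff, Finset.mem_erase, hOfmem, apply_mem_orbit_iff K hg,
        hKD g hg, ne_eq, h0iff g hg]) (by
      intro g hg hfix
      by_contra hne
      have h4 : (D12 ∩ fixF g).card ≤ 4 := dod_fix_le D0_mem (hKM hg) ((hK hg).2 _ (by simp)) hne
      have h5 : S ⊆ D12 ∩ fixF g := by
        intro a ha
        rw [Finset.mem_inter, mem_fixF]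
        exact ⟨hSD ha, hfix a ha⟩
      have := Finset.card_le_card h5
      rw [cS] at this
      omega)
    rw [hc, cS] at this
    revert this; decide
  · exfalso; rw [hA] at s0; omega

theorem fixed_point_M11b (K : Subgroup (Equiv.Perm GolayPt)) (hK : K ≤ G11)
    (hc : Nat.card K = 660) : ∃ q, q ∉ D12 ∧ ∀ g ∈ K, g q = q := by
  classical
  set D : Finset GolayPt := setOf 340831 with hD
  set E : Finset GolayPt := Dᶜ with hE
  have cD : D.card = 12 := D0_mem.2
  have cE : E.card = 12 := by rw [hE, Finset.card_compl, card_Pt, cD]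
  have hKD : ∀ g ∈ K, ∀ a, g a ∈ D ↔ a ∈ D := fun g hg a => G12_mem_iff (G11_le (hK hg)) a
  have hKE : ∀ g ∈ K, ∀ a, g a ∈ E ↔ a ∈ E := by
    intro g hg a; rw [hE, Finset.mem_compl, Finset.mem_compl, hKD g hg]
  have hK0 : ∀ g ∈ K, g (pt 0) = pt 0 := fun g hg => GInv_fix (hK hg) (by norm_num) (by simp)
  have hKM : K ≤ M24 := fun g hg => (hK hg).1
  obtain ⟨x, hx, hox⟩ := exists_order K (r := 11) (by rw [hc]; norm_num)
  have hx11 : x ^ 11 = 1 := by rw [← hox]; exact pow_orderOf_eq_one x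
  have hcx := fix11 x (hKM hx) hox
  have mE := invset_mod hx11 E (hKE x hx)
  have hle : (E ∩ fixF x).card ≤ 2 := by
    rw [← hcx]; exact Finset.card_le_card Finset.inter_subset_right
  rw [cE] at mE
  unfold Nat.ModEq at mE
  have fE : (E ∩ fixF x).card = 1 := by omega
  obtain ⟨f', hf'⟩ := Finset.card_pos.mp (by rw [fE]; norm_num : 0 < (E ∩ fixF x).card)
  rw [Finset.mem_inter, mem_fixF] at hf'
  rcases orbit_one_or_twelve K E hKE cE hx hx11 fE hf'.1 hf'.2 with h | ⟨h12, htr⟩
  · exact ⟨f', Finset.mem_compl.mp hf'.1, fixed_of_orbit_ncard_one K h⟩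
  · exfalso
    obtain ⟨t, ht, hot⟩ := exists_order K (r := 2) (by rw [hc]; norm_num)
    have htM := hKM ht
    have htne : t ≠ 1 := by intro h; rw [h, orderOf_one] at hot; omega
    have htf : pt 0 ∈ fixF t := mem_fixF.mpr (hK0 t ht)
    have hoct : (fixF t).card = 8 := by
      rcases inv_fix htM hot with h | h
      · exact h.2
      · rw [h] at htf; simp at htf
    have h4 : (D ∩ fixF t).card ≤ 4 := dod_fix_le D0_mem htM ((hK ht).2 _ (by simp)) htne
    have hspt : (fixF t).card = (D ∩ fixF t).card + (E ∩ fixF t).card := split_fix t D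
    obtain ⟨a, ha⟩ := Finset.card_pos.mp (by omega : 0 < (E ∩ fixF t).card)
    rw [Finset.mem_inter, mem_fixF] at ha
    have horb : MulAction.orbit K a = MulAction.orbit K f' :=
      MulAction.orbit_eq_iff.mpr (htr a ha.1)
    have s1 := card_step K a
    rw [hc, horb, h12] at s1
    have c55 : Nat.card ↥(K ⊓ MulAction.stabilizer (Equiv.Perm GolayPt) a) = 55 := by omega
    have hmem : t ∈ K ⊓ MulAction.stabilizer (Equiv.Perm GolayPt) a := ⟨ht, ha.2⟩
    have hd := orderOf_dvd_natCard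
      (⟨t, hmem⟩ : ↥(K ⊓ MulAction.stabilizer (Equiv.Perm GolayPt) a))
    rw [Subgroup.orderOf_mk, hot, c55] at hd
    omega

end Cfsg.Agent.Lib.Helper8
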