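import Cfsg.Agent.Lib.Helper8.OutM11

set_option autoImplicit false

namespace Cfsg.Agent.Lib.Helper8

open Cfsg
open scoped Pointwise

theorem span11 : (basisL.zip coef11).all (fun x => Nat.beq (xorSel invO11 x.2) x.1) = true := by
  decide +kernel

theorem invs_check11 : (invT11.zip invO11).all (fun x => invTest [2 ^ 0, 340831] x.1 &&
    allBelow 24 (fun j => Nat.beq (itT x.1 2 j) j) &&
    allBelow 24 (fun j => (x.2.testBit j) == (Nat.beq (img x.1 j) j)) &&
    Nat.beq (popc x.2) 8) = true := by decide +kernel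

theorem invs_spec11 : ∀ b ∈ invO11, ∃ t ∈ G11, t ^ 2 = 1 ∧ fixF t = setOf b ∧
    (setOf b).card = 8 := by
  intro b hb
  obtain ⟨i, hi, rfl⟩ := List.getElem_of_mem hb
  have hi' : i < invT11.length := hi
  have hz : (invT11[i], invO11[i]) ∈ invT11.zip invO11 := by
    have : (invT11.zip invO11)[i]'(by simp [List.length_zip]; exact ⟨hi', hi⟩) =
      (invT11[i], invO11[i]) := List.getElem_zip
    rw [← this]; exact List.getElem_mem _
  have h := List.all_eq_true.mp invs_check11 _ hz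
  simp only [Bool.and_eq_true] at h
  obtain ⟨⟨⟨h1, h2⟩, h3⟩, h4⟩ := h
  obtain ⟨hv, hm⟩ := toPerm_mem_GInv h1
  refine ⟨toPerm invT11[i], hm, ?_, fixF_toPerm hv h3, ?_⟩
  · ext x : 1
    rw [← pt_idx x, toPerm_pow_pt hv (idx_lt x),
      Nat.eq_of_beq_eq_true (of_allBelow h2 _ (idx_lt x))]
    rfl
  · rw [card_setOf]; exact Nat.eq_of_beq_eq_true h4

theorem mem_M24_of_norm11 (π : Equiv.Perm GolayPt)
    (h : ∀ x ∈ G11, π * x * π⁻¹ ∈ M24) : π ∈ M24 := by
  apply mem_M24_of_sub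
  intro A hA
  refine CS_induction_list invO11 coef11 rfl span11 (fun A => π • A ∈ CS) ?_ ?_ ?_ hA
  · simpa using empty_mem_CS
  · intro a b ha hb
    rw [smul_symmDiff']
    exact symmDiff_mem_supports ha hb
  · intro b hb
    obtain ⟨t, ht, t2, tf, tc⟩ := invs_spec11 b hb
    have hM := h t ht
    have hne : π * t * π⁻¹ ≠ 1 := by
      intro e
      have : t = 1 := by
        have : t = π⁻¹ * (π * t * π⁻¹) * π := by group
        rw [this, e]; group
      rw [this] at tf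
      have h24 : (fixF (1 : Equiv.Perm GolayPt)).card = 24 := by
        have : fixF (1 : Equiv.Perm GolayPt) = Finset.univ := by
          ext a; simp [mem_fixF]
        rw [this, card_pts]
      rw [tf, tc] at h24
      omega
    have ho : orderOf (π * t * π⁻¹) = 2 :=
      orderOf_eq_prime (by rw [conj_pow', t2]; group) hne
    rcases inv_fix hM ho with h1 | h1
    · rw [fixF_conj, tf] at h1
      exact h1.1
    · exfalso
      rw [fixF_conj, tf, Finset.smul_finset_eq_empty] at h1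
      rw [h1] at tc
      simp at tc

theorem G11_iff {x : Equiv.Perm GolayPt} : x ∈ G11 ↔ x ∈ G12 ∧ x (pt 0) = pt 0 := by
  rw [← M11_eq, M11_iff]

theorem G11_transD {a : GolayPt} (ha : a ∈ D12) (h0 : a ≠ pt 0) : ∃ x ∈ G11, x (pt 1) = a := by
  obtain ⟨g, hg, h⟩ := level_trans m12c1 (idx a) (idx_lt a)
    (tbD1 _ (idx_lt a) (mem_setOf.mp ha) (idx_ne h0))
  exact ⟨g, hg, by rw [h, pt_idx]⟩

theorem G11_transE {a : GolayPt} (ha : a ∉ D12) : ∃ x ∈ G11, x (pt 23) = a := by
  obtain ⟨g, hg, h⟩ := level_trans m11o0 (idx a) (idx_lt a)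
    (tbC0 _ (idx_lt a) (fun h => ha (mem_setOf.mpr h)))
  exact ⟨g, hg, by rw [h, pt_idx]⟩

theorem stab1_map11 :
    (MulAction.stabilizer G11 (pt 1)).map G11.subtype = GInv [2 ^ 1, 2 ^ 0, 340831] := by
  ext x
  constructor
  · rintro ⟨y, hy, rfl⟩
    refine ⟨y.2.1, ?_⟩
    intro m hm
    simp only [List.mem_cons, List.not_mem_nil, or_false] at hm
    rcases hm with rfl | rfl | rfl
    · exact Inv.of_fix (by norm_num) hy
    · exact y.2.2 _ (by simp)
    · exact y.2.2 _ (by simp)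
  · intro hx
    exact ⟨⟨x, GInv_mono (L0 := [2 ^ 0, 340831]) (by simp) hx⟩,
      GInv_fix hx (by norm_num) (by simp), rfl⟩

theorem stab23_map11 :
    (MulAction.stabilizer G11 (pt 23)).map G11.subtype = GInv [2 ^ 23, 2 ^ 0, 340831] := by
  ext x
  constructor
  · rintro ⟨y, hy, rfl⟩
    refine ⟨y.2.1, ?_⟩
    intro m hm
    simp only [List.mem_cons, List.not_mem_nil, or_false] at hm
    rcases hm with rfl | rfl | rfl
    · exact Inv.of_fix (by norm_num) hy
    · exact y.2.2 _ (by simp)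
    · exact y.2.2 _ (by simp)
  · intro hx
    exact ⟨⟨x, GInv_mono (L0 := [2 ^ 0, 340831]) (by simp) hx⟩,
      GInv_fix hx (by norm_num) (by simp), rfl⟩

theorem card_L11 : Nat.card (GInv [2 ^ 23, 2 ^ 0, 340831]) = 660 := by
  have h := level_card m11o0
  rw [card_D1] at h
  have e : popc 16436384 = 12 := by decide +kernel
  rw [e] at h
  omega

theorem pt1_mem_D : pt 1 ∈ D12 := (pt_mem_setOf (by norm_num) _).mpr (by decide)

theorem inner_G11 (α : MulAut G11) : α ∈ (MulAut.conj : G11 →* MulAut G11).range := by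
  have memD : ∀ x : G11, ∀ a, (x : Equiv.Perm GolayPt) a ∈ D12 ↔ a ∈ D12 :=
    fun x a => G12_mem_iff (G11_le x.2) a
  have fix0 : ∀ x : G11, (x : Equiv.Perm GolayPt) (pt 0) = pt 0 :=
    fun x => GInv_fix x.2 (by norm_num) (by simp)
  -- first orbit
  set K1 : Subgroup (Equiv.Perm GolayPt) :=
    ((MulAction.stabilizer G11 (pt 1)).map α.toMonoidHom).map G11.subtype with hK1
  have hK1G : K1 ≤ G11 := by
    rintro _ ⟨y, _, rfl⟩; exact y.2
  have hK1c : Nat.card K1 = 720 := by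
    rw [hK1, Subgroup.card_map_of_injective G11.subtype_injective,
      Subgroup.card_map_of_injective α.injective, ← card_D2, ← stab1_map11,
      Subgroup.card_map_of_injective G11.subtype_injective]
  obtain ⟨q1, hq1D, hq10, hq1⟩ := fixed_point_M11a K1 hK1G hK1c
  obtain ⟨y1, hy1, ey1⟩ := G11_transD hq1D hq10
  have h1 := stab_iff_of_fixed G11 α (pt 1) q1 ⟨⟨y1, hy1⟩, ey1⟩ (by
    intro x hx
    apply hq1
    exact ⟨α x, ⟨x, hx, rfl⟩, rfl⟩)
  -- second orbit
  set K2 : Subgroup (Equiv.Perm GolayPt) :=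
    ((MulAction.stabilizer G11 (pt 23)).map α.toMonoidHom).map G11.subtype with hK2
  have hK2G : K2 ≤ G11 := by
    rintro _ ⟨y, _, rfl⟩; exact y.2
  have hK2c : Nat.card K2 = 660 := by
    rw [hK2, Subgroup.card_map_of_injective G11.subtype_injective,
      Subgroup.card_map_of_injective α.injective, ← card_L11, ← stab23_map11,
      Subgroup.card_map_of_injective G11.subtype_injective]
  obtain ⟨q2, hq2D, hq2⟩ := fixed_point_M11b K2 hK2G hK2c
  obtain ⟨y2, hy2, ey2⟩ := G11_transE hq2D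
  have h2 := stab_iff_of_fixed G11 α (pt 23) q2 ⟨⟨y2, hy2⟩, ey2⟩ (by
    intro x hx
    apply hq2
    exact ⟨α x, ⟨x, hx, rfl⟩, rfl⟩)
  have hΔ : ∀ ω, (∃ x : G11, (x : Equiv.Perm GolayPt) (pt 1) = ω) ∨
      (∃ x : G11, (x : Equiv.Perm GolayPt) (pt 23) = ω) ∨
      (∀ x : G11, (x : Equiv.Perm GolayPt) ω = ω) := by
    intro ω
    by_cases hω : ω ∈ D12
    · by_cases h0 : ω = pt 0
      · right; right; intro x; rw [h0]; exact fix0 x
      · left; obtain ⟨x, hx, e⟩ := G11_transD hω h0; exact ⟨⟨x, hx⟩, e⟩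
    · right; left; obtain ⟨x, hx, e⟩ := G11_transE hω; exact ⟨⟨x, hx⟩, e⟩
  have hp : ∀ x y : G11, (x : Equiv.Perm GolayPt) (pt 1) ≠ (y : Equiv.Perm GolayPt) (pt 23) := by
    intro x y e
    have h1 : (x : Equiv.Perm GolayPt) (pt 1) ∈ D12 := (memD x _).mpr pt1_mem_D
    rw [e, memD y] at h1
    exact pt23_notMem_D h1
  have hq : ∀ x y : G11, (x : Equiv.Perm GolayPt) q1 ≠ (y : Equiv.Perm GolayPt) q2 := by
    intro x y e
    have h1 : (x : Equiv.Perm GolayPt) q1 ∈ D12 := (memD x _).mpr hq1D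
    rw [e, memD y] at h1
    exact hq2D h1
  have moves : ∀ b : GolayPt, b ≠ pt 0 → ¬ ∀ x : G11, (x : Equiv.Perm GolayPt) b = b := by
    intro b hb hall
    obtain ⟨w, hw, w0, wb⟩ := M11_moves hb
    exact wb (hall ⟨w, G11_iff.mpr ⟨hw, w0⟩⟩)
  obtain ⟨π, hπ, hπfix, hπ1⟩ := exists_perm_of_aut3 G11 α (pt 1) q1 (pt 23) q2 h1 h2 hΔ hp hq
    (moves q1 hq10) (moves q2 (fun h => hq2D (h ▸ pt0_mem_D)))
  have hπ0 : π (pt 0) = pt 0 := by
    apply hπfix
    · rintro ⟨x, hx⟩
      have := fix0 x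
      rw [← hx] at this
      have h3 := (x : Equiv.Perm GolayPt).injective this
      rw [hx] at h3
      have := congrArg idx h3
      rw [idx_pt (by norm_num), idx_pt (by norm_num)] at this
      omega
    · rintro ⟨x, hx⟩
      have : (x : Equiv.Perm GolayPt) (pt 23) ∈ D12 := by rw [hx]; exact pt0_mem_D
      rw [memD x] at this
      exact pt23_notMem_D this
  have hπM : π ∈ M24 := by
    apply mem_M24_of_norm11
    intro x hx
    rw [← hπ ⟨x, hx⟩]
    exact (α ⟨x, hx⟩).2.1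
  have hπD : π • D12 = D12 := by
    apply Finset.eq_of_subset_of_card_le
    · intro b hb
      obtain ⟨a, ha, rfl⟩ := Finset.mem_smul_finset.mp hb
      show π a ∈ D12
      by_cases h0 : a = pt 0
      · rw [h0, hπ0]; exact pt0_mem_D
      · obtain ⟨x, hx, rfl⟩ := G11_transD ha h0
        have e : π (x (pt 1)) = (π * x * π⁻¹) (π (pt 1)) := by simp [Equiv.Perm.mul_apply]
        rw [e, ← hπ ⟨x, hx⟩, hπ1, memD]
        exact hq1D
    · rw [Finset.card_smul_finset]
  refine ⟨⟨π, G11_iff.mpr ⟨G12_iff.mpr ⟨hπM, hπD⟩, hπ0⟩⟩, ?_⟩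
  ext x : 1
  apply Subtype.ext
  rw [hπ x]
  rfl

theorem card_out_M11 :
    Nat.card (MulAut Spor.M11 ⧸ (MulAut.conj : Spor.M11 →* MulAut Spor.M11).range) = 1 := by
  rw [M11_eq]
  exact card_out_eq_one inner_G11

end Cfsg.Agent.Lib.Helper8
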