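import Cfsg.Agent.Lib.Helper8.Coset4
import Cfsg.Agent.Lib.Helper8.Elusive
import Cfsg.Agent.Lib.Helper8.OutFin
import Cfsg.Agent.Lib.Helper8.OutGen2

set_option autoImplicit false

namespace Cfsg.Agent.Lib.Helper8

open Cfsg
open scoped Pointwise

/-- fixed points in an invariant set, for elements of prime power order -/
theorem invset_mod_pow {x : Equiv.Perm GolayPt} {r n : ℕ} [Fact r.Prime] (hxr : x ^ r ^ n = 1)
    (E : Finset GolayPt) (hE : ∀ a, x a ∈ E ↔ a ∈ E) :
    E.card ≡ (E ∩ fixF x).card [MOD r] := by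
  classical
  set σ : Equiv.Perm {a // a ∈ E} := x.subtypePerm hE with hσ
  have hσr : σ ^ r ^ n = 1 := by
    rw [hσ, Equiv.Perm.subtypePerm_pow]
    ext a
    simp [hxr]
  have h1 := Equiv.Perm.card_compl_support_modEq hσr
  have h2 : Fintype.card {a // a ∈ E} = E.card := Fintype.card_coe E
  have h3 : σ.supportᶜ.card = (E ∩ fixF x).card := by
    have : (E ∩ fixF x) = σ.supportᶜ.map ⟨Subtype.val, Subtype.val_injective⟩ := by
      ext a
      simp only [Finset.mem_inter, mem_fixF, Finset.mem_map, Finset.mem_compl,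
        Equiv.Perm.mem_support, not_not, Function.Embedding.coeFn_mk, Subtype.exists,
        exists_and_right, exists_eq_right]
      constructor
      · rintro ⟨ha, hxa⟩
        exact ⟨ha, Subtype.ext hxa⟩
      · rintro ⟨ha, hxa⟩
        exact ⟨ha, congrArg Subtype.val hxa⟩
    rw [this, Finset.card_map]
  rw [h2, h3] at h1
  exact h1.symm

theorem orbit_one_or_twelve (H : Subgroup (Equiv.Perm GolayPt)) (S : Finset GolayPt)
    (hS : ∀ g ∈ H, ∀ a, g a ∈ S ↔ a ∈ S) (cS : S.card = 12) {x : Equiv.Perm GolayPt} (hx : x ∈ H)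
    (hx11 : x ^ 11 = 1) (h1 : (S ∩ fixF x).card = 1) {ω : GolayPt} (hω : ω ∈ S) (hxω : x ω = ω) :
    (MulAction.orbit H ω).ncard = 1 ∨
      ((MulAction.orbit H ω).ncard = 12 ∧ ∀ a ∈ S, a ∈ MulAction.orbit H ω) := by
  have hsub : MulAction.orbit H ω ⊆ (S : Set GolayPt) := by
    rintro _ ⟨g, rfl⟩
    exact (hS g g.2 ω).mpr hω
  have hle : (MulAction.orbit H ω).ncard ≤ 12 := by
    rw [← cS, ← Set.ncard_coe_finset]
    exact Set.ncard_le_ncard hsub (Finset.finite_toSet S)
  have m0 := orbit_mod H hx (r := 11) hx11 ω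
  have hint : (MulAction.orbit H ω ∩ (fixF x : Set GolayPt)).ncard = 1 := by
    apply le_antisymm
    · rw [← h1, ← Set.ncard_coe_finset, Finset.coe_inter]
      exact Set.ncard_le_ncard (Set.inter_subset_inter_left _ hsub) (Set.toFinite _)
    · exact (Set.ncard_pos (Set.toFinite _)).mpr ⟨ω, MulAction.mem_orbit_self ω, mem_fixF.mpr hxω⟩
  rw [hint] at m0
  unfold Nat.ModEq at m0
  have p0 := orbit_ncard_pos H ω
  have : (MulAction.orbit H ω).ncard = 1 ∨ (MulAction.orbit H ω).ncard = 12 := by omega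
  rcases this with h | h
  · left; exact h
  · right
    refine ⟨h, ?_⟩
    have heq : MulAction.orbit H ω = (S : Set GolayPt) :=
      Set.eq_of_subset_of_ncard_le hsub (by rw [Set.ncard_coe_finset, cS, h])
        (Finset.finite_toSet S)
    intro a ha
    rw [heq]; exact ha

theorem split_fix (g : Equiv.Perm GolayPt) (S : Finset GolayPt) :
    (fixF g).card = (S ∩ fixF g).card + (Sᶜ ∩ fixF g).card := by
  rw [Finset.inter_comm, Finset.inter_comm _ (fixF g), ← Finset.sdiff_eq_inter_compl,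
    Finset.card_inter_add_card_sdiff]

theorem fixed_point_M12 (K : Subgroup (Equiv.Perm GolayPt)) (hK : K ≤ GInv [340831])
    (hc : Nat.card K = 7920) (h8 : ∃ u ∈ K, orderOf u = 8) : ∃ q, ∀ g ∈ K, g q = q := by
  classical
  set D : Finset GolayPt := setOf 340831 with hD
  set E : Finset GolayPt := Dᶜ with hE
  have cD : D.card = 12 := D0_mem.2
  have cE : E.card = 12 := by rw [hE, Finset.card_compl, card_Pt, cD]
  have hKD : ∀ g ∈ K, ∀ a, g a ∈ D ↔ a ∈ D := fun g hg a => GInv_apply_mem (hK hg) (by simp)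
  have hKE : ∀ g ∈ K, ∀ a, g a ∈ E ↔ a ∈ E := by
    intro g hg a; rw [hE, Finset.mem_compl, Finset.mem_compl, hKD g hg]
  have hKM : K ≤ M24 := fun g hg => (hK hg).1
  obtain ⟨x, hx, hox⟩ := exists_order K (r := 11) (by rw [hc]; norm_num)
  have hx11 : x ^ 11 = 1 := by rw [← hox]; exact pow_orderOf_eq_one x
  have hcx := fix11 x (hKM hx) hox
  have mD := invset_mod hx11 D (hKD x hx)
  have mE := invset_mod hx11 E (hKE x hx)
  have hsp : (fixF x).card = (D ∩ fixF x).card + (E ∩ fixF x).card := split_fix x D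
  rw [cD] at mD; rw [cE] at mE
  unfold Nat.ModEq at mD mE
  have fD : (D ∩ fixF x).card = 1 := by omega
  have fE : (E ∩ fixF x).card = 1 := by omega
  obtain ⟨f, hf⟩ := Finset.card_pos.mp (by rw [fD]; norm_num : 0 < (D ∩ fixF x).card)
  obtain ⟨f', hf'⟩ := Finset.card_pos.mp (by rw [fE]; norm_num : 0 < (E ∩ fixF x).card)
  rw [Finset.mem_inter, mem_fixF] at hf hf'
  rcases orbit_one_or_twelve K D hKD cD hx hx11 fD hf.1 hf.2 with h | ⟨hD12, hDtr⟩
  · exact ⟨f, fixed_of_orbit_ncard_one K h⟩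
  rcases orbit_one_or_twelve K E hKE cE hx hx11 fE hf'.1 hf'.2 with h | ⟨hE12, hEtr⟩
  · exact ⟨f', fixed_of_orbit_ncard_one K h⟩
  exfalso
  set Kf := K ⊓ MulAction.stabilizer (Equiv.Perm GolayPt) f with hKf
  set Kf' := K ⊓ MulAction.stabilizer (Equiv.Perm GolayPt) f' with hKf'
  have cKf : Nat.card Kf = 660 := by
    have : Nat.card K = (MulAction.orbit K f).ncard * Nat.card Kf := card_step K f
    rw [hc, hD12] at this; omega
  have cKf' : Nat.card Kf' = 660 := by
    have : Nat.card K = (MulAction.orbit K f').ncard * Nat.card Kf' := card_step K f'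
    rw [hc, hE12] at this; omega
  have hxKf : x ∈ Kf := ⟨hx, hf.2⟩
  have hKfE : ∀ g ∈ Kf, ∀ a, g a ∈ E ↔ a ∈ E := fun g hg => hKE g hg.1
  rcases orbit_one_or_twelve Kf E hKfE cE hxKf hx11 fE hf'.1 hf'.2 with h1 | ⟨h12, htr⟩
  · have hfix := fixed_of_orbit_ncard_one Kf h1
    have hle : Kf ≤ Kf' := fun g hg => ⟨hg.1, hfix g hg⟩
    have heq : Kf = Kf' := Subgroup.eq_of_le_of_card_ge hle (by rw [cKf, cKf'])
    have hiff : ∀ g ∈ K, g f = f ↔ g f' = f' := by
      intro g hg
      constructor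
      · intro h; exact hfix g ⟨hg, h⟩
      · intro h
        have : g ∈ Kf' := ⟨hg, h⟩
        rw [← heq] at this
        exact this.2
    obtain ⟨u, hu, hou⟩ := h8
    have hcu := fix8 u (hKM hu) hou
    have hu8 : u ^ 2 ^ 3 = 1 := by
      rw [show 2 ^ 3 = 8 from rfl, ← hou]; exact pow_orderOf_eq_one u
    have pD := invset_mod_pow hu8 D (hKD u hu)
    have pE := invset_mod_pow hu8 E (hKE u hu)
    have hspu : (fixF u).card = (D ∩ fixF u).card + (E ∩ fixF u).card := split_fix u D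
    have tr : ∀ k ∈ K, (u (k f) = k f ↔ u (k f') = k f') := by
      intro k hk
      have := hiff (k⁻¹ * u * k) (K.mul_mem (K.mul_mem (K.inv_mem hk) hu) hk)
      simp only [Equiv.Perm.mul_apply, Equiv.Perm.inv_eq_iff_eq] at this
      exact this
    have both : 0 < (D ∩ fixF u).card ↔ 0 < (E ∩ fixF u).card := by
      constructor
      · intro h
        obtain ⟨a, ha⟩ := Finset.card_pos.mp h
        rw [Finset.mem_inter, mem_fixF] at ha
        obtain ⟨k, rfl⟩ := hDtr a ha.1
        apply Finset.card_pos.mpr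
        refine ⟨(k : Equiv.Perm GolayPt) f', ?_⟩
        rw [Finset.mem_inter, mem_fixF]
        exact ⟨(hKE k k.2 f').mpr hf'.1, (tr k k.2).mp ha.2⟩
      · intro h
        obtain ⟨a, ha⟩ := Finset.card_pos.mp h
        rw [Finset.mem_inter, mem_fixF] at ha
        obtain ⟨k, rfl⟩ := hEtr a ha.1
        apply Finset.card_pos.mpr
        refine ⟨(k : Equiv.Perm GolayPt) f, ?_⟩
        rw [Finset.mem_inter, mem_fixF]
        exact ⟨(hKD k k.2 f).mpr hf.1, (tr k k.2).mpr ha.2⟩
    rw [cD] at pD; rw [cE] at pE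
    unfold Nat.ModEq at pD pE
    omega
  · obtain ⟨t, ht, hot⟩ := exists_order Kf (r := 2) (by rw [cKf]; norm_num)
    have htM := hKM ht.1
    have htne : t ≠ 1 := by intro h; rw [h, orderOf_one] at hot; omega
    have htf : f ∈ fixF t := mem_fixF.mpr ht.2
    have hoct : (fixF t).card = 8 := by
      rcases inv_fix htM hot with h | h
      · exact h.2
      · rw [h] at htf; simp at htf
    have h4 : (D ∩ fixF t).card ≤ 4 := dod_fix_le D0_mem htM ((hK ht.1).2 _ (by simp)) htne
    have hspt : (fixF t).card = (D ∩ fixF t).card + (E ∩ fixF t).card := split_fix t D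
    obtain ⟨a, ha⟩ := Finset.card_pos.mp (by omega : 0 < (E ∩ fixF t).card)
    rw [Finset.mem_inter, mem_fixF] at ha
    have horb : MulAction.orbit Kf a = MulAction.orbit Kf f' :=
      MulAction.orbit_eq_iff.mpr (htr a ha.1)
    have s1 := card_step Kf a
    rw [cKf, horb, h12] at s1
    have c55 : Nat.card ↥(Kf ⊓ MulAction.stabilizer (Equiv.Perm GolayPt) a) = 55 := by omega
    have hmem : t ∈ Kf ⊓ MulAction.stabilizer (Equiv.Perm GolayPt) a := ⟨ht, ha.2⟩
    have hd := orderOf_dvd_natCard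
      (⟨t, hmem⟩ : ↥(Kf ⊓ MulAction.stabilizer (Equiv.Perm GolayPt) a))
    rw [Subgroup.orderOf_mk, hot, c55] at hd
    omega

end Cfsg.Agent.Lib.Helper8
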