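import Cfsg.Agent.Lib.Helper8.OutM22b

set_option autoImplicit false

namespace Cfsg.Agent.Lib.Helper8

open Cfsg
open scoped Pointwise

abbrev tau : Equiv.Perm GolayPt := Equiv.swap (pt 23) (pt 0)

theorem tau_smul_both {A : Finset GolayPt} (h1 : pt 23 ∈ A) (h2 : pt 0 ∈ A) : tau • A = A := by
  ext a
  rw [← Finset.inv_smul_mem_iff, Equiv.swap_inv, Equiv.Perm.smul_def]
  by_cases ha : a = pt 23
  · subst ha; rw [Equiv.swap_apply_left]; exact ⟨fun _ => h1, fun _ => h2⟩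
  by_cases hb : a = pt 0
  · subst hb; rw [Equiv.swap_apply_right]; exact ⟨fun _ => h2, fun _ => h1⟩
  rw [Equiv.swap_apply_of_ne_of_ne ha hb]

theorem tau_smul_one {A : Finset GolayPt} (h1 : pt 23 ∈ A) (h2 : pt 0 ∉ A) :
    tau • A = symmDiff A {pt 23, pt 0} := by
  ext a
  rw [← Finset.inv_smul_mem_iff, Equiv.swap_inv, Equiv.Perm.smul_def, Finset.mem_symmDiff]
  by_cases ha : a = pt 23
  · subst ha; rw [Equiv.swap_apply_left]; simp [h1, h2]
  by_cases hb : a = pt 0
  · subst hb; rw [Equiv.swap_apply_right]; simp [h1, h2]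
  rw [Equiv.swap_apply_of_ne_of_ne ha hb]; simp [ha, hb]

theorem tau_conj {y : Equiv.Perm GolayPt} (h23 : y (pt 23) = pt 23) (h0 : y (pt 0) = pt 0) :
    tau * y * tau⁻¹ = y := by
  have e : tau = y * tau * y⁻¹ := by
    rw [← Equiv.swap_apply_apply, h23, h0]
  rw [mul_inv_eq_iff_eq_mul]
  exact (eq_mul_inv_iff_mul_eq.mp e)

theorem mem_M24_of_sub (π : Equiv.Perm GolayPt) (h : ∀ A ∈ CS, π • A ∈ CS) : π ∈ M24 := by
  show π • CS = CS
  have hsub : π • CS ⊆ CS := by
    rintro _ ⟨A, hA, rfl⟩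
    exact h A hA
  have hfin : CS.Finite := Set.toFinite _
  apply Set.eq_of_subset_of_ncard_le hsub _ hfin
  have : (π • CS).ncard = CS.ncard :=
    Set.ncard_image_of_injective _ (MulAction.injective π)
  rw [this]

theorem octO1_props : isOct octO1 = true ∧ octO1.testBit 23 = true ∧ octO1.testBit 0 = false := by
  decide +kernel

theorem normalizer_M22 (π : Equiv.Perm GolayPt) (h23 : π (pt 23) = pt 23) (h0 : π (pt 0) = pt 0)
    (h : ∀ O ∈ octads, pt 23 ∈ O → pt 0 ∈ O → π • O ∈ octads) :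
    π ∈ M24 ∨ tau * π ∈ M24 := by
  set H : Set (Finset GolayPt) := {O | O ∈ octads ∧ pt 23 ∈ O ∧ pt 0 ∈ O} with hH
  have hmaps : ∀ O ∈ H, π • O ∈ H := by
    rintro O ⟨h1, h2, h3⟩
    refine ⟨h O h1 h2 h3, ?_, ?_⟩
    · rw [← h23, apply_mem_smul_iff]; exact h2
    · rw [← h0, apply_mem_smul_iff]; exact h3
  have hsurj : ∀ O' ∈ H, ∃ O ∈ H, π • O = O' := by
    have hfin : H.Finite := Set.toFinite _
    have himg : (fun O => π • O) '' H = H := by
      apply Set.eq_of_subset_of_ncard_le _ _ hfin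
      · rintro _ ⟨O, hO, rfl⟩; exact hmaps O hO
      · rw [Set.ncard_image_of_injective _ (MulAction.injective π)]
    intro O' hO'
    rw [← himg] at hO'
    obtain ⟨O, hO, e⟩ := hO'
    exact ⟨O, hO, e⟩
  have hO1 : setOf octO1 ∈ octads := setOf_mem_octads octO1_props.1
  have m23 : pt 23 ∈ setOf octO1 := (pt_mem_setOf (by norm_num) _).mpr octO1_props.2.1
  have m0 : pt 0 ∉ setOf octO1 := by
    rw [pt_mem_setOf (by norm_num), octO1_props.2.2]; simp
  have hev : ∀ b ∈ octB22, Even ((π • setOf octO1) ∩ setOf b).card := by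
    intro b hb
    have := List.all_eq_true.mp octB22_isOct _ hb
    rw [Bool.and_eq_true, Bool.and_eq_true] at this
    obtain ⟨O, hO, e⟩ := hsurj (setOf b) ⟨setOf_mem_octads this.1.1,
      (pt_mem_setOf (by norm_num) b).mpr this.1.2, (pt_mem_setOf (by norm_num) b).mpr this.2⟩
    rw [← e, ← Finset.smul_finset_inter, Finset.card_smul_finset]
    exact even_inter_CS hO1.1 hO.1.1
  rcases dual22 _ hev with hX | hX
  · left
    apply mem_M24_of_sub
    intro A hA
    refine CS_induction22 (fun A => π • A ∈ CS) ?_ ?_ ?_ hX hA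
    · simpa using empty_mem_CS
    · intro a b ha hb
      rw [smul_symmDiff']
      exact symmDiff_mem_supports ha hb
    · intro o ho h1 h2
      exact (h o ho h1 h2).1
  · right
    apply mem_M24_of_sub
    intro A hA
    refine CS_induction22 (fun A => (tau * π) • A ∈ CS) ?_ ?_ ?_ ?_ hA
    · simpa using empty_mem_CS
    · intro a b ha hb
      rw [smul_symmDiff']
      exact symmDiff_mem_supports ha hb
    · intro o ho h1 h2
      have hm := hmaps o ⟨ho, h1, h2⟩
      show (tau * π) • o ∈ CS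
      rw [mul_smul, tau_smul_both hm.2.1 hm.2.2]
      exact hm.1.1
    · show (tau * π) • setOf octO1 ∈ CS
      rw [mul_smul, tau_smul_one (by rw [← h23, apply_mem_smul_iff]; exact m23)
        (by rw [← h0, apply_mem_smul_iff]; exact m0)]
      exact hX

theorem pt0_eq : pt 0 = some 0 := rfl

theorem M22_iff {x : Equiv.Perm GolayPt} :
    x ∈ Spor.M22 ↔ x ∈ M24 ∧ x (pt 23) = pt 23 ∧ x (pt 0) = pt 0 :=
  ⟨fun h => ⟨h.1.1, h.1.2, h.2⟩, fun h => ⟨⟨h.1, h.2.1⟩, h.2.2⟩⟩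

/-- membership in the setwise stabiliser of the two points -/
def isN (n : Equiv.Perm GolayPt) : Prop :=
  n ∈ M24 ∧ ((n (pt 23) = pt 23 ∧ n (pt 0) = pt 0) ∨ (n (pt 23) = pt 0 ∧ n (pt 0) = pt 23))

theorem aut_M22 (α : MulAut Spor.M22) :
    ∃ n, isN n ∧ ∀ x : Spor.M22, ((α x : Spor.M22) : Equiv.Perm GolayPt) = n * x * n⁻¹ := by
  have hG : ∀ x : Spor.M22, (x : Equiv.Perm GolayPt) ∈ M24 ∧
      (x : Equiv.Perm GolayPt) (pt 23) = pt 23 ∧ (x : Equiv.Perm GolayPt) (pt 0) = pt 0 :=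
    fun x => M22_iff.mp x.2
  have hG' : ∀ x : Equiv.Perm GolayPt, x ∈ M24 → x (pt 23) = pt 23 → x (pt 0) = pt 0 →
      x ∈ Spor.M22 := fun x h1 h2 h3 => M22_iff.mpr ⟨h1, h2, h3⟩
  set p0 : GolayPt := pt 1 with hp0
  set K : Subgroup (Equiv.Perm GolayPt) :=
    ((MulAction.stabilizer Spor.M22 p0).map α.toMonoidHom).map Spor.M22.subtype with hK
  have hKM : K ≤ M24 := by
    rintro _ ⟨y, _, rfl⟩; exact (hG y).1
  have hst : (MulAction.stabilizer Spor.M22 p0).map Spor.M22.subtype =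
      GInv [2 ^ 1, 2 ^ 0, 2 ^ 23] := by
    ext x
    constructor
    · rintro ⟨y, hy, rfl⟩
      refine ⟨(hG y).1, ?_⟩
      intro m hm
      simp only [List.mem_cons, List.not_mem_nil, or_false] at hm
      rcases hm with rfl | rfl | rfl
      · exact Inv.of_fix (by norm_num) hy
      · exact Inv.of_fix (by norm_num) (hG y).2.2
      · exact Inv.of_fix (by norm_num) (hG y).2.1
    · intro hx
      exact ⟨⟨x, hG' x hx.1 (GInv_fix hx (by norm_num) (by simp))
        (GInv_fix hx (by norm_num) (by simp))⟩, GInv_fix hx (by norm_num) (by simp), rfl⟩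
  have hKc : Nat.card K = 20160 := by
    rw [hK, Subgroup.card_map_of_injective Spor.M22.subtype_injective,
      Subgroup.card_map_of_injective α.injective, ← card_P3, ← hst,
      Subgroup.card_map_of_injective Spor.M22.subtype_injective]
  have hinf : ∀ g ∈ K, g (pt 23) = pt 23 := by
    rintro _ ⟨y, _, rfl⟩; exact (hG y).2.1
  have hzero : ∀ g ∈ K, g (pt 0) = pt 0 := by
    rintro _ ⟨y, _, rfl⟩; exact (hG y).2.2
  obtain ⟨q, hq23, hq0, hq⟩ := fixed_point_M22 K hKM hinf hzero hKc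
  have hfix : ∀ x : Spor.M22, (x : Equiv.Perm GolayPt) p0 = p0 →
      ((α x : Spor.M22) : Equiv.Perm GolayPt) q = q := by
    intro x hx
    apply hq
    exact ⟨α x, ⟨x, hx, rfl⟩, rfl⟩
  have htrans : ∀ ω, ω ≠ pt 23 → ω ≠ pt 0 → ∃ x : Spor.M22, (x : Equiv.Perm GolayPt) p0 = ω := by
    intro ω hω hω0
    obtain ⟨g, hg, h⟩ := level_trans chain2 (idx ω) (idx_lt ω)
      (tb2 _ (idx_lt ω) (idx_ne hω) (idx_ne hω0))
    refine ⟨⟨g, hG' g hg.1 (GInv_fix hg (by norm_num) (by simp))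
      (GInv_fix hg (by norm_num) (by simp))⟩, ?_⟩
    show g (pt 1) = ω
    rw [h, pt_idx]
  have h1 := stab_iff_of_fixed Spor.M22 α p0 q (htrans q hq23 hq0) hfix
  have hΔ : ∀ ω, (∃ x : Spor.M22, (x : Equiv.Perm GolayPt) p0 = ω) ∨
      (∀ x : Spor.M22, (x : Equiv.Perm GolayPt) ω = ω) := by
    intro ω
    by_cases hω : ω = pt 23
    · right; intro x; rw [hω]; exact (hG x).2.1
    by_cases hω0 : ω = pt 0
    · right; intro x; rw [hω0]; exact (hG x).2.2
    · left; exact htrans ω hω hω0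
  obtain ⟨π, hπ, hπ2⟩ := exists_perm_of_aut Spor.M22 α p0 q h1 hΔ (htrans q hq23 hq0)
  have hπ23 : π (pt 23) = pt 23 := by
    apply hπ2
    rintro ⟨x, hx⟩
    have h2 := (hG x).2.1
    rw [← hx] at h2
    have h3 := (x : Equiv.Perm GolayPt).injective h2
    rw [hx] at h3
    have := congrArg idx h3
    rw [hp0, idx_pt (by norm_num), idx_pt (by norm_num)] at this
    omega
  have hπ0 : π (pt 0) = pt 0 := by
    apply hπ2
    rintro ⟨x, hx⟩
    have h2 := (hG x).2.2
    rw [← hx] at h2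
    have h3 := (x : Equiv.Perm GolayPt).injective h2
    rw [hx] at h3
    have := congrArg idx h3
    rw [hp0, idx_pt (by norm_num), idx_pt (by norm_num)] at this
    omega
  have hπM := normalizer_M22 π hπ23 hπ0 (by
    intro O hO h23 h0
    apply perm_maps_octad π hO
    intro e he hfixO
    rw [← hπ ⟨e, hG' e he (hfixO _ h23) (hfixO _ h0)⟩]
    exact (hG (α ⟨e, hG' e he (hfixO _ h23) (hfixO _ h0)⟩)).1)
  rcases hπM with hM | hM
  · exact ⟨π, ⟨hM, Or.inl ⟨hπ23, hπ0⟩⟩, hπ⟩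
  · refine ⟨tau * π, ⟨hM, Or.inr ⟨?_, ?_⟩⟩, ?_⟩
    · rw [Equiv.Perm.mul_apply, hπ23, Equiv.swap_apply_left]
    · rw [Equiv.Perm.mul_apply, hπ0, Equiv.swap_apply_right]
    · intro x
      have e := tau_conj (hG (α x)).2.1 (hG (α x)).2.2
      rw [← e, hπ x]
      group

end Cfsg.Agent.Lib.Helper8
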