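import Cfsg.Agent.Lib.Helper8.OutM12
import Cfsg.Agent.Lib.Helper8.OutM22c

set_option autoImplicit false

namespace Cfsg.Agent.Lib.Helper8

open Cfsg
open scoped Pointwise

theorem M12_eq : Spor.M12 = GInv [340831] := by
  ext x
  rw [mem_GInv]
  simp only [List.mem_singleton, forall_eq]
  show x ∈ M24 ∧ x • Spor.squareDodecad = Spor.squareDodecad ↔ _
  rw [squareDodecad_eq]; rfl

theorem CS_induction_list (B coef : List ℕ) (hlen : coef.length = 12)
    (hspan : (basisL.zip coef).all (fun x => Nat.beq (xorSel B x.2) x.1) = true)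
    (P : Finset GolayPt → Prop) (h0 : P ∅) (hx : ∀ a b, P a → P b → P (symmDiff a b))
    (ho : ∀ b ∈ B, P (setOf b)) {A : Finset GolayPt} (hA : A ∈ CS) : P A := by
  have P0 : P (setOf 0) := by rw [setOf_zero]; exact h0
  have Px : ∀ a b, P (setOf a) → P (setOf b) → P (setOf (a ^^^ b)) := by
    intro a b h1 h2
    rw [setOf_xor]
    exact hx _ _ h1 h2
  have Pbasis : ∀ b ∈ basisL, P (setOf b) := by
    intro b hb
    obtain ⟨i, hi, rfl⟩ := List.getElem_of_mem hb
    have hi' : i < coef.length := by rw [hlen]; exact hi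
    have hz : (basisL[i], coef[i]) ∈ basisL.zip coef := by
      have : (basisL.zip coef)[i]'(by simp [List.length_zip]; exact ⟨hi, hi'⟩) =
        (basisL[i], coef[i]) := List.getElem_zip
      rw [← this]; exact List.getElem_mem _
    have := Nat.eq_of_beq_eq_true (List.all_eq_true.mp hspan _ hz)
    have h2 := xorSel_induction (fun a => P (setOf a)) P0 Px B ho coef[i]
    rw [show xorSel B coef[i] = basisL[i] from this] at h2
    exact h2
  obtain ⟨c, _, rfl⟩ := exists_of_mem_supports hA
  exact xorSel_induction (fun a => P (setOf a)) P0 Px basisL Pbasis c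

theorem span12 : (basisL.zip coef12).all (fun x => Nat.beq (xorSel invO12 x.2) x.1) = true := by
  decide +kernel

theorem invs_check : (invT12.zip invO12).all (fun x => invTest [340831] x.1 &&
    allBelow 24 (fun j => Nat.beq (itT x.1 2 j) j) &&
    allBelow 24 (fun j => (x.2.testBit j) == (Nat.beq (img x.1 j) j)) &&
    Nat.beq (popc x.2) 8) = true := by decide +kernel

/-- each of the twelve octads is the set of fixed points of an involution of `M12` -/
theorem invs_spec : ∀ b ∈ invO12, ∃ t ∈ GInv [340831], t ^ 2 = 1 ∧ fixF t = setOf b ∧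
    (setOf b).card = 8 := by
  intro b hb
  obtain ⟨i, hi, rfl⟩ := List.getElem_of_mem hb
  have hi' : i < invT12.length := hi
  have hz : (invT12[i], invO12[i]) ∈ invT12.zip invO12 := by
    have : (invT12.zip invO12)[i]'(by simp [List.length_zip]; exact ⟨hi', hi⟩) =
      (invT12[i], invO12[i]) := List.getElem_zip
    rw [← this]; exact List.getElem_mem _
  have h := List.all_eq_true.mp invs_check _ hz
  simp only [Bool.and_eq_true] at h
  obtain ⟨⟨⟨h1, h2⟩, h3⟩, h4⟩ := h
  obtain ⟨hv, hm⟩ := toPerm_mem_GInv h1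
  refine ⟨toPerm invT12[i], hm, ?_, fixF_toPerm hv h3, ?_⟩
  · ext x : 1
    rw [← pt_idx x, toPerm_pow_pt hv (idx_lt x),
      Nat.eq_of_beq_eq_true (of_allBelow h2 _ (idx_lt x))]
    rfl
  · rw [card_setOf]; exact Nat.eq_of_beq_eq_true h4

/-- a permutation normalising `M12` lies in `M24` -/
theorem mem_M24_of_norm12 (π : Equiv.Perm GolayPt)
    (h : ∀ x ∈ GInv [340831], π * x * π⁻¹ ∈ M24) : π ∈ M24 := by
  apply mem_M24_of_sub
  intro A hA
  refine CS_induction_list invO12 coef12 rfl span12 (fun A => π • A ∈ CS) ?_ ?_ ?_ hA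
  · simpa using empty_mem_CS
  · intro a b ha hb
    rw [smul_symmDiff']
    exact symmDiff_mem_supports ha hb
  · intro b hb
    obtain ⟨t, ht, t2, tf, tc⟩ := invs_spec b hb
    have hM := h t ht
    have hne : π * t * π⁻¹ ≠ 1 := by
      intro e
      have : t = 1 := by
        have : t = π⁻¹ * (π * t * π⁻¹) * π := by group
        rw [this, e]; group
      rw [this] at tf
      have h24 : (fixF (1 : Equiv.Perm GolayPt)).card = 24 := by
        have : fixF (1 : Equiv.Perm GolayPt) = Finset.univ := by
          ext a; simp [mem_fixF]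
        rw [this, card_pts]
      rw [tf, tc] at h24
      omega
    have ho : orderOf (π * t * π⁻¹) = 2 :=
      orderOf_eq_prime (by rw [conj_pow', t2]; group) hne
    rcases inv_fix hM ho with h1 | h1
    · rw [fixF_conj, tf] at h1
      exact h1.1
    · exfalso
      rw [fixF_conj, tf, Finset.smul_finset_eq_empty] at h1
      rw [h1] at tc
      simp at tc

end Cfsg.Agent.Lib.Helper8
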