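import Cfsg.Agent.Lib.Helper8.OutM12b

set_option autoImplicit false

namespace Cfsg.Agent.Lib.Helper8

open Cfsg
open scoped Pointwise

abbrev G12 : Subgroup (Equiv.Perm GolayPt) := GInv [340831]
abbrev D12 : Finset GolayPt := setOf 340831

theorem pt0_mem_D : pt 0 ∈ D12 := (pt_mem_setOf (by norm_num) _).mpr (by decide)
theorem pt23_notMem_D : pt 23 ∉ D12 := by
  rw [pt_mem_setOf (by norm_num)]; decide

theorem G12_mem_iff {g : Equiv.Perm GolayPt} (hg : g ∈ G12) (a : GolayPt) :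
    g a ∈ D12 ↔ a ∈ D12 := GInv_apply_mem hg (by simp)

theorem G12_transD {a : GolayPt} (ha : a ∈ D12) : ∃ x ∈ G12, x (pt 0) = a := by
  obtain ⟨g, hg, h⟩ := level_trans m12c0 (idx a) (idx_lt a) (mem_setOf.mp ha)
  exact ⟨g, hg, by rw [h, pt_idx]⟩

theorem G12_transE {a : GolayPt} (ha : a ∉ D12) : ∃ x ∈ G12, x (pt 23) = a := by
  obtain ⟨g, hg, h⟩ := level_trans m11o0 (idx a) (idx_lt a)
    (tbC0 _ (idx_lt a) (fun h => ha (mem_setOf.mpr h)))
  exact ⟨g, GInv_mono (L0 := [340831]) (by simp) hg, by rw [h, pt_idx]⟩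

theorem TAB_test : invTest [2 ^ 0, 340831] TA11 = true ∧ invTest [2 ^ 0, 340831] TB11 = true := by
  decide +kernel

theorem TAB_fix : ∀ j < 24, j ≠ 0 → img TA11 j ≠ j ∨ img TB11 j ≠ j := by decide +kernel

/-- the stabiliser of `pt 0` in `M12` fixes no other point -/
theorem M11_moves {b : GolayPt} (hb : b ≠ pt 0) : ∃ x ∈ G12, x (pt 0) = pt 0 ∧ x b ≠ b := by
  obtain ⟨vA, mA⟩ := toPerm_mem_GInv TAB_test.1
  obtain ⟨vB, mB⟩ := toPerm_mem_GInv TAB_test.2
  have key : ∀ T, validT T = true → img T (idx b) ≠ idx b → toPerm T b ≠ b := by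
    intro T hv hne e
    apply hne
    have := congrArg idx e
    rwa [idx_toPerm hv] at this
  rcases TAB_fix (idx b) (idx_lt b) (idx_ne hb) with h | h
  · exact ⟨toPerm TA11, GInv_mono (L0 := [340831]) (by simp) mA,
      GInv_fix mA (by norm_num) (by simp), key _ vA h⟩
  · exact ⟨toPerm TB11, GInv_mono (L0 := [340831]) (by simp) mB,
      GInv_fix mB (by norm_num) (by simp), key _ vB h⟩

theorem stab0_map : (MulAction.stabilizer G12 (pt 0)).map G12.subtype = GInv [2 ^ 0, 340831] := by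
  ext x
  constructor
  · rintro ⟨y, hy, rfl⟩
    refine ⟨y.2.1, ?_⟩
    intro m hm
    simp only [List.mem_cons, List.not_mem_nil, or_false] at hm
    rcases hm with rfl | rfl
    · exact Inv.of_fix (by norm_num) hy
    · exact y.2.2 _ (by simp)
  · intro hx
    exact ⟨⟨x, GInv_mono (L0 := [340831]) (by simp) hx⟩, GInv_fix hx (by norm_num) (by simp), rfl⟩

theorem stab23_map :
    (MulAction.stabilizer G12 (pt 23)).map G12.subtype = GInv [16436384, 2 ^ 23] := by
  ext x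
  constructor
  · rintro ⟨y, hy, rfl⟩
    refine ⟨y.2.1, ?_⟩
    intro m hm
    simp only [List.mem_cons, List.not_mem_nil, or_false] at hm
    rcases hm with rfl | rfl
    · have h := (y.2.2 340831 (by simp)).xor (Inv.full (y : Equiv.Perm GolayPt))
      have e : (340831 ^^^ 16777215 : ℕ) = 16436384 := by decide +kernel
      rwa [e] at h
    · exact Inv.of_fix (by norm_num) hy
  · intro hx
    exact ⟨⟨x, GInv_PD_le hx⟩, GInv_fix hx (by norm_num) (by simp), rfl⟩

theorem card_stab0 : Nat.card (MulAction.stabilizer G12 (pt 0)) = 7920 := by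
  rw [← card_D1, ← stab0_map, Subgroup.card_map_of_injective G12.subtype_injective]

theorem card_stab23' : Nat.card (MulAction.stabilizer G12 (pt 23)) = 7920 := by
  rw [← card_PD, ← stab23_map, Subgroup.card_map_of_injective G12.subtype_injective]

theorem card_stab12 (q : GolayPt) : Nat.card (MulAction.stabilizer G12 q) = 7920 := by
  by_cases hq : q ∈ D12
  · obtain ⟨x, hx, e⟩ := G12_transD hq
    rw [← card_stab0]
    exact Nat.card_congr (MulAction.stabilizerEquivStabilizer (G := G12) (g := ⟨x, hx⟩)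
      (a := pt 0) (b := q) e.symm).symm.toEquiv
  · obtain ⟨x, hx, e⟩ := G12_transE hq
    rw [← card_stab23']
    exact Nat.card_congr (MulAction.stabilizerEquivStabilizer (G := G12) (g := ⟨x, hx⟩)
      (a := pt 23) (b := q) e.symm).symm.toEquiv

theorem orderOf_eight {T : ℕ} (hv : validT T = true)
    (h8 : allBelow 24 (fun j => Nat.beq (itT T 8 j) j) = true) {j0 : ℕ} (hj0 : j0 < 24)
    (hne : itT T 4 j0 ≠ j0) : orderOf (toPerm T) = 8 := by
  have : orderOf (toPerm T) = 2 ^ (2 + 1) := by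
    apply orderOf_eq_prime_pow
    · intro h
      apply hne
      have h1 := toPerm_pow_pt hv hj0 4
      rw [show (2 : ℕ) ^ 2 = 4 from rfl] at h
      rw [h, Equiv.Perm.one_apply] at h1
      have h2 := congrArg idx h1
      rw [idx_pt hj0, idx_pt (itT_lt hv hj0 4)] at h2
      exact h2.symm
    · rw [show (2 : ℕ) ^ (2 + 1) = 8 from rfl]
      ext x : 1
      rw [← pt_idx x, toPerm_pow_pt hv (idx_lt x),
        Nat.eq_of_beq_eq_true (of_allBelow h8 _ (idx_lt x))]
      rfl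
  rw [this]; rfl

theorem U8a_test : invTest [2 ^ 0, 340831] U8a = true := by decide +kernel
theorem U8b_test : invTest [16436384, 2 ^ 23] U8b = true := by decide +kernel

theorem U8a_order : orderOf (toPerm U8a) = 8 := by
  have h : ∃ j0 < 24, itT U8a 4 j0 ≠ j0 := by decide +kernel
  obtain ⟨j0, hj0, hne⟩ := h
  exact orderOf_eight (toPerm_mem_GInv U8a_test).1 (by decide +kernel) hj0 hne

theorem U8b_order : orderOf (toPerm U8b) = 8 := by
  have h : ∃ j0 < 24, itT U8b 4 j0 ≠ j0 := by decide +kernel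
  obtain ⟨j0, hj0, hne⟩ := h
  exact orderOf_eight (toPerm_mem_GInv U8b_test).1 (by decide +kernel) hj0 hne

/-- the image of a point stabiliser under an automorphism is a point stabiliser -/
theorem stab_image (α : MulAut G12) (p : GolayPt)
    (h8 : ∃ u : G12, (u : Equiv.Perm GolayPt) p = p ∧ orderOf u = 8) :
    ∃ q, ∀ x : G12, (x : Equiv.Perm GolayPt) p = p ↔ ((α x : G12) : Equiv.Perm GolayPt) q = q := by
  set K : Subgroup (Equiv.Perm GolayPt) :=
    ((MulAction.stabilizer G12 p).map α.toMonoidHom).map G12.subtype with hK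
  have hKG : K ≤ G12 := by
    rintro _ ⟨y, _, rfl⟩; exact y.2
  have hKc : Nat.card K = 7920 := by
    rw [hK, Subgroup.card_map_of_injective G12.subtype_injective,
      Subgroup.card_map_of_injective α.injective, card_stab12]
  obtain ⟨u, hu, ho⟩ := h8
  obtain ⟨q, hq⟩ := fixed_point_M12 K hKG hKc ⟨((α u : G12) : Equiv.Perm GolayPt),
    ⟨α u, ⟨u, hu, rfl⟩, rfl⟩, by rw [Subgroup.orderOf_coe, MulEquiv.orderOf_eq, ho]⟩
  refine ⟨q, stab_iff_of_fixed' G12 α p q (by rw [card_stab12, card_stab12]) ?_⟩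
  intro x hx
  apply hq
  exact ⟨α x, ⟨x, hx, rfl⟩, rfl⟩

theorem aut_M12 (α : MulAut G12) :
    ∃ n ∈ M24, ∀ x : G12, ((α x : G12) : Equiv.Perm GolayPt) = n * x * n⁻¹ := by
  obtain ⟨q1, h1⟩ := stab_image α (pt 0) ⟨⟨toPerm U8a,
    GInv_mono (L0 := [340831]) (by simp) (toPerm_mem_GInv U8a_test).2⟩,
    GInv_fix (toPerm_mem_GInv U8a_test).2 (by norm_num) (by simp), by
      rw [← Subgroup.orderOf_coe]; exact U8a_order⟩
  obtain ⟨q2, h2⟩ := stab_image α (pt 23) ⟨⟨toPerm U8b, GInv_PD_le (toPerm_mem_GInv U8b_test).2⟩,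
    GInv_fix (toPerm_mem_GInv U8b_test).2 (by norm_num) (by simp), by
      rw [← Subgroup.orderOf_coe]; exact U8b_order⟩
  have hΔ : ∀ ω, (∃ x : G12, (x : Equiv.Perm GolayPt) (pt 0) = ω) ∨
      (∃ x : G12, (x : Equiv.Perm GolayPt) (pt 23) = ω) := by
    intro ω
    by_cases hω : ω ∈ D12
    · left; obtain ⟨x, hx, e⟩ := G12_transD hω; exact ⟨⟨x, hx⟩, e⟩
    · right; obtain ⟨x, hx, e⟩ := G12_transE hω; exact ⟨⟨x, hx⟩, e⟩
  have hp : ∀ x y : G12, (x : Equiv.Perm GolayPt) (pt 0) ≠ (y : Equiv.Perm GolayPt) (pt 23) := by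
    intro x y e
    have h1 : (x : Equiv.Perm GolayPt) (pt 0) ∈ D12 := (G12_mem_iff x.2 _).mpr pt0_mem_D
    rw [e, G12_mem_iff y.2] at h1
    exact pt23_notMem_D h1
  have hq : ∀ x y : G12, (x : Equiv.Perm GolayPt) q1 ≠ (y : Equiv.Perm GolayPt) q2 := by
    intro x y e
    have e' : ((y⁻¹ * x : G12) : Equiv.Perm GolayPt) q1 = q2 := by
      rw [Subgroup.coe_mul, Subgroup.coe_inv, Equiv.Perm.mul_apply, Equiv.Perm.inv_eq_iff_eq]
      exact e
    have hc := stab_conj_of_same_orbit G12 α h1 h2 (y⁻¹ * x) e'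
    set z := α.symm (y⁻¹ * x) with hz
    -- the stabiliser of `pt 0` fixes `z⁻¹ (pt 23)`
    set b : GolayPt := (z : Equiv.Perm GolayPt)⁻¹ (pt 23) with hb
    have hbD : b ∉ D12 := by
      intro h
      have : (z : Equiv.Perm GolayPt) b ∈ D12 := (G12_mem_iff z.2 _).mpr h
      rw [hb] at this
      simp only [Equiv.Perm.coe_inv, Equiv.apply_symm_apply] at this
      exact pt23_notMem_D this
    have hb0 : b ≠ pt 0 := fun h => hbD (h ▸ pt0_mem_D)
    obtain ⟨w, hw, w0, wb⟩ := M11_moves hb0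
    apply wb
    have h3 := (hc (z * ⟨w, hw⟩ * z⁻¹)).mpr (by
      show (z : Equiv.Perm GolayPt) (w ((z : Equiv.Perm GolayPt)⁻¹ ((z : Equiv.Perm GolayPt) (pt 0))))
        = (z : Equiv.Perm GolayPt) (pt 0)
      have : (z : Equiv.Perm GolayPt)⁻¹ ((z : Equiv.Perm GolayPt) (pt 0)) = pt 0 := by simp
      rw [this, w0])
    have h3' : (z : Equiv.Perm GolayPt) (w b) = pt 23 := h3
    rw [← Equiv.Perm.eq_inv_iff_eq] at h3'
    exact h3'
  obtain ⟨π, hπ, _⟩ := exists_perm_of_aut2 G12 α (pt 0) q1 (pt 23) q2 h1 h2 hΔ hp hq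
  refine ⟨π, mem_M24_of_norm12 π ?_, hπ⟩
  intro x hx
  rw [← hπ ⟨x, hx⟩]
  exact (α ⟨x, hx⟩).2.1

end Cfsg.Agent.Lib.Helper8
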