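import Cfsg.Agent.Lib.Helper8.OutM12c

set_option autoImplicit false

namespace Cfsg.Agent.Lib.Helper8

open Cfsg
open scoped Pointwise

theorem cent_M12 {z : Equiv.Perm GolayPt} (hz : z ∈ M24)
    (hc : ∀ x ∈ G12, z * x = x * z) : z = 1 := by
  have hcomm : ∀ x ∈ G12, ∀ p, z (x p) = x (z p) := by
    intro x hx p
    have := congrArg (fun σ : Equiv.Perm GolayPt => σ p) (hc x hx)
    simpa [Equiv.Perm.mul_apply] using this
  have h0 : z (pt 0) = pt 0 := by
    by_contra hne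
    obtain ⟨w, hw, w0, wb⟩ := M11_moves hne
    apply wb
    have := hcomm w hw (pt 0)
    rw [w0] at this
    exact this.symm
  apply eq_one_of_nine hz
  have hsub : D12 ⊆ fixF z := by
    intro a ha
    obtain ⟨x, hx, rfl⟩ := G12_transD ha
    rw [mem_fixF, hcomm x hx, h0]
  have := Finset.card_le_card hsub
  rw [D0_mem.2] at this
  omega

def isN12 (n : Equiv.Perm GolayPt) : Prop := n ∈ M24 ∧ (n • D12 = D12 ∨ n • D12 = D12ᶜ)

theorem D12_ne_compl : D12ᶜ ≠ D12 := by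
  intro h
  have := pt0_mem_D
  rw [← h, Finset.mem_compl] at this
  exact this pt0_mem_D

theorem smul_compl' (n : Equiv.Perm GolayPt) (S : Finset GolayPt) : n • Sᶜ = (n • S)ᶜ := by
  ext a
  rw [Finset.mem_compl, ← Finset.inv_smul_mem_iff, ← Finset.inv_smul_mem_iff, Finset.mem_compl]

theorem G12_iff {x : Equiv.Perm GolayPt} : x ∈ G12 ↔ x ∈ M24 ∧ x • D12 = D12 := by
  rw [mem_GInv]
  simp only [List.mem_singleton, forall_eq]
  rfl

theorem isN12_mul {a b : Equiv.Perm GolayPt} (ha : isN12 a) (hb : isN12 b) : isN12 (a * b) := by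
  refine ⟨M24.mul_mem ha.1 hb.1, ?_⟩
  rw [mul_smul]
  rcases ha.2 with a1 | a1 <;> rcases hb.2 with b1 | b1
  · left; rw [b1, a1]
  · right; rw [b1, smul_compl', a1]
  · right; rw [b1, a1]
  · left; rw [b1, smul_compl', a1, compl_compl]

theorem isN12_inv {a : Equiv.Perm GolayPt} (ha : isN12 a) : isN12 a⁻¹ := by
  refine ⟨M24.inv_mem ha.1, ?_⟩
  rcases ha.2 with a1 | a1
  · left; rw [inv_smul_eq_iff, a1]
  · right; rw [inv_smul_eq_iff, smul_compl', a1, compl_compl]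

theorem isN12_conj {n x : Equiv.Perm GolayPt} (hn : isN12 n) (hx : x ∈ G12) :
    n * x * n⁻¹ ∈ G12 := by
  obtain ⟨x1, x2⟩ := G12_iff.mp hx
  refine G12_iff.mpr ⟨M24.mul_mem (M24.mul_mem hn.1 x1) (M24.inv_mem hn.1), ?_⟩
  rw [mul_smul, mul_smul]
  rcases (isN12_inv hn).2 with a1 | a1
  · rw [a1, x2]; exact (inv_smul_eq_iff.mp a1).symm
  · rw [a1, smul_compl', x2]; exact (inv_smul_eq_iff.mp a1).symm

/-- an element of `M24` normalising `M12` preserves the pair of dodecads -/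
theorem isN12_of_norm {n : Equiv.Perm GolayPt} (hn : n ∈ M24)
    (h : ∀ x ∈ G12, n * x * n⁻¹ ∈ G12) : isN12 n := by
  refine ⟨hn, ?_⟩
  have key : ∀ a ∈ D12, (n a ∈ D12 ↔ n (pt 0) ∈ D12) := by
    intro a ha
    obtain ⟨x, hx, rfl⟩ := G12_transD ha
    have e : n (x (pt 0)) = (n * x * n⁻¹) (n (pt 0)) := by simp [Equiv.Perm.mul_apply]
    rw [e, G12_mem_iff (h x hx)]
  have cD : D12.card = 12 := D0_mem.2
  by_cases h0 : n (pt 0) ∈ D12
  · left
    apply Finset.eq_of_subset_of_card_le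
    · intro b hb
      obtain ⟨a, ha, rfl⟩ := Finset.mem_smul_finset.mp hb
      exact (key a ha).mpr h0
    · rw [Finset.card_smul_finset]
  · right
    apply Finset.eq_of_subset_of_card_le
    · intro b hb
      obtain ⟨a, ha, rfl⟩ := Finset.mem_smul_finset.mp hb
      rw [Finset.mem_compl]
      exact fun hh => h0 ((key a ha).mp hh)
    · rw [Finset.card_smul_finset, Finset.card_compl, card_Pt, cD]

theorem eq_of_conj_eq12 {n h : Equiv.Perm GolayPt} (hn : n ∈ M24) (hh : h ∈ M24)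
    (e : ∀ x ∈ G12, n * x * n⁻¹ = h * x * h⁻¹) : n = h := by
  have : h⁻¹ * n = 1 := by
    apply cent_M12 (M24.mul_mem (M24.inv_mem hh) hn)
    intro x hx
    have := e x hx
    calc h⁻¹ * n * x = h⁻¹ * (n * x * n⁻¹) * n := by group
      _ = h⁻¹ * (h * x * h⁻¹) * n := by rw [this]
      _ = x * (h⁻¹ * n) := by group
  exact (inv_mul_eq_one.mp this).symm

theorem inner_iff_M12 (β : MulAut G12) {n : Equiv.Perm GolayPt} (hn : n ∈ M24)
    (e : ∀ x : G12, ((β x : G12) : Equiv.Perm GolayPt) = n * x * n⁻¹) :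
    β ∈ (MulAut.conj : G12 →* MulAut G12).range ↔ n • D12 = D12 := by
  constructor
  · rintro ⟨h, rfl⟩
    have : n = (h : Equiv.Perm GolayPt) := by
      apply eq_of_conj_eq12 hn h.2.1
      intro x hx
      rw [← e ⟨x, hx⟩]
      rfl
    rw [this]; exact (G12_iff.mp h.2).2
  · intro hD
    refine ⟨⟨n, G12_iff.mpr ⟨hn, hD⟩⟩, ?_⟩
    ext x : 1
    apply Subtype.ext
    rw [e x]
    rfl

noncomputable def conjAut12 (n : Equiv.Perm GolayPt) (hn : isN12 n) : MulAut G12 where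
  toFun x := ⟨n * x * n⁻¹, isN12_conj hn x.2⟩
  invFun x := ⟨n⁻¹ * x * n, by
    have := isN12_conj (isN12_inv hn) x.2
    rwa [inv_inv] at this⟩
  left_inv x := by
    apply Subtype.ext
    show n⁻¹ * (n * x * n⁻¹) * n = x
    group
  right_inv x := by
    apply Subtype.ext
    show n * (n⁻¹ * x * n) * n⁻¹ = x
    group
  map_mul' x y := by
    apply Subtype.ext
    show n * (x * y) * n⁻¹ = (n * x * n⁻¹) * (n * y * n⁻¹)
    group

theorem D12_compl : D12ᶜ = setOf 16436384 := by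
  have e : (340831 ^^^ 16777215 : ℕ) = 16436384 := by decide +kernel
  rw [← e, setOf_xor, setOf_full, ← Finset.top_eq_univ, symmDiff_top, hnot_eq_compl]

theorem exists_swap12 : ∃ g ∈ M24, g • D12 = D12ᶜ ∧ g (pt 0) = pt 23 := by
  have h23 : pt 23 ∈ setOf 16436384 := (pt_mem_setOf (by norm_num) _).mpr (by decide)
  obtain ⟨w, hw, hwd, hw0⟩ := normD1 D0c_mem h23
  refine ⟨w⁻¹, M24.inv_mem hw, ?_, ?_⟩
  · rw [inv_smul_eq_iff, D12_compl, hwd]
  · rw [Equiv.Perm.inv_eq_iff_eq, hw0]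

theorem card_out_G12 :
    Nat.card (MulAut G12 ⧸ (MulAut.conj : G12 →* MulAut G12).range) = 2 := by
  obtain ⟨g0, hg0, g1, _⟩ := exists_swap12
  have hN0 : isN12 g0 := ⟨hg0, Or.inr g1⟩
  apply Subgroup.index_eq_two_iff.mpr
  refine ⟨conjAut12 g0 hN0, ?_⟩
  intro b
  obtain ⟨n, hn, e⟩ := aut_M12 b
  have hN : isN12 n := isN12_of_norm hn (by
    intro x hx
    rw [← e ⟨x, hx⟩]
    exact (b ⟨x, hx⟩).2)
  have e2 : ∀ x : G12, (((b * conjAut12 g0 hN0) x : G12) : Equiv.Perm GolayPt) =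
      (n * g0) * x * (n * g0)⁻¹ := by
    intro x
    rw [MulAut.mul_apply, e]
    show n * (g0 * x * g0⁻¹) * n⁻¹ = _
    group
  rw [inner_iff_M12 b hn e, inner_iff_M12 _ (M24.mul_mem hn hg0) e2, mul_smul, g1, smul_compl']
  rcases hN.2 with a1 | a1
  · right
    exact ⟨a1, by rw [a1]; exact D12_ne_compl⟩
  · left
    exact ⟨by rw [a1, compl_compl], by rw [a1]; exact D12_ne_compl⟩

theorem card_out_M12 :
    Nat.card (MulAut Spor.M12 ⧸ (MulAut.conj : Spor.M12 →* MulAut Spor.M12).range) = 2 := by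
  rw [M12_eq]
  exact card_out_G12

end Cfsg.Agent.Lib.Helper8
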