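import Cfsg.Agent.Lib.Helper8.OutFin
import Cfsg.Agent.Lib.Helper8.Cls

set_option autoImplicit false

namespace Cfsg.Agent.Lib.Helper8

open Cfsg
open scoped Pointwise

theorem pt23_ne_pt0 : pt 23 ≠ pt 0 := by decide

/-- a subgroup of `M24` fixing a set `F` pointwise and leaving a set `D` invariant, with
`|D| + |F| ≥ 9`, has order at most `|D|!` -/
theorem card_le_factorial (K : Subgroup (Equiv.Perm GolayPt)) (hK : K ≤ M24)
    (F D : Finset GolayPt) (hF : ∀ g ∈ K, ∀ a ∈ F, g a = a)
    (hD : ∀ g ∈ K, ∀ a, g a ∈ D ↔ a ∈ D) (hdisj : Disjoint D F) (h9 : 9 ≤ D.card + F.card) :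
    Nat.card K ≤ D.card.factorial := by
  classical
  let φ : K → Equiv.Perm {a // a ∈ D} := fun g => (g : Equiv.Perm GolayPt).subtypePerm (hD g g.2)
  have hφ : Function.Injective φ := by
    intro g g' e
    have e1 : ∀ a ∈ D, (g : Equiv.Perm GolayPt) a = (g' : Equiv.Perm GolayPt) a := by
      intro a ha
      have := congrArg (fun σ : Equiv.Perm {a // a ∈ D} => ((σ ⟨a, ha⟩ : {a // a ∈ D}) : GolayPt)) e
      exact this
    have h1 : ((g : Equiv.Perm GolayPt)⁻¹ * (g' : Equiv.Perm GolayPt)) = 1 := by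
      apply eq_one_of_nine (M24.mul_mem (M24.inv_mem (hK g.2)) (hK g'.2))
      have hsub : D ∪ F ⊆ fixF ((g : Equiv.Perm GolayPt)⁻¹ * (g' : Equiv.Perm GolayPt)) := by
        intro a ha
        rw [mem_fixF, Equiv.Perm.mul_apply, Equiv.Perm.inv_eq_iff_eq]
        rcases Finset.mem_union.mp ha with ha | ha
        · exact (e1 a ha).symm
        · rw [hF g g.2 a ha, hF g' g'.2 a ha]
      have := Finset.card_le_card hsub
      rw [Finset.card_union_of_disjoint hdisj] at this
      omega
    apply Subtype.ext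
    exact (inv_mul_eq_one.mp h1)
  have := Nat.card_le_card_of_injective φ hφ
  rwa [Nat.card_eq_fintype_card (α := Equiv.Perm {a // a ∈ D}), Fintype.card_perm,
    Fintype.card_coe] at this

theorem fixed_point_M22 (K : Subgroup (Equiv.Perm GolayPt)) (hK : K ≤ M24)
    (hinf : ∀ g ∈ K, g (pt 23) = pt 23) (hzero : ∀ g ∈ K, g (pt 0) = pt 0)
    (hc : Nat.card K = 20160) :
    ∃ q, q ≠ pt 23 ∧ q ≠ pt 0 ∧ ∀ g ∈ K, g q = q := by
  classical
  obtain ⟨x, hx, hox⟩ := exists_order K (r := 7) (by rw [hc]; norm_num)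
  have hcx := fix7 x (hK hx) hox
  set F : Finset GolayPt := {pt 23, pt 0} with hFdef
  have cF : F.card = 2 := Finset.card_pair pt23_ne_pt0
  obtain ⟨f, hf, hfF⟩ := Finset.exists_mem_notMem_of_card_lt_card (s := F) (t := fixF x)
    (by rw [hcx, cF]; norm_num)
  have hxf : x f = f := mem_fixF.mp hf
  have hF : ∀ g ∈ K, ∀ a ∈ F, g a = a := by
    intro g hg a ha
    rcases Finset.mem_insert.mp ha with rfl | ha
    · exact hinf g hg
    · rw [Finset.mem_singleton.mp ha]; exact hzero g hg
  have hf23 : f ≠ pt 23 := fun h => hfF (by rw [h, hFdef]; simp)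
  have hf0 : f ≠ pt 0 := fun h => hfF (by rw [h, hFdef]; simp)
  have m0 := orbit_mod K hx (r := 7) (by rw [← hox]; exact pow_orderOf_eq_one x) f
  rw [orbit_inter_eq_one K _ hF hfF hx hxf (by rw [hcx, cF])] at m0
  obtain ⟨c, hc1, hc2⟩ := orb_step K hK _ hF hfF fix5 (by rw [hc]; norm_num)
  have l0 := orbit_ncard_le K _ hF hfF
  have p0 := orbit_ncard_pos K f
  have s0 := card_step K f
  rw [card_Pt] at l0
  unfold Nat.ModEq at m0
  rw [cF] at l0 hc1
  have hA : (MulAction.orbit K f).ncard = 1 ∨ (MulAction.orbit K f).ncard = 8 ∨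
      (MulAction.orbit K f).ncard = 15 ∨ (MulAction.orbit K f).ncard = 22 := by omega
  rcases hA with hA | hA | hA | hA
  · exact ⟨f, hf23, hf0, fixed_of_orbit_ncard_one K hA⟩
  · exfalso; omega
  · exfalso
    set Of : Finset GolayPt := (Set.toFinite (MulAction.orbit K f)).toFinset with hOf
    have hOfmem : ∀ a, a ∈ Of ↔ a ∈ MulAction.orbit K f := fun a => by
      rw [hOf, Set.Finite.mem_toFinset]
    have cOf : Of.card = 15 := by
      rw [← hA, Set.ncard_eq_toFinset_card _ (Set.toFinite _)]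
    have hdis : Disjoint Of F := by
      rw [Finset.disjoint_left]
      intro a ha
      exact orbit_disjoint_fixed K F hF hfF a ((hOfmem a).mp ha)
    have cD : ((Of ∪ F)ᶜ).card = 7 := by
      rw [Finset.card_compl, Finset.card_union_of_disjoint hdis, cOf, cF, card_Pt]
    have hFiff : ∀ g ∈ K, ∀ a, g a ∈ F ↔ a ∈ F := by
      intro g hg a
      constructor
      · intro h
        have h1 := hF g hg _ h
        have h2 := g.injective h1
        rw [← h2]; exact h
      · intro h; rw [hF g hg a h]; exact h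
    have := card_le_factorial K hK F ((Of ∪ F)ᶜ) hF (by
      intro g hg a
      simp only [Finset.mem_compl, Finset.mem_union, hOfmem, apply_mem_orbit_iff K hg,
        hFiff g hg]) (by
      rw [Finset.disjoint_left]
      intro a ha ha'
      exact (Finset.mem_compl.mp ha) (Finset.mem_union_right _ ha')) (by rw [cD, cF])
    rw [hc, cD] at this
    revert this; decide
  · exfalso; rw [hc, hA] at s0; omega

end Cfsg.Agent.Lib.Helper8
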