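import Cfsg.Agent.Lib.Helper8.OutM22
import Cfsg.Agent.Lib.Helper8.OutData22

set_option autoImplicit false

namespace Cfsg.Agent.Lib.Helper8

open Cfsg
open scoped Pointwise

theorem octB22_isOct : octB22.all (fun o => isOct o && o.testBit 23 && o.testBit 0) = true := by
  decide +kernel
theorem octB22_span :
    (basisL.zip octCoef22).all (fun x => Nat.beq (xorSel (octB22 ++ [octO1]) x.2) x.1) = true := by
  decide +kernel

theorem CS_induction22 (P : Finset GolayPt → Prop) (h0 : P ∅)
    (hx : ∀ a b, P a → P b → P (symmDiff a b))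
    (ho : ∀ o ∈ octads, pt 23 ∈ o → pt 0 ∈ o → P o) (h1 : P (setOf octO1))
    {A : Finset GolayPt} (hA : A ∈ CS) : P A := by
  have P0 : P (setOf 0) := by rw [setOf_zero]; exact h0
  have Px : ∀ a b, P (setOf a) → P (setOf b) → P (setOf (a ^^^ b)) := by
    intro a b h1 h2
    rw [setOf_xor]
    exact hx _ _ h1 h2
  have Poct : ∀ b ∈ octB22 ++ [octO1], P (setOf b) := by
    intro b hb
    rcases List.mem_append.mp hb with hb | hb
    · have := List.all_eq_true.mp octB22_isOct _ hb
      rw [Bool.and_eq_true, Bool.and_eq_true] at this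
      exact ho _ (setOf_mem_octads this.1.1) ((pt_mem_setOf (by norm_num) b).mpr this.1.2)
        ((pt_mem_setOf (by norm_num) b).mpr this.2)
    · rw [List.mem_singleton.mp hb]; exact h1
  have Pbasis : ∀ b ∈ basisL, P (setOf b) := by
    intro b hb
    obtain ⟨i, hi, rfl⟩ := List.getElem_of_mem hb
    have hi' : i < octCoef22.length := hi
    have hz : (basisL[i], octCoef22[i]) ∈ basisL.zip octCoef22 := by
      have : (basisL.zip octCoef22)[i]'(by simp [List.length_zip]; exact ⟨hi, hi'⟩) =
        (basisL[i], octCoef22[i]) := List.getElem_zip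
      rw [← this]; exact List.getElem_mem _
    have := Nat.eq_of_beq_eq_true (List.all_eq_true.mp octB22_span _ hz)
    have h2 := xorSel_induction (fun a => P (setOf a)) P0 Px (octB22 ++ [octO1]) Poct octCoef22[i]
    rw [show xorSel (octB22 ++ [octO1]) octCoef22[i] = basisL[i] from this] at h2
    exact h2
  obtain ⟨c, _, rfl⟩ := exists_of_mem_supports hA
  exact xorSel_induction (fun a => P (setOf a)) P0 Px basisL Pbasis c

theorem dual_check : allBelow 4096 (fun r => !(octB22.all fun b =>
    Nat.beq (popF ((Nat.mul 4096 r) &&& b) % 2) 0) || Nat.beq r 0 || Nat.beq r dualR0) = true := by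
  decide +kernel

theorem even_inter_symmDiff {X C B : Finset GolayPt} (h1 : Even (X ∩ B).card)
    (h2 : Even (C ∩ B).card) : Even (symmDiff X C ∩ B).card := by
  have e : symmDiff X C ∩ B = symmDiff (X ∩ B) (C ∩ B) := by
    ext a
    simp only [Finset.mem_inter, Finset.mem_symmDiff]
    tauto
  have h := card_symmDiff_add (X ∩ B) (C ∩ B)
  rw [e]
  rw [Nat.even_iff] at *
  omega

theorem dual22 (X : Finset GolayPt) (h : ∀ b ∈ octB22, Even (X ∩ setOf b).card) :
    X ∈ CS ∨ symmDiff X {pt 23, pt 0} ∈ CS := by
  set m := maskS X with hm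
  have hX : X = setOf m := (setOf_maskS X).symm
  have hmlt : m < 2 ^ 24 := maskS_lt X
  have h4 : m &&& 4095 < 4096 := lt_of_le_of_lt Nat.and_le_right (by norm_num)
  set c := codeOf (m &&& 4095) with hc
  have hcode : isCode c = true := isCode_codeOf h4
  have hclt : c < 2 ^ 24 := codeOf_lt _
  have hcCS : setOf c ∈ CS := (setOf_mem_supports_iff hclt).mpr hcode
  set r := m ^^^ c with hr
  have hrlt : r < 2 ^ 24 := Nat.xor_lt_two_pow hmlt hclt
  have hr0 : r &&& 4095 = 0 := by
    rw [hr, Nat.and_xor_distrib_right, hc, codeOf_and_eq h4, Nat.xor_self]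
  have hrmod : r % 4096 = 0 := by
    have := Nat.and_two_pow_sub_one_eq_mod r 12
    norm_num at this
    rw [← this]; exact hr0
  have hr' : r = Nat.mul 4096 (r / 4096) := by
    show r = 4096 * (r / 4096)
    omega
  have hlt' : r / 4096 < 4096 := by
    have : (2 : ℕ) ^ 24 = 16777216 := by norm_num
    omega
  have hev : ∀ b ∈ octB22, Even (setOf r ∩ setOf b).card := by
    intro b hb
    rw [hr, setOf_xor, ← hX]
    apply even_inter_symmDiff (h b hb)
    have := List.all_eq_true.mp octB22_isOct _ hb
    rw [Bool.and_eq_true, Bool.and_eq_true] at this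
    exact even_inter_CS hcCS (setOf_mem_octads this.1.1).1
  have hchk := of_allBelow dual_check _ hlt'
  rw [← hr'] at hchk
  have hall : (octB22.all fun b => Nat.beq (popF (r &&& b) % 2) 0) = true := by
    rw [List.all_eq_true]
    intro b hb
    have := hev b hb
    rw [card_inter_setOf, Nat.even_iff] at this
    rw [this]; rfl
  rw [hall] at hchk
  simp only [Bool.not_true, Bool.false_or, Bool.or_eq_true, Nat.beq_eq] at hchk
  have hmc : m = c ^^^ r := by
    rw [hr, Nat.xor_comm m c, ← Nat.xor_assoc, Nat.xor_self, Nat.zero_xor]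
  rcases hchk with h0 | h0
  · left
    have : r = 0 := by rw [hr', h0]
    rw [hX, hmc, this, Nat.xor_zero]
    exact hcCS
  · right
    have hre : r = 4673536 := by rw [hr', h0]; rfl
    rw [← setOf_2, hX, ← setOf_xor, hmc, hre, Nat.xor_assoc]
    rw [setOf_mem_supports_iff (Nat.xor_lt_two_pow hclt (by decide))]
    exact isCode_xor hcode (by decide +kernel)

end Cfsg.Agent.Lib.Helper8
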