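import Cfsg.Agent.Lib.Helper8.OutM22c

set_option autoImplicit false

namespace Cfsg.Agent.Lib.Helper8

open Cfsg
open scoped Pointwise

/-- `M22` is 2-transitive on the 22 points -/
theorem M22_trans2 {a b c : GolayPt} (ha23 : a ≠ pt 23) (ha0 : a ≠ pt 0) (hb23 : b ≠ pt 23)
    (hb0 : b ≠ pt 0) (hc23 : c ≠ pt 23) (hc0 : c ≠ pt 0) (hab : a ≠ b) (hac : a ≠ c) :
    ∃ x ∈ Spor.M22, x a = a ∧ x b = c := by
  obtain ⟨g, hg, g0, g1, g2, g3⟩ := move4 pt23_ne_pt0 ha23.symm ha0.symm hb23.symm hb0.symm hab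
  obtain ⟨k, hk, k0, k1, k2, k3⟩ := move4 pt23_ne_pt0 ha23.symm ha0.symm hc23.symm hc0.symm hac
  refine ⟨k⁻¹ * g, M22_iff.mpr ⟨M24.mul_mem (M24.inv_mem hk) hg, ?_, ?_⟩, ?_, ?_⟩
  · rw [Equiv.Perm.mul_apply, g0, Equiv.Perm.inv_eq_iff_eq, k0]
  · rw [Equiv.Perm.mul_apply, g1, Equiv.Perm.inv_eq_iff_eq, k1]
  · rw [Equiv.Perm.mul_apply, g2, Equiv.Perm.inv_eq_iff_eq, k2]
  · rw [Equiv.Perm.mul_apply, g3, Equiv.Perm.inv_eq_iff_eq, k3]

theorem exists_other (F : Finset GolayPt) (h : F.card < 24) : ∃ a, a ∉ F := exists_notMem_pt F h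

theorem cent_M22 {z : Equiv.Perm GolayPt} (hz : z ∈ M24)
    (hc : ∀ x ∈ Spor.M22, z * x = x * z) : z = 1 := by
  classical
  have hcomm : ∀ x ∈ Spor.M22, ∀ p, z (x p) = x (z p) := by
    intro x hx p
    have := congrArg (fun σ : Equiv.Perm GolayPt => σ p) (hc x hx)
    simpa [Equiv.Perm.mul_apply] using this
  have key : ∀ p, p ≠ pt 23 → p ≠ pt 0 → z p = p := by
    intro p hp23 hp0
    -- two further points
    obtain ⟨b, hb⟩ := exists_other {pt 23, pt 0, p, z p} (lt_of_le_of_lt (Finset.card_le_four) (by norm_num))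
    simp only [Finset.mem_insert, Finset.mem_singleton, not_or] at hb
    obtain ⟨hb23, hb0, hbp, hbz⟩ := hb
    obtain ⟨c, hc'⟩ := exists_other {pt 23, pt 0, p, z p, b}
      (lt_of_le_of_lt (Finset.card_le_five) (by norm_num))
    simp only [Finset.mem_insert, Finset.mem_singleton, not_or] at hc'
    obtain ⟨hc23, hc0, hcp, hcz, hcb⟩ := hc'
    have hfixed : ∀ f, (∀ x ∈ Spor.M22, x f = f) → z p ≠ f := by
      intro f hf hzp
      -- an element moving `p`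
      obtain ⟨x, hx, _, hxp⟩ := M22_trans2 hb23 hb0 hp23 hp0 hc23 hc0 hbp (Ne.symm hcb)
      have h1 := hcomm x hx p
      rw [hzp, hf x hx, ← hzp] at h1
      have h2 := z.injective h1
      rw [hxp] at h2
      exact hcp h2
    have hz23 : z p ≠ pt 23 := hfixed _ fun x hx => (M22_iff.mp hx).2.1
    have hz0 : z p ≠ pt 0 := hfixed _ fun x hx => (M22_iff.mp hx).2.2
    by_contra hne
    obtain ⟨x, hx, hxp, hxq⟩ := M22_trans2 hp23 hp0 hz23 hz0 hb23 hb0 (Ne.symm hne) (Ne.symm hbp)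
    have h1 := hcomm x hx p
    rw [hxp, hxq] at h1
    exact hbz h1.symm
  apply eq_one_of_nine hz
  have hsub : ({pt 23, pt 0} : Finset GolayPt)ᶜ ⊆ fixF z := by
    intro p hp
    simp only [Finset.mem_compl, Finset.mem_insert, Finset.mem_singleton, not_or] at hp
    exact mem_fixF.mpr (key p hp.1 hp.2)
  have := Finset.card_le_card hsub
  rw [Finset.card_compl, Finset.card_pair pt23_ne_pt0, card_Pt] at this
  omega

theorem isN_mul {a b : Equiv.Perm GolayPt} (ha : isN a) (hb : isN b) : isN (a * b) := by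
  refine ⟨M24.mul_mem ha.1 hb.1, ?_⟩
  rcases ha.2 with ⟨a1, a2⟩ | ⟨a1, a2⟩ <;> rcases hb.2 with ⟨b1, b2⟩ | ⟨b1, b2⟩ <;>
    simp [Equiv.Perm.mul_apply, a1, a2, b1, b2]

theorem isN_inv {a : Equiv.Perm GolayPt} (ha : isN a) : isN a⁻¹ := by
  refine ⟨M24.inv_mem ha.1, ?_⟩
  rcases ha.2 with ⟨a1, a2⟩ | ⟨a1, a2⟩
  · left; exact ⟨by rw [Equiv.Perm.inv_eq_iff_eq, a1], by rw [Equiv.Perm.inv_eq_iff_eq, a2]⟩
  · right; exact ⟨by rw [Equiv.Perm.inv_eq_iff_eq, a2], by rw [Equiv.Perm.inv_eq_iff_eq, a1]⟩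

theorem isN_conj {n x : Equiv.Perm GolayPt} (hn : isN n) (hx : x ∈ Spor.M22) :
    n * x * n⁻¹ ∈ Spor.M22 := by
  obtain ⟨x1, x2, x3⟩ := M22_iff.mp hx
  have hi := isN_inv hn
  refine M22_iff.mpr ⟨M24.mul_mem (M24.mul_mem hn.1 x1) (M24.inv_mem hn.1), ?_, ?_⟩
  · rcases hn.2 with ⟨a1, a2⟩ | ⟨a1, a2⟩
    · have : n⁻¹ (pt 23) = pt 23 := by rw [Equiv.Perm.inv_eq_iff_eq, a1]
      simp [Equiv.Perm.mul_apply, this, x2, a1]
    · have : n⁻¹ (pt 23) = pt 0 := by rw [Equiv.Perm.inv_eq_iff_eq, a2]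
      simp [Equiv.Perm.mul_apply, this, x3, a2]
  · rcases hn.2 with ⟨a1, a2⟩ | ⟨a1, a2⟩
    · have : n⁻¹ (pt 0) = pt 0 := by rw [Equiv.Perm.inv_eq_iff_eq, a2]
      simp [Equiv.Perm.mul_apply, this, x3, a2]
    · have : n⁻¹ (pt 0) = pt 23 := by rw [Equiv.Perm.inv_eq_iff_eq, a1]
      simp [Equiv.Perm.mul_apply, this, x2, a1]

/-- conjugation by `n` and by `h ∈ M22` agree on `M22` only if `n = h` -/
theorem eq_of_conj_eq {n h : Equiv.Perm GolayPt} (hn : n ∈ M24) (hh : h ∈ M24)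
    (e : ∀ x ∈ Spor.M22, n * x * n⁻¹ = h * x * h⁻¹) : n = h := by
  have : h⁻¹ * n = 1 := by
    apply cent_M22 (M24.mul_mem (M24.inv_mem hh) hn)
    intro x hx
    have := e x hx
    calc h⁻¹ * n * x = h⁻¹ * (n * x * n⁻¹) * n := by group
      _ = h⁻¹ * (h * x * h⁻¹) * n := by rw [this]
      _ = x * (h⁻¹ * n) := by group
  exact (inv_mul_eq_one.mp this).symm

theorem inner_iff_M22 (β : MulAut Spor.M22) {n : Equiv.Perm GolayPt} (hn : isN n)
    (e : ∀ x : Spor.M22, ((β x : Spor.M22) : Equiv.Perm GolayPt) = n * x * n⁻¹) :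
    β ∈ (MulAut.conj : Spor.M22 →* MulAut Spor.M22).range ↔ n (pt 23) = pt 23 := by
  constructor
  · rintro ⟨h, rfl⟩
    have : n = (h : Equiv.Perm GolayPt) := by
      apply eq_of_conj_eq hn.1 (M22_iff.mp h.2).1
      intro x hx
      rw [← e ⟨x, hx⟩]
      rfl
    rw [this]; exact (M22_iff.mp h.2).2.1
  · intro h23
    have h0 : n (pt 0) = pt 0 := by
      rcases hn.2 with ⟨_, a2⟩ | ⟨a1, _⟩
      · exact a2
      · exact absurd (h23.symm.trans a1) pt23_ne_pt0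
    refine ⟨⟨n, M22_iff.mpr ⟨hn.1, h23, h0⟩⟩, ?_⟩
    ext x : 1
    apply Subtype.ext
    rw [e x]
    rfl

noncomputable def conjAut22 (n : Equiv.Perm GolayPt) (hn : isN n) : MulAut Spor.M22 where
  toFun x := ⟨n * x * n⁻¹, isN_conj hn x.2⟩
  invFun x := ⟨n⁻¹ * x * n, by
    have := isN_conj (isN_inv hn) x.2
    rwa [inv_inv] at this⟩
  left_inv x := by
    apply Subtype.ext
    show n⁻¹ * (n * x * n⁻¹) * n = x
    group
  right_inv x := by
    apply Subtype.ext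
    show n * (n⁻¹ * x * n) * n⁻¹ = x
    group
  map_mul' x y := by
    apply Subtype.ext
    show n * (x * y) * n⁻¹ = (n * x * n⁻¹) * (n * y * n⁻¹)
    group

theorem card_out_M22 :
    Nat.card (MulAut Spor.M22 ⧸ (MulAut.conj : Spor.M22 →* MulAut Spor.M22).range) = 2 := by
  obtain ⟨g0, hg0, g1, g2⟩ := move2 pt23_ne_pt0.symm
  have hN0 : isN g0 := ⟨hg0, Or.inr ⟨g2, g1⟩⟩
  apply Subgroup.index_eq_two_iff.mpr
  refine ⟨conjAut22 g0 hN0, ?_⟩
  intro b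
  obtain ⟨n, hn, e⟩ := aut_M22 b
  have e2 : ∀ x : Spor.M22, (((b * conjAut22 g0 hN0) x : Spor.M22) : Equiv.Perm GolayPt) =
      (n * g0) * x * (n * g0)⁻¹ := by
    intro x
    rw [MulAut.mul_apply, e]
    show n * (g0 * x * g0⁻¹) * n⁻¹ = _
    group
  rw [inner_iff_M22 b hn e, inner_iff_M22 _ (isN_mul hn hN0) e2, Equiv.Perm.mul_apply, g2]
  rcases hn.2 with ⟨a1, a2⟩ | ⟨a1, a2⟩
  · right
    exact ⟨a1, by rw [a2]; exact pt23_ne_pt0.symm⟩
  · left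
    exact ⟨a2, by rw [a1]; exact pt23_ne_pt0.symm⟩

theorem isN_of_stab {b : Equiv.Perm GolayPt} (hb : b ∈ M24)
    (hs : b • ({pt 23, pt 0} : Finset GolayPt) = {pt 23, pt 0}) : isN b := by
  have m1 : b (pt 23) ∈ b • ({pt 23, pt 0} : Finset GolayPt) :=
    (apply_mem_smul_iff _ _ _).mpr (by simp)
  have m0 : b (pt 0) ∈ b • ({pt 23, pt 0} : Finset GolayPt) :=
    (apply_mem_smul_iff _ _ _).mpr (by simp)
  rw [hs] at m1 m0
  simp only [Finset.mem_insert, Finset.mem_singleton] at m1 m0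
  have hne : b (pt 23) ≠ b (pt 0) := fun h => pt23_ne_pt0 (b.injective h)
  refine ⟨hb, ?_⟩
  rcases m1 with m1 | m1 <;> rcases m0 with m0 | m0
  · exact absurd (m1.trans m0.symm) hne
  · exact Or.inl ⟨m1, m0⟩
  · exact Or.inr ⟨m1, m0⟩
  · exact absurd (m1.trans m0.symm) hne

theorem stab_of_isN {b : Equiv.Perm GolayPt} (hb : isN b) :
    b • ({pt 23, pt 0} : Finset GolayPt) = {pt 23, pt 0} := by
  rw [Finset.smul_finset_insert, Finset.smul_finset_singleton, Equiv.Perm.smul_def,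
    Equiv.Perm.smul_def]
  rcases hb.2 with ⟨a1, a2⟩ | ⟨a1, a2⟩
  · rw [a1, a2]
  · rw [a1, a2, Finset.pair_comm]

theorem relIndex_M22 {g : Equiv.Perm GolayPt} (hg : isN g) (h1 : g (pt 23) = pt 0) :
    Spor.M22.relIndex (M24 ⊓ MulAction.stabilizer (Equiv.Perm GolayPt)
      ({pt 23, pt 0} : Finset GolayPt)) = 2 := by
  have h2 : g (pt 0) = pt 23 := by
    rcases hg.2 with ⟨a1, _⟩ | ⟨_, a2⟩
    · exact absurd (a1.symm.trans h1) pt23_ne_pt0
    · exact a2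
  apply Subgroup.index_eq_two_iff.mpr
  refine ⟨⟨g, hg.1, stab_of_isN hg⟩, ?_⟩
  rintro ⟨b, hb1, hb2⟩
  have hb := isN_of_stab hb1 hb2
  show Xor (b * g ∈ Spor.M22) (b ∈ Spor.M22)
  rw [M22_iff, M22_iff]
  rcases hb.2 with ⟨a1, a2⟩ | ⟨a1, a2⟩
  · right
    refine ⟨⟨hb1, a1, a2⟩, ?_⟩
    rintro ⟨_, c1, _⟩
    rw [Equiv.Perm.mul_apply, h1, a2] at c1
    exact pt23_ne_pt0 c1.symm
  · left
    refine ⟨⟨M24.mul_mem hb1 hg.1, ?_, ?_⟩, ?_⟩
    · rw [Equiv.Perm.mul_apply, h1, a2]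
    · rw [Equiv.Perm.mul_apply, h2, a1]
    · rintro ⟨_, c1, _⟩
      rw [a1] at c1
      exact pt23_ne_pt0 c1.symm

end Cfsg.Agent.Lib.Helper8
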