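import Cfsg.Agent.Lib.Helper8.Norm

set_option autoImplicit false

namespace Cfsg.Agent.Lib.Helper8

open Cfsg
open scoped Pointwise

theorem pair_trans {L Ts K : List ℕ} {R : List (ℕ × ℕ)} {parP gnP levP : ℕ}
    (h : codeOrbCheck L Ts K R parP gnP levP = true) {g : Equiv.Perm GolayPt} (hg : g ∈ M24)
    {s s' : Finset GolayPt} (hs : s ∈ supports (golayCode : Set (GolayPt → ZMod 2)))
    (hs' : s' ∈ supports (golayCode : Set (GolayPt → ZMod 2)))
    (hK : ∀ a ∈ K, (g • s ∩ setOf a).card = (g • s' ∩ setOf a).card) :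
    ∃ k ∈ M24, k • s = s' ∧ g * k * g⁻¹ ∈ GInv L := by
  obtain ⟨x, hx, hxs⟩ := codeOrb_trans h (smul_mem_supports hg hs) (smul_mem_supports hg hs') hK
  refine ⟨g⁻¹ * x * g, conj_mem hg hx.1, conj_smul hxs, ?_⟩
  have : g * (g⁻¹ * x * g) * g⁻¹ = x := by group
  rw [this]; exact hx

theorem card_smul_inter_pt {g : Equiv.Perm GolayPt} {x : GolayPt} {i : ℕ} (hi : i < 24)
    (hgx : g x = pt i) (s : Finset GolayPt) :
    (g • s ∩ setOf (2 ^ i)).card = if x ∈ s then 1 else 0 := by
  by_cases h : x ∈ s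
  · rw [if_pos h, card_inter_pt_of_mem hi]
    rw [← hgx, apply_mem_smul_iff]; exact h
  · rw [if_neg h, card_inter_pt_of_notMem hi]
    rw [← hgx, apply_mem_smul_iff]; exact h

theorem card_smul_inter_set {g : Equiv.Perm GolayPt} {t : Finset GolayPt} {m : ℕ}
    (h : g • t = setOf m) (s : Finset GolayPt) : (g • s ∩ setOf m).card = (t ∩ s).card := by
  rw [← h, card_smul_inter, Finset.inter_comm]

theorem count_transport {X : Type*} [MulAction (Equiv.Perm GolayPt) X] (g : Equiv.Perm GolayPt)
    (P P0 : X → Prop) (h : ∀ s, P s ↔ P0 (g • s)) : {s | P s}.ncard = {s | P0 s}.ncard := by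
  rw [← ncard_smul_pred g P0]
  congr 1
  ext s
  exact h s

theorem forall_code (Q : Finset GolayPt → Prop) (q : ℕ → Bool)
    (h : ∀ m, q m = true → Q (setOf m)) (hq : allBelow 4096 (fun c => q (cwOf c)) = true) :
    ∀ s ∈ supports (golayCode : Set (GolayPt → ZMod 2)), Q s := by
  intro s hs
  obtain ⟨c, hc, rfl⟩ := exists_of_mem_supports hs
  have := of_allBelow hq c hc
  rw [cwOf_eq hc] at this
  exact h _ this

theorem inter_setOf_eq_iff {a b m : ℕ} (ha : a < 2 ^ 24) (hb : b < 2 ^ 24) :
    setOf a ∩ setOf m = setOf b ↔ a &&& m = b := by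
  rw [← setOf_and, setOf_inj (lt_of_le_of_lt Nat.and_le_left ha) hb]

theorem smul_inter_eq_iff (g : Equiv.Perm GolayPt) (a b c : Finset GolayPt) :
    g • a ∩ g • b = g • c ↔ a ∩ b = c := by
  rw [← Finset.smul_finset_inter]
  exact (MulAction.injective g).eq_iff

theorem mem_GInv_conj {g k : Equiv.Perm GolayPt} (hg : g ∈ M24) (L : List ℕ) :
    g * k * g⁻¹ ∈ GInv L ↔ k ∈ M24 ∧ ∀ m ∈ L, Inv (g * k * g⁻¹) m := by
  rw [mem_GInv, conj_mem_M24_iff hg]

/-- number of octads whose mask satisfies `q` -/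
def cntOct (q : ℕ → Bool) : ℕ :=
  countBelow 4096 (fun c => Nat.beq (popF (cwOf c)) 8 && q (cwOf c))

/-- number of dodecads whose mask satisfies `q` -/
def cntDod (q : ℕ → Bool) : ℕ :=
  countBelow 4096 (fun c => Nat.beq (popF (cwOf c)) 12 && q (cwOf c))

theorem ncard_oct (Q : Finset GolayPt → Prop) (q : ℕ → Bool)
    (h : ∀ m, q m = true ↔ Q (setOf m)) : {s | s ∈ octads ∧ Q s}.ncard = cntOct q :=
  ncard_octads_filter Q q h

theorem ncard_dod (Q : Finset GolayPt → Prop) (q : ℕ → Bool)
    (h : ∀ m, q m = true ↔ Q (setOf m)) : {s | s ∈ dodecads ∧ Q s}.ncard = cntDod q :=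
  ncard_dodecads_filter Q q h

theorem card_symmDiff_add (o o' : Finset GolayPt) :
    (symmDiff o o').card + 2 * (o ∩ o').card = o.card + o'.card := by
  have e1 : symmDiff o o' = (o \ o') ∪ (o' \ o) := rfl
  have e2 : Disjoint (o \ o') (o' \ o) := by
    rw [Finset.disjoint_left]
    intro x hx hx'
    simp only [Finset.mem_sdiff] at hx hx'
    exact hx.2 hx'.1
  rw [e1, Finset.card_union_of_disjoint e2]
  have e3 := Finset.card_sdiff_add_card_inter o o'
  have e4 := Finset.card_sdiff_add_card_inter o' o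
  rw [Finset.inter_comm o' o] at e4
  omega

/-- moving an octad and a code word at the same time -/
theorem norm_O_code {o s : Finset GolayPt} (ho : o ∈ octads)
    (hs : s ∈ supports (golayCode : Set (GolayPt → ZMod 2))) {m : ℕ}
    (hm : setOf m ∈ supports (golayCode : Set (GolayPt → ZMod 2))) (hc : s.card = (setOf m).card)
    (hi : (o ∩ s).card = (setOf 8536111 ∩ setOf m).card) :
    ∃ g ∈ M24, g • o = setOf 8536111 ∧ g • s = setOf m := by
  obtain ⟨g, hg, hgo⟩ := norm_O ho
  obtain ⟨k, hk, h2⟩ := codeOrb_trans orbO (smul_mem_supports hg hs) hm (by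
    simp only [List.mem_cons, List.not_mem_nil, or_false, forall_eq_or_imp, forall_eq,
      card_inter_full, Finset.card_smul_finset, card_smul_inter_set hgo]
    exact ⟨hc, by rw [hi, Finset.inter_comm]⟩)
  refine ⟨k * g, M24.mul_mem hk.1 hg, ?_, by rw [mul_smul, h2]⟩
  rw [mul_smul, hgo]
  exact hk.2 _ (by simp)

/-- moving a dodecad and a code word at the same time -/
theorem norm_D_code {o s : Finset GolayPt} (ho : o ∈ dodecads)
    (hs : s ∈ supports (golayCode : Set (GolayPt → ZMod 2))) {m : ℕ}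
    (hm : setOf m ∈ supports (golayCode : Set (GolayPt → ZMod 2))) (hc : s.card = (setOf m).card)
    (hi : (o ∩ s).card = (setOf 340831 ∩ setOf m).card) :
    ∃ g ∈ M24, g • o = setOf 340831 ∧ g • s = setOf m := by
  obtain ⟨g, hg, hgo⟩ := norm_D ho
  obtain ⟨k, hk, h2⟩ := codeOrb_trans orbD (smul_mem_supports hg hs) hm (by
    simp only [List.mem_cons, List.not_mem_nil, or_false, forall_eq_or_imp, forall_eq,
      card_inter_full, Finset.card_smul_finset, card_smul_inter_set hgo]
    exact ⟨hc, by rw [hi, Finset.inter_comm]⟩)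
  refine ⟨k * g, M24.mul_mem hk.1 hg, ?_, by rw [mul_smul, h2]⟩
  rw [mul_smul, hgo]
  exact hk.2 _ (by simp)

theorem card_OO0 : Nat.card (GInv [337856, 8536111]) = 10752 := by
  have h := codeOrb_card' orbO (prog := []) (by decide +kernel) (m := 337856)
    (by decide +kernel) (by norm_num)
  rw [card_O] at h
  have e : countBelow 4096 (fun c => sameK [16777215, 8536111] 337856 (cwOf c)) = 30 := by
    decide +kernel
  rw [e] at h
  omega

theorem card_OO4 : Nat.card (GInv [5279, 8536111]) = 1152 := by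
  have h := codeOrb_card' orbO (prog := []) (by decide +kernel) (m := 5279)
    (by decide +kernel) (by norm_num)
  rw [card_O] at h
  have e : countBelow 4096 (fun c => sameK [16777215, 8536111] 5279 (cwOf c)) = 280 := by
    decide +kernel
  rw [e] at h
  omega

theorem card_OO2 : Nat.card (GInv [15777, 8536111]) = 720 := by
  have h := codeOrb_card' orbO (prog := []) (by decide +kernel) (m := 15777)
    (by decide +kernel) (by norm_num)
  rw [card_O] at h
  have e : countBelow 4096 (fun c => sameK [16777215, 8536111] 15777 (cwOf c)) = 448 := by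
    decide +kernel
  rw [e] at h
  omega

end Cfsg.Agent.Lib.Helper8
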