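import Cfsg.Agent.Lib.Helper8.GolayFacts

set_option autoImplicit false

namespace Cfsg.Agent.Lib.Helper8

open Cfsg
open scoped Pointwise

/-- image of the index `i` under the packed table `T` (5 bits per entry) -/
def img (T i : ℕ) : ℕ := (T >>> (5 * i)) &&& 31

/-- image of a mask under the packed table `T` -/
def applyMask (T m : ℕ) : ℕ :=
  Nat.rec (motive := fun _ => ℕ) 0 (fun i acc => acc ||| (((m >>> i) &&& 1) <<< img T i)) 24

theorem testBit_applyAux (T m j n : ℕ) :
    (Nat.rec (motive := fun _ => ℕ) 0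
      (fun i acc => acc ||| (((m >>> i) &&& 1) <<< img T i)) n : ℕ).testBit j = true ↔
      ∃ i < n, m.testBit i = true ∧ img T i = j := by
  induction n with
  | zero => simp
  | succ k ih =>
    show ((Nat.rec (motive := fun _ => ℕ) 0
      (fun i acc => acc ||| (((m >>> i) &&& 1) <<< img T i)) k : ℕ) |||
        (((m >>> k) &&& 1) <<< img T k)).testBit j = true ↔ _
    rw [Nat.testBit_or, Bool.or_eq_true, ih]
    have hbit : ((((m >>> k) &&& 1) <<< img T k).testBit j = true) ↔
        (m.testBit k = true ∧ img T k = j) := by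
      have h1 : (m >>> k) &&& 1 = if m.testBit k = true then 1 else 0 := by
        rw [Nat.testBit, Nat.and_comm]
        rcases Nat.mod_two_eq_zero_or_one (m >>> k) with h | h <;> simp [h]
      rw [h1]
      by_cases hb : m.testBit k = true
      · simp only [hb, if_true, true_and]
        rw [Nat.shiftLeft_eq, Nat.one_mul, Nat.testBit_two_pow]
        simp
      · simp [hb]
    rw [hbit]
    constructor
    · rintro (⟨i, hi, h⟩ | h)
      · exact ⟨i, Nat.lt_succ_of_lt hi, h⟩
      · exact ⟨k, Nat.lt_succ_self k, h⟩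
    · rintro ⟨i, hi, h⟩
      rcases Nat.lt_succ_iff_lt_or_eq.mp hi with h' | h'
      · exact Or.inl ⟨i, h', h⟩
      · subst h'; exact Or.inr h

theorem testBit_applyMask (T m j : ℕ) :
    (applyMask T m).testBit j = true ↔ ∃ i < 24, m.testBit i = true ∧ img T i = j :=
  testBit_applyAux T m j 24

/-- the table is a permutation of the 24 indices -/
def validT (T : ℕ) : Bool := Nat.beq (applyMask T 16777215) 16777215

theorem testBit_full (j : ℕ) : (16777215 : ℕ).testBit j = true ↔ j < 24 := by
  have h : (16777215 : ℕ) = 2 ^ 24 - 1 := by norm_num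
  rw [h, Nat.testBit_two_pow_sub_one]
  simp

theorem validT_iff (T : ℕ) :
    validT T = true ↔ ∀ j, j < 24 ↔ ∃ i < 24, img T i = j := by
  rw [validT, Nat.beq_eq]
  constructor
  · intro h j
    rw [← testBit_full j, ← h, testBit_applyMask]
    constructor
    · rintro ⟨i, hi, _, h'⟩; exact ⟨i, hi, h'⟩
    · rintro ⟨i, hi, h'⟩; exact ⟨i, hi, (testBit_full i).mpr hi, h'⟩
  · intro h
    apply Nat.eq_of_testBit_eq
    intro j
    rw [Bool.eq_iff_iff, testBit_applyMask, testBit_full, h j]
    constructor
    · rintro ⟨i, hi, _, h'⟩; exact ⟨i, hi, h'⟩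
    · rintro ⟨i, hi, h'⟩; exact ⟨i, hi, (testBit_full i).mpr hi, h'⟩

theorem img_lt {T : ℕ} (h : validT T = true) {i : ℕ} (hi : i < 24) : img T i < 24 :=
  ((validT_iff T).mp h _).mpr ⟨i, hi, rfl⟩

/-- the map of points given by a table -/
def fnOf (T : ℕ) : GolayPt → GolayPt := fun p => pt (img T (idx p))

theorem fnOf_bijective {T : ℕ} (h : validT T = true) : Function.Bijective (fnOf T) := by
  rw [← Finite.surjective_iff_bijective]
  intro q
  obtain ⟨i, hi, hq⟩ := ((validT_iff T).mp h (idx q)).mp (idx_lt q)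
  refine ⟨pt i, ?_⟩
  rw [fnOf, idx_pt hi, hq, pt_idx]

open Classical in
/-- the permutation of the 24 points given by a packed table -/
noncomputable def toPerm (T : ℕ) : Equiv.Perm GolayPt :=
  if h : Function.Bijective (fnOf T) then Equiv.ofBijective _ h else 1

theorem toPerm_apply {T : ℕ} (h : validT T = true) (p : GolayPt) :
    toPerm T p = pt (img T (idx p)) := by
  rw [toPerm, dif_pos (fnOf_bijective h)]
  rfl

theorem idx_toPerm {T : ℕ} (h : validT T = true) (p : GolayPt) :
    idx (toPerm T p) = img T (idx p) := by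
  rw [toPerm_apply h, idx_pt (img_lt h (idx_lt p))]

theorem toPerm_pt {T : ℕ} (h : validT T = true) {i : ℕ} (hi : i < 24) :
    toPerm T (pt i) = pt (img T i) := by
  rw [toPerm_apply h, idx_pt hi]

theorem toPerm_smul_setOf {T : ℕ} (h : validT T = true) (m : ℕ) :
    toPerm T • setOf m = setOf (applyMask T m) := by
  ext q
  rw [Finset.mem_smul_finset, mem_setOf, testBit_applyMask]
  constructor
  · rintro ⟨p, hp, rfl⟩
    exact ⟨idx p, idx_lt p, mem_setOf.mp hp, (idx_toPerm h p).symm⟩
  · rintro ⟨i, hi, hm, hq⟩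
    refine ⟨pt i, ?_, ?_⟩
    · rw [mem_setOf, idx_pt hi]; exact hm
    · rw [Equiv.Perm.smul_def, toPerm_pt h hi, hq, pt_idx]

theorem applyMask_lt {T : ℕ} (h : validT T = true) (m : ℕ) : applyMask T m < 2 ^ 24 := by
  apply Nat.lt_pow_two_of_testBit
  intro j hj
  by_contra hc
  rw [Bool.not_eq_false, testBit_applyMask] at hc
  obtain ⟨i, hi, _, hq⟩ := hc
  have := img_lt h hi
  omega

theorem empty_mem_supports : (∅ : Finset GolayPt) ∈ supports (golayCode : Set (GolayPt → ZMod 2)) := by
  rw [← setOf_zero, setOf_mem_supports_iff (by norm_num)]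
  decide +kernel

theorem smul_xorSel_mem (σ : Equiv.Perm GolayPt) (l : List ℕ)
    (h : ∀ b ∈ l, σ • setOf b ∈ supports (golayCode : Set (GolayPt → ZMod 2))) (c : ℕ) :
    σ • setOf (xorSel l c) ∈ supports (golayCode : Set (GolayPt → ZMod 2)) := by
  induction l generalizing c with
  | nil => rw [xorSel_nil, setOf_zero, Finset.smul_finset_empty]; exact empty_mem_supports
  | cons x l ih =>
    rw [xorSel_cons, setOf_xor, Finset.smul_finset_symmDiff]
    apply symmDiff_mem_supports
    · rcases and_one_cases c with h' | h' <;> simp only [h', Nat.zero_mul, Nat.one_mul]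
      · rw [setOf_zero, Finset.smul_finset_empty]; exact empty_mem_supports
      · exact h x (by simp)
    · exact ih (fun b hb => h b (by simp [hb])) _

/-- a permutation carrying the basis words to code words lies in `M24` -/
theorem mem_M24_of_basis (σ : Equiv.Perm GolayPt)
    (h : ∀ b ∈ basisL, σ • setOf b ∈ supports (golayCode : Set (GolayPt → ZMod 2))) : σ ∈ M24 := by
  rw [M24, setSystemAut, MulAction.mem_stabilizer_set_iff_smul_set_subset finite_supports]
  rintro _ ⟨s, hs, rfl⟩
  obtain ⟨c, _, rfl⟩ := exists_of_mem_supports hs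
  exact smul_xorSel_mem σ basisL h c

/-- the Boolean test for a table to give an element of `M24` -/
def inM24 (T : ℕ) : Bool := validT T && basisL.all fun b => isCode (applyMask T b)

theorem validT_of_inM24 {T : ℕ} (h : inM24 T = true) : validT T = true := by
  rw [inM24, Bool.and_eq_true] at h; exact h.1

theorem toPerm_mem_M24 {T : ℕ} (h : inM24 T = true) : toPerm T ∈ M24 := by
  rw [inM24, Bool.and_eq_true] at h
  apply mem_M24_of_basis
  intro b hb
  rw [toPerm_smul_setOf h.1, setOf_mem_supports_iff (applyMask_lt h.1 _)]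
  exact List.all_eq_true.mp h.2 b hb

theorem smul_mem_supports {g : Equiv.Perm GolayPt} (hg : g ∈ M24) {s : Finset GolayPt}
    (hs : s ∈ supports (golayCode : Set (GolayPt → ZMod 2))) :
    g • s ∈ supports (golayCode : Set (GolayPt → ZMod 2)) := by
  have h : g • supports (golayCode : Set (GolayPt → ZMod 2)) = supports (golayCode : Set (GolayPt → ZMod 2)) := hg
  rw [← h]
  exact Set.smul_mem_smul_set hs

theorem smul_mem_octads {g : Equiv.Perm GolayPt} (hg : g ∈ M24) {s : Finset GolayPt}
    (hs : s ∈ octads) : g • s ∈ octads :=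
  ⟨smul_mem_supports hg hs.1, by rw [Finset.card_smul_finset]; exact hs.2⟩

theorem smul_mem_dodecads {g : Equiv.Perm GolayPt} (hg : g ∈ M24) {s : Finset GolayPt}
    (hs : s ∈ dodecads) : g • s ∈ dodecads :=
  ⟨smul_mem_supports hg hs.1, by rw [Finset.card_smul_finset]; exact hs.2⟩

/-- a permutation given pointwise by a table is `toPerm` of that table -/
theorem eq_toPerm {σ : Equiv.Perm GolayPt} {T : ℕ} (h : validT T = true)
    (hσ : ∀ p, σ p = pt (img T (idx p))) : σ = toPerm T := by
  ext p : 1
  rw [hσ, toPerm_apply h]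

end Cfsg.Agent.Lib.Helper8
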