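import Cfsg.Agent.Lib.Helper8.Pair

set_option autoImplicit false

namespace Cfsg.Agent.Lib.Helper8

open Cfsg
open scoped Pointwise

theorem card_eq_four' {s : Finset GolayPt} (h : s.card = 4) :
    ∃ a b c d, a ≠ b ∧ a ≠ c ∧ b ≠ c ∧ a ≠ d ∧ b ≠ d ∧ c ≠ d ∧ s = {a, b, c, d} := by
  obtain ⟨a, t, hat, rfl, ht⟩ := Finset.card_eq_succ.mp h
  obtain ⟨b, c, d, hbc, hbd, hcd, rfl⟩ := Finset.card_eq_three.mp ht
  simp only [Finset.mem_insert, Finset.mem_singleton, not_or] at hat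
  exact ⟨a, b, c, d, hat.1, hat.2.1, hbc, hat.2.2, hbd, hcd, rfl⟩

theorem setOf_2 : setOf 8388609 = {pt 23, pt 0} := by decide +kernel
theorem setOf_3 : setOf 8388611 = {pt 23, pt 0, pt 1} := by decide +kernel
theorem setOf_4 : setOf 8388615 = {pt 23, pt 0, pt 1, pt 2} := by decide +kernel
theorem setOf_5 : setOf 8388623 = {pt 23, pt 0, pt 1, pt 2, pt 3} := by decide +kernel

theorem norm_set2 {s : Finset GolayPt} (h : s.card = 2) : ∃ g ∈ M24, g • s = setOf 8388609 := by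
  obtain ⟨a, b, hab, rfl⟩ := Finset.card_eq_two.mp h
  obtain ⟨g, hg, h0, h1⟩ := move2 hab
  refine ⟨g, hg, ?_⟩
  rw [setOf_2, Finset.smul_finset_insert, Finset.smul_finset_singleton, Equiv.Perm.smul_def,
    Equiv.Perm.smul_def, h0, h1]

theorem norm_set3 {s : Finset GolayPt} (h : s.card = 3) : ∃ g ∈ M24, g • s = setOf 8388611 := by
  obtain ⟨a, b, c, hab, hac, hbc, rfl⟩ := Finset.card_eq_three.mp h
  obtain ⟨g, hg, h0, h1, h2⟩ := move3 hab hac hbc
  refine ⟨g, hg, ?_⟩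
  rw [setOf_3, Finset.smul_finset_insert, Finset.smul_finset_insert, Finset.smul_finset_singleton,
    Equiv.Perm.smul_def, Equiv.Perm.smul_def, Equiv.Perm.smul_def, h0, h1, h2]

theorem norm_set4 {s : Finset GolayPt} (h : s.card = 4) : ∃ g ∈ M24, g • s = setOf 8388615 := by
  obtain ⟨a, b, c, d, hab, hac, hbc, had, hbd, hcd, rfl⟩ := card_eq_four' h
  obtain ⟨g, hg, h0, h1, h2, h3⟩ := move4 hab hac hbc had hbd hcd
  refine ⟨g, hg, ?_⟩
  rw [setOf_4, Finset.smul_finset_insert, Finset.smul_finset_insert, Finset.smul_finset_insert,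
    Finset.smul_finset_singleton, Equiv.Perm.smul_def, Equiv.Perm.smul_def, Equiv.Perm.smul_def,
    Equiv.Perm.smul_def, h0, h1, h2, h3]

/-- an octad containing the five base points is the base octad -/
theorem eq_O0_of_subset {o : Finset GolayPt} (ho : o ∈ octads) (h : setOf 8388623 ⊆ o) :
    o = setOf 8536111 := by
  by_contra hne
  have h1 := octads_inter_le ho O0_mem hne
  have h2 : setOf 8388623 ⊆ setOf 8536111 := (subset_iff_and (by norm_num)).mpr (by decide)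
  have h3 := Finset.card_le_card (Finset.subset_inter h h2)
  have h4 : (setOf 8388623).card = 5 := by rw [card_setOf]; decide +kernel
  omega

/-- five points of an octad can be moved to the base points, the octad going to the base octad -/
theorem norm_O_pts5 {o : Finset GolayPt} (ho : o ∈ octads) {x0 x1 x2 x3 x4 : GolayPt}
    (m0 : x0 ∈ o) (m1 : x1 ∈ o) (m2 : x2 ∈ o) (m3 : x3 ∈ o) (m4 : x4 ∈ o)
    (h01 : x0 ≠ x1) (h02 : x0 ≠ x2) (h12 : x1 ≠ x2)
    (h03 : x0 ≠ x3) (h13 : x1 ≠ x3) (h23 : x2 ≠ x3) (h04 : x0 ≠ x4) (h14 : x1 ≠ x4)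
    (h24 : x2 ≠ x4) (h34 : x3 ≠ x4) :
    ∃ g ∈ M24, g • o = setOf 8536111 ∧ g x0 = pt 23 ∧ g x1 = pt 0 ∧ g x2 = pt 1 ∧ g x3 = pt 2 ∧
      g x4 = pt 3 := by
  obtain ⟨g, hg, g0, g1, g2, g3, g4⟩ := move5 h01 h02 h12 h03 h13 h23 h04 h14 h24 h34
  refine ⟨g, hg, eq_O0_of_subset (smul_mem_octads hg ho) ?_, g0, g1, g2, g3, g4⟩
  rw [setOf_5]
  intro y hy
  simp only [Finset.mem_insert, Finset.mem_singleton] at hy
  rcases hy with rfl | rfl | rfl | rfl | rfl
  · rw [← g0, apply_mem_smul_iff]; exact m0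
  · rw [← g1, apply_mem_smul_iff]; exact m1
  · rw [← g2, apply_mem_smul_iff]; exact m2
  · rw [← g3, apply_mem_smul_iff]; exact m3
  · rw [← g4, apply_mem_smul_iff]; exact m4

/-- extending a subset inside a bigger set by one point -/
theorem exists_extra {s o : Finset GolayPt} (h : s.card < o.card) : ∃ x ∈ o, x ∉ s :=
  Finset.exists_mem_notMem_of_card_lt_card h

theorem norm_O_set4 {o s : Finset GolayPt} (ho : o ∈ octads) (hs : s ⊆ o) (h : s.card = 4) :
    ∃ g ∈ M24, g • o = setOf 8536111 ∧ g • s = setOf 8388615 := by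
  obtain ⟨e, heo, hes⟩ := exists_extra (s := s) (o := o) (by rw [h, ho.2]; norm_num)
  obtain ⟨a, b, c, d, hab, hac, hbc, had, hbd, hcd, rfl⟩ := card_eq_four' h
  simp only [Finset.mem_insert, Finset.mem_singleton, not_or] at hes
  obtain ⟨g, hg, hgo, h0, h1, h2, h3, _⟩ := norm_O_pts5 ho (x0 := a) (x1 := b) (x2 := c) (x3 := d)
    (x4 := e) (hs (by simp)) (hs (by simp)) (hs (by simp)) (hs (by simp)) heo hab hac hbc had hbd
    hcd (Ne.symm hes.1) (Ne.symm hes.2.1) (Ne.symm hes.2.2.1) (Ne.symm hes.2.2.2)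
  refine ⟨g, hg, hgo, ?_⟩
  rw [setOf_4, Finset.smul_finset_insert, Finset.smul_finset_insert, Finset.smul_finset_insert,
    Finset.smul_finset_singleton, Equiv.Perm.smul_def, Equiv.Perm.smul_def, Equiv.Perm.smul_def,
    Equiv.Perm.smul_def, h0, h1, h2, h3]

theorem norm_O_set2 {o s : Finset GolayPt} (ho : o ∈ octads) (hs : s ⊆ o) (h : s.card = 2) :
    ∃ g ∈ M24, g • o = setOf 8536111 ∧ g • s = setOf 8388609 := by
  obtain ⟨a, b, hab, rfl⟩ := Finset.card_eq_two.mp h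
  obtain ⟨g, hg, h0, h1, hgo⟩ := norm_PQ_code hab ho.1 O0_mem.1 (ho.2.trans O0_mem.2.symm)
    (iff_of_true' (hs (by simp)) ((pt_mem_setOf (by norm_num) _).mpr (by decide)))
    (iff_of_true' (hs (by simp)) ((pt_mem_setOf (by norm_num) _).mpr (by decide)))
  refine ⟨g, hg, hgo, ?_⟩
  rw [setOf_2, Finset.smul_finset_insert, Finset.smul_finset_singleton, Equiv.Perm.smul_def,
    Equiv.Perm.smul_def, h0, h1]

end Cfsg.Agent.Lib.Helper8
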