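import Cfsg.Agent.Lib.Helper8.Fam

set_option autoImplicit false

namespace Cfsg.Agent.Lib.Helper8

open Cfsg
open scoped Pointwise

def isSextetL (l : List ℕ) : Bool :=
  sortedL l && Nat.beq l.length 6 && l.all (fun a => Nat.beq (popF a) 4) &&
    l.all (fun a => l.all fun b => Nat.beq a b || isOctF (Nat.lor a b))

theorem isSextetL_sound (l : List ℕ) (h : isSextetL l = true) :
    sortedL l = true ∧ famOf l ∈ sextets := by
  simp only [isSextetL, Bool.and_eq_true, List.all_eq_true, Bool.or_eq_true, Nat.beq_eq] at h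
  obtain ⟨⟨⟨h1, h2⟩, h3⟩, h4⟩ := h
  refine ⟨h1, by rw [card_famOf h1, h2], ?_, ?_⟩
  · intro t ht
    obtain ⟨a, ha, rfl⟩ := mem_famOf.mp ht
    rw [card_setOf', h3 a ha]
  · intro t ht u hu htu
    obtain ⟨a, ha, rfl⟩ := mem_famOf.mp ht
    obtain ⟨b, hb, rfl⟩ := mem_famOf.mp hu
    rcases h4 a ha b hb with e | e
    · exact absurd (by rw [e]) htu
    · rw [isOctF_eq] at e
      rw [← setOf_or]
      exact setOf_mem_octads e

theorem smul_mem_sextets {g : Equiv.Perm GolayPt} (hg : g ∈ M24) {S : Finset (Finset GolayPt)}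
    (hS : S ∈ sextets) : g • S ∈ sextets := by
  obtain ⟨h1, h2, h3⟩ := hS
  refine ⟨by rw [Finset.card_smul_finset, h1], ?_, ?_⟩
  · intro t ht
    obtain ⟨t', ht', rfl⟩ := Finset.mem_smul_finset.mp ht
    rw [Finset.card_smul_finset, h2 t' ht']
  · intro t ht u hu htu
    obtain ⟨t', ht', rfl⟩ := Finset.mem_smul_finset.mp ht
    obtain ⟨u', hu', rfl⟩ := Finset.mem_smul_finset.mp hu
    rw [← Finset.smul_finset_union]
    exact smul_mem_octads hg (h3 t' ht' u' hu' (fun e => htu (by rw [e])))

theorem smul_mem_sextets_iff {g : Equiv.Perm GolayPt} (hg : g ∈ M24)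
    {S : Finset (Finset GolayPt)} : g • S ∈ sextets ↔ S ∈ sextets :=
  ⟨fun h => by simpa using smul_mem_sextets (M24.inv_mem hg) h, smul_mem_sextets hg⟩

theorem sext_disjoint {S : Finset (Finset GolayPt)} (hS : S ∈ sextets) {t u : Finset GolayPt}
    (ht : t ∈ S) (hu : u ∈ S) (htu : t ≠ u) : Disjoint t u := by
  have h := (hS.2.2 t ht u hu htu).2
  rw [← Finset.card_union_eq_card_add_card, h, hS.2.1 t ht, hS.2.1 u hu]

/-- two tetrads completing the same tetrad to octads are equal or disjoint -/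
theorem tetrad_disjoint {t u v : Finset GolayPt} (ht : t.card = 4) (hu : u.card = 4)
    (hv : v.card = 4) (htu : t ∪ u ∈ octads) (htv : t ∪ v ∈ octads) (huv : u ≠ v) :
    Disjoint u v := by
  have d1 : Disjoint t u := by rw [← Finset.card_union_eq_card_add_card, htu.2, ht, hu]
  have d2 : Disjoint t v := by rw [← Finset.card_union_eq_card_add_card, htv.2, ht, hv]
  have hne : t ∪ u ≠ t ∪ v := by
    intro e
    apply huv
    have e1 : (t ∪ u) \ t = u := Finset.union_sdiff_cancel_left d1
    have e2 : (t ∪ v) \ t = v := Finset.union_sdiff_cancel_left d2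
    rw [← e1, ← e2, e]
  have h := octads_inter_le htu htv hne
  rw [← Finset.union_inter_distrib_left, Finset.card_union_of_disjoint
    (Finset.disjoint_of_subset_right Finset.inter_subset_left d1), ht] at h
  rw [Finset.disjoint_iff_inter_eq_empty, ← Finset.card_eq_zero]
  omega

theorem sext_subset {S S' : Finset (Finset GolayPt)} (hS : S ∈ sextets) (hS' : S' ∈ sextets)
    {t : Finset GolayPt} (ht : t ∈ S) (ht' : t ∈ S') : S' ⊆ S := by
  intro u hu
  by_contra hnu
  have hut : u ≠ t := fun e => hnu (e ▸ ht)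
  have hpd : ∀ x ∈ insert u S, ∀ y ∈ insert u S, x ≠ y → Disjoint (id x) (id y) := by
    have key : ∀ v ∈ S, Disjoint u v := by
      intro v hv
      by_cases hvt : v = t
      · rw [hvt]; exact sext_disjoint hS' hu ht' hut
      · exact tetrad_disjoint (hS.2.1 t ht) (hS'.2.1 u hu) (hS.2.1 v hv)
          (hS'.2.2 t ht' u hu (Ne.symm hut)) (hS.2.2 t ht v hv (Ne.symm hvt))
          (fun e => hnu (e ▸ hv))
    intro x hx y hy hxy
    rcases Finset.mem_insert.mp hx with hx | hx <;> rcases Finset.mem_insert.mp hy with hy | hy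
    · exact absurd (hx.trans hy.symm) hxy
    · rw [hx]; exact key y hy
    · rw [hy]; exact (key x hx).symm
    · exact sext_disjoint hS hx hy hxy
  have hc := Finset.card_biUnion hpd
  have hsum : ∑ x ∈ insert u S, (id x).card = 28 := by
    have e : ∑ x ∈ S, (id x).card = ∑ x ∈ S, 4 := Finset.sum_congr rfl (fun x hx => hS.2.1 x hx)
    rw [Finset.sum_insert hnu, e, Finset.sum_const, hS.1]
    simp only [id]
    rw [hS'.2.1 u hu]
    rfl
  have hle := Finset.card_le_univ ((insert u S).biUnion id)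
  rw [hc, hsum] at hle
  have : Fintype.card GolayPt = 24 := by decide
  omega

theorem sext_unique {S S' : Finset (Finset GolayPt)} (hS : S ∈ sextets) (hS' : S' ∈ sextets)
    {t : Finset GolayPt} (ht : t ∈ S) (ht' : t ∈ S') : S = S' :=
  Finset.Subset.antisymm (sext_subset hS' hS ht' ht) (sext_subset hS hS' ht ht')

end Cfsg.Agent.Lib.Helper8
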