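import Cfsg.Agent.Lib.Helper8.SextetData

set_option autoImplicit false

namespace Cfsg.Agent.Lib.Helper8

open Cfsg
open scoped Pointwise

theorem sx0_mem : famOf sx0 ∈ sextets := (isSextetL_sound sx0 (by decide +kernel)).2

theorem t0_mem_sx0 : setOf 8388615 ∈ famOf sx0 := mem_famOf.mpr ⟨8388615, by decide, rfl⟩

theorem sextet_norm {S : Finset (Finset GolayPt)} (hS : S ∈ sextets) {t : Finset GolayPt}
    (ht : t ∈ S) : ∃ g ∈ M24, g • S = famOf sx0 ∧ g • t = setOf 8388615 := by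
  obtain ⟨g, hg, hgt⟩ := norm_set4 (hS.2.1 t ht)
  refine ⟨g, hg, ?_, hgt⟩
  apply sext_unique (smul_mem_sextets hg hS) sx0_mem (t := setOf 8388615) _ t0_mem_sx0
  rw [← hgt]
  exact Finset.smul_mem_smul_finset ht

theorem sextet_nonempty {S : Finset (Finset GolayPt)} (hS : S ∈ sextets) : ∃ t, t ∈ S := by
  have : S.Nonempty := by rw [← Finset.card_pos, hS.1]; norm_num
  exact this

theorem sextet_trans : ∀ S ∈ sextets, ∃ g ∈ GInv [], g • famOf sx0 = S := by
  intro S hS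
  obtain ⟨t, ht⟩ := sextet_nonempty hS
  obtain ⟨g, hg, hgS, _⟩ := sextet_norm hS ht
  refine ⟨g⁻¹, by rw [GInv_nil]; exact M24.inv_mem hg, ?_⟩
  rw [← hgS, inv_smul_smul]

theorem sextet_enum : sextets.ncard = 1771 ∧
    (∀ a ∈ sextets, ∃ i < 1771, famOf (objL 6 sxA i) = a) ∧
      sextets = MulAction.orbit (GInv []) (famOf sx0) ∧
      Nat.card (GInv []) = 1771 * Nat.card (GFam [] sx0) :=
  fam_enum isSextetL_sound sx0 sextet_trans sx_chk sx_inc sx_lvs card_GInv_nil sx_low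

theorem ncard_sextets : sextets.ncard = 1771 := sextet_enum.1

theorem card_GFam_sx0 : Nat.card (GFam [] sx0) = 138240 := by
  have h := sextet_enum.2.2.2
  rw [card_GInv_nil] at h
  omega

theorem exists_unique_sextet (t : Finset GolayPt) (ht : t.card = 4) :
    ∃! S : Finset (Finset GolayPt), S ∈ sextets ∧ t ∈ S := by
  obtain ⟨g, hg, hgt⟩ := norm_set4 ht
  refine ⟨g⁻¹ • famOf sx0, ⟨smul_mem_sextets (M24.inv_mem hg) sx0_mem, ?_⟩, ?_⟩
  · have : t = g⁻¹ • setOf 8388615 := by rw [← hgt, inv_smul_smul]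
    rw [this]
    exact Finset.smul_mem_smul_finset t0_mem_sx0
  · rintro S ⟨hS, htS⟩
    apply sext_unique hS (smul_mem_sextets (M24.inv_mem hg) sx0_mem) htS
    have : t = g⁻¹ • setOf 8388615 := by rw [← hgt, inv_smul_smul]
    rw [this]
    exact Finset.smul_mem_smul_finset t0_mem_sx0

end Cfsg.Agent.Lib.Helper8
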