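import Cfsg.Agent.Lib.Helper8.Orbit

set_option autoImplicit false

namespace Cfsg.Agent.Lib.Helper8

open Cfsg
open scoped Pointwise

/-- the mask `m` is invariant under `g` -/
def Inv (g : Equiv.Perm GolayPt) (m : ℕ) : Prop := g • setOf m = setOf m

theorem Inv.zero (g : Equiv.Perm GolayPt) : Inv g 0 := by
  rw [Inv, setOf_zero, Finset.smul_finset_empty]

theorem Inv.full (g : Equiv.Perm GolayPt) : Inv g 16777215 := by
  rw [Inv, setOf_full, Finset.smul_finset_univ]

theorem Inv.and {g : Equiv.Perm GolayPt} {a b : ℕ} (ha : Inv g a) (hb : Inv g b) :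
    Inv g (a &&& b) := by
  rw [Inv, setOf_and, Finset.smul_finset_inter, ha, hb]

theorem Inv.xor {g : Equiv.Perm GolayPt} {a b : ℕ} (ha : Inv g a) (hb : Inv g b) :
    Inv g (a ^^^ b) := by
  rw [Inv, setOf_xor, Finset.smul_finset_symmDiff, ha, hb]

/-- Boolean test: `o` is the mask of an octad -/
def isOct (o : ℕ) : Bool := isCode o && Nat.beq (popc o) 8 && Nat.blt o 16777216

theorem setOf_mem_octads {o : ℕ} (h : isOct o = true) : setOf o ∈ octads := by
  simp only [isOct, Bool.and_eq_true] at h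
  obtain ⟨⟨h1, h2⟩, h3⟩ := h
  have h3' : o < 2 ^ 24 := Nat.le_of_ble_eq_true h3
  exact ⟨(setOf_mem_supports_iff h3').mpr h1, by rw [card_setOf]; exact Nat.eq_of_beq_eq_true h2⟩

theorem Inv.octad {g : Equiv.Perm GolayPt} (hg : g ∈ M24) {m o : ℕ} (hm : Inv g m)
    (ho : isOct o = true) (hsub : m &&& o = m) (h5 : 5 ≤ popc m) : Inv g o := by
  have ho' := setOf_mem_octads ho
  have hgo := smul_mem_octads hg ho'
  by_contra hne
  have hle := octads_inter_le hgo ho' hne
  have hs : setOf m ⊆ setOf o := by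
    have : setOf m = setOf m ∩ setOf o := by rw [← setOf_and, hsub]
    rw [this]; exact Finset.inter_subset_right
  have hs' : setOf m ⊆ g • setOf o := by
    rw [← hm]; exact Finset.smul_finset_subset_smul_finset hs
  have := Finset.card_le_card (Finset.subset_inter hs' hs)
  rw [card_setOf] at this
  omega

/-- one step of a derivation of invariant masks -/
def dstep (L : List ℕ) (ins : ℕ × ℕ × ℕ) : List ℕ :=
  L ++ [bif Nat.beq ins.1 0 then L.getD ins.2.1 0 &&& L.getD ins.2.2 0
    else bif Nat.beq ins.1 1 then L.getD ins.2.1 0 ^^^ L.getD ins.2.2 0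
    else bif isOct ins.2.2 && Nat.beq (L.getD ins.2.1 0 &&& ins.2.2) (L.getD ins.2.1 0) &&
      Nat.ble 5 (popc (L.getD ins.2.1 0)) then ins.2.2 else 0]

theorem inv_getD {g : Equiv.Perm GolayPt} {L : List ℕ} (h : ∀ m ∈ L, Inv g m) (i : ℕ) :
    Inv g (L.getD i 0) := by
  by_cases hi : i < L.length
  · rw [List.getD_eq_getElem _ _ hi]; exact h _ (List.getElem_mem _)
  · rw [List.getD_eq_default _ _ (by omega)]; exact Inv.zero g

theorem inv_dstep {g : Equiv.Perm GolayPt} (hg : g ∈ M24) {L : List ℕ} (h : ∀ m ∈ L, Inv g m)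
    (ins : ℕ × ℕ × ℕ) : ∀ m ∈ dstep L ins, Inv g m := by
  intro m hm
  rw [dstep, List.mem_append, List.mem_singleton] at hm
  rcases hm with hm | hm
  · exact h m hm
  · rw [hm]
    cases h0 : Nat.beq ins.1 0 with
    | true => rw [cond_true]; exact (inv_getD h _).and (inv_getD h _)
    | false =>
      rw [cond_false]
      cases h1 : Nat.beq ins.1 1 with
      | true => rw [cond_true]; exact (inv_getD h _).xor (inv_getD h _)
      | false =>
        rw [cond_false]
        cases h2 : (isOct ins.2.2 && Nat.beq (L.getD ins.2.1 0 &&& ins.2.2) (L.getD ins.2.1 0) &&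
          Nat.ble 5 (popc (L.getD ins.2.1 0))) with
        | false => rw [cond_false]; exact Inv.zero g
        | true =>
          rw [cond_true]
          simp only [Bool.and_eq_true] at h2
          exact Inv.octad hg (inv_getD h ins.2.1) h2.1.1 (Nat.eq_of_beq_eq_true h2.1.2)
            (Nat.le_of_ble_eq_true h2.2)

theorem inv_run {g : Equiv.Perm GolayPt} (hg : g ∈ M24) (prog : List (ℕ × ℕ × ℕ)) {L : List ℕ}
    (h : ∀ m ∈ L, Inv g m) : ∀ m ∈ prog.foldl dstep L, Inv g m := by
  induction prog generalizing L with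
  | nil => exact h
  | cons ins prog ih => exact ih (inv_dstep hg h ins)

theorem Inv.fix {g : Equiv.Perm GolayPt} {i : ℕ} (hi : i < 24) (h : Inv g (2 ^ i)) :
    g (pt i) = pt i := by
  rw [Inv, setOf_two_pow hi, Finset.smul_finset_singleton, Finset.singleton_inj] at h
  exact h

theorem Inv.of_fix {g : Equiv.Perm GolayPt} {i : ℕ} (hi : i < 24) (h : g (pt i) = pt i) :
    Inv g (2 ^ i) := by
  rw [Inv, setOf_two_pow hi, Finset.smul_finset_singleton, Finset.singleton_inj]
  exact h

theorem eq_one_of_inv (g : Equiv.Perm GolayPt) (h : ∀ i < 24, Inv g (2 ^ i)) : g = 1 := by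
  ext p : 1
  rw [← pt_idx p, Equiv.Perm.one_apply]
  exact (h _ (idx_lt p)).fix (idx_lt p)

/-- the subgroup of `M24` leaving all the masks of a list invariant -/
def GInv (L : List ℕ) : Subgroup (Equiv.Perm GolayPt) where
  carrier := {g | g ∈ M24 ∧ ∀ m ∈ L, Inv g m}
  one_mem' := ⟨M24.one_mem, fun m _ => one_smul _ _⟩
  mul_mem' := by
    rintro a b ⟨ha, ha'⟩ ⟨hb, hb'⟩
    refine ⟨M24.mul_mem ha hb, fun m hm => ?_⟩
    rw [Inv, mul_smul, hb' m hm, ha' m hm]
  inv_mem' := by
    rintro a ⟨ha, ha'⟩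
    refine ⟨M24.inv_mem ha, fun m hm => ?_⟩
    rw [Inv, inv_smul_eq_iff, ha' m hm]

theorem mem_GInv {L : List ℕ} {g : Equiv.Perm GolayPt} :
    g ∈ GInv L ↔ g ∈ M24 ∧ ∀ m ∈ L, Inv g m := Iff.rfl

theorem GInv_nil : GInv [] = M24 := by
  ext g; simp [mem_GInv]

theorem GInv_le_M24 (L : List ℕ) : GInv L ≤ M24 := fun _ h => h.1

theorem GInv_cons (m : ℕ) (L : List ℕ) :
    GInv (m :: L) = GInv L ⊓ MulAction.stabilizer (Equiv.Perm GolayPt) (setOf m) := by
  ext g
  simp only [mem_GInv, List.mem_cons, forall_eq_or_imp, Subgroup.mem_inf,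
    MulAction.mem_stabilizer_iff]
  constructor
  · rintro ⟨h1, h2, h3⟩; exact ⟨⟨h1, h3⟩, h2⟩
  · rintro ⟨⟨h1, h3⟩, h2⟩; exact ⟨h1, h2, h3⟩

/-- Boolean membership test for tables -/
def invTest (L : List ℕ) (T : ℕ) : Bool := inM24 T && L.all fun m => Nat.beq (applyMask T m) m

theorem toPerm_mem_GInv {L : List ℕ} {T : ℕ} (h : invTest L T = true) :
    validT T = true ∧ toPerm T ∈ GInv L := by
  rw [invTest, Bool.and_eq_true] at h
  refine ⟨validT_of_inM24 h.1, toPerm_mem_M24 h.1, fun m hm => ?_⟩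
  rw [Inv, toPerm_smul_setOf (validT_of_inM24 h.1), Nat.eq_of_beq_eq_true (List.all_eq_true.mp h.2 m hm)]

theorem all_mem_GInv {L Ts : List ℕ} (h : Ts.all (invTest L) = true) :
    ∀ T ∈ Ts, validT T = true ∧ toPerm T ∈ GInv L :=
  fun T hT => toPerm_mem_GInv (List.all_eq_true.mp h T hT)

/-- orbit-stabiliser for a subgroup of the symmetric group acting on any set -/
theorem card_step {X : Type*} [MulAction (Equiv.Perm GolayPt) X] (H : Subgroup (Equiv.Perm GolayPt))
    (x : X) :
    Nat.card H = (MulAction.orbit H x).ncard *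
      Nat.card ↥(H ⊓ MulAction.stabilizer (Equiv.Perm GolayPt) x) := by
  have h1 := Subgroup.card_mul_index (MulAction.stabilizer H x)
  rw [MulAction.index_stabilizer] at h1
  have h2 : MulAction.stabilizer H x =
      (H ⊓ MulAction.stabilizer (Equiv.Perm GolayPt) x).subgroupOf H := by
    ext g
    simp only [MulAction.mem_stabilizer_iff, Subgroup.mem_subgroupOf, Subgroup.mem_inf,
      SetLike.coe_mem, true_and]
    rfl
  have h3 : Nat.card (MulAction.stabilizer H x) =
      Nat.card ↥(H ⊓ MulAction.stabilizer (Equiv.Perm GolayPt) x) := by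
    rw [h2]
    exact Nat.card_congr (Subgroup.subgroupOfEquivOfLe inf_le_left).toEquiv
  rw [← h1, h3, mul_comm]

theorem orbit_eq {X : Type*} [MulAction (Equiv.Perm GolayPt) X] (H : Subgroup (Equiv.Perm GolayPt))
    (x : X) (A : Set X) (hx : x ∈ A) (hinv : ∀ g ∈ H, ∀ a ∈ A, g • a ∈ A)
    (htr : ∀ a ∈ A, ∃ g ∈ H, g • x = a) : MulAction.orbit H x = A := by
  ext y
  constructor
  · rintro ⟨g, rfl⟩
    exact hinv g.1 g.2 x hx
  · intro hy
    obtain ⟨g, hg, rfl⟩ := htr y hy
    exact ⟨⟨g, hg⟩, rfl⟩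

theorem stabilizer_singleton (p : GolayPt) :
    MulAction.stabilizer (Equiv.Perm GolayPt) ({p} : Finset GolayPt) =
      MulAction.stabilizer (Equiv.Perm GolayPt) p := by
  ext g
  simp [MulAction.mem_stabilizer_iff, Finset.smul_finset_singleton]

end Cfsg.Agent.Lib.Helper8
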