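import Cfsg.Agent.Lib.Helper8.Sx192Chain
import Cfsg.Agent.Lib.Helper8.Norm7b
import Cfsg.Agent.Lib.Helper8.Decomps

set_option autoImplicit false

namespace Cfsg.Agent.Lib.Helper8

open Cfsg
open scoped Pointwise

theorem Th12_mem : inM24 Th12 = true := by decide +kernel
theorem Th12_img : img Th12 23 = 23 ∧ img Th12 0 = 0 ∧ img Th12 1 = 2 ∧ img Th12 2 = 1 := by
  decide +kernel

def invT2 (L : List ℕ) (Th T : ℕ) : Bool :=
  L.all fun m => Nat.beq (applyMaskG Th (applyMaskG T m)) m

theorem invT2_of {L : List ℕ} (hL : ∀ m ∈ L, m < 2 ^ 24) {Th T : ℕ} (hTh : validT Th = true)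
    (hT : validT T = true) (h : ∀ m ∈ L, Inv (toPerm Th * toPerm T) m) : invT2 L Th T = true := by
  rw [invT2, List.all_eq_true]
  intro m hm
  have h1 := h m hm
  rw [Inv, mul_smul, toPerm_smul_setOf hT, toPerm_smul_setOf hTh,
    setOf_inj (applyMask_lt hTh _) (hL m hm)] at h1
  rw [applyMaskG_eq, applyMaskG_eq, h1]
  exact Nat.beq_refl _

theorem chk12 : allBelow 960 (fun i => !(invT2 sx0 Th12 (getR 120 q960A i))) = true := by
  decide +kernel

theorem sx0_lt : ∀ m ∈ sx0, m < 2 ^ 24 := by decide

theorem cnt_sxQ : countBelow 960 (fun i => sx0.all (fixMask (getR 120 q960A i))) = 16 := by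
  decide +kernel

theorem tbT : ∀ j < 24, ((8388615 : ℕ).testBit j = true ∧ j ≠ 23 ∧ j ≠ 0) → j = 1 ∨ j = 2 := by
  decide

theorem sx_level2 : GInv (2 ^ 0 :: 2 ^ 23 :: sx0) = GInv sx0 ⊓ GInv [2 ^ 2, 2 ^ 1, 2 ^ 0, 2 ^ 23] := by
  ext g
  constructor
  · intro hg
    have h23 : g (pt 23) = pt 23 := GInv_fix hg (by norm_num) (by simp)
    have h0 : g (pt 0) = pt 0 := GInv_fix hg (by norm_num) (by simp)
    have hK : g ∈ GInv sx0 := GInv_mono (fun m hm => by simp [hm]) hg
    have hT : g • setOf 8388615 = setOf 8388615 := hK.2 _ (by decide)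
    have inT : ∀ i < 24, (8388615 : ℕ).testBit i = true → i ≠ 23 → i ≠ 0 →
        g (pt i) = pt 1 ∨ g (pt i) = pt 2 := by
      intro i hi hb n23 n0
      have h1 : g (pt i) ∈ setOf 8388615 := by
        rw [← hT, apply_mem_smul_iff, pt_mem_setOf hi]; exact hb
      rw [mem_setOf] at h1
      rcases tbT _ (idx_lt _) ⟨h1, idx_ne (fun h => pt_ne hi (by norm_num) n23
        (g.injective (h.trans h23.symm))), idx_ne (fun h => pt_ne hi (by norm_num) n0
        (g.injective (h.trans h0.symm)))⟩ with e | e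
      · left; rw [← pt_idx (g (pt i)), e]
      · right; rw [← pt_idx (g (pt i)), e]
    have p12 : pt 1 ≠ pt 2 := pt_ne (by norm_num) (by norm_num) (by norm_num)
    have h1 : g (pt 1) = pt 1 := by
      rcases inT 1 (by norm_num) (by decide) (by norm_num) (by norm_num) with e | e
      · exact e
      · exfalso
        have h2 : g (pt 2) = pt 1 := by
          rcases inT 2 (by norm_num) (by decide) (by norm_num) (by norm_num) with e' | e'
          · exact e'
          · exact absurd (g.injective (e.trans e'.symm)) p12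
        have hv := validT_of_inM24 Th12_mem
        have hs : (toPerm Th12)⁻¹ * g ∈ GInv [2 ^ 2, 2 ^ 1, 2 ^ 0, 2 ^ 23] := by
          apply mem_Q0_of (toPerm_mem_M24 Th12_mem) hK.1
          · rw [toPerm_pt hv (by norm_num), Th12_img.1, h23]
          · rw [toPerm_pt hv (by norm_num), Th12_img.2.1, h0]
          · rw [toPerm_pt hv (by norm_num), Th12_img.2.2.1, e]
          · rw [toPerm_pt hv (by norm_num), Th12_img.2.2.2, h2]
        have key := coset_forall (Th := Th12) (fun σ => ¬ ∀ m ∈ sx0, Inv σ m)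
          (fun T => !(invT2 sx0 Th12 T)) (by
            intro T hT hcT hcm
            rw [invT2_of sx0_lt hv hT hcm] at hcT
            simp at hcT) chk12 _ hs
        rw [mul_inv_cancel_left] at key
        exact key hK.2
    have h2 : g (pt 2) = pt 2 := by
      rcases inT 2 (by norm_num) (by decide) (by norm_num) (by norm_num) with e' | e'
      · exact absurd (g.injective (h1.trans e'.symm)) p12
      · exact e'
    refine ⟨hK, ?_⟩
    have := mem_Q0_of (h := 1) (g' := g) M24.one_mem hK.1 h23.symm h0.symm h1.symm h2.symm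
    simpa using this
  · rintro ⟨hK, hQ⟩
    refine ⟨hK.1, ?_⟩
    intro m hm
    simp only [List.mem_cons] at hm
    rcases hm with rfl | rfl | hm
    · exact hQ.2 _ (by simp)
    · exact hQ.2 _ (by simp)
    · exact hK.2 m hm

theorem mem_GInv_fixMask {L : List ℕ} {T : ℕ} (hT : validT T = true) (hM : toPerm T ∈ M24) :
    L.all (fixMask T) = true ↔ toPerm T ∈ GInv L := by
  rw [List.all_eq_true, mem_GInv]
  constructor
  · intro h
    exact ⟨hM, fun m hm => (fixMask_iff hT m).mp (h m hm)⟩
  · rintro ⟨-, h⟩ m hm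
    exact (fixMask_iff hT m).mpr (h m hm)

theorem card_K0 : Nat.card (GInv sx0) = 192 := by
  have e0 : Nat.card (GInv sx0) = _ := level_card sxk0
  have e1 : Nat.card (GInv (2 ^ 23 :: sx0)) = _ := level_card sxk1
  rw [e0, e1, sx_level2,
    card_filter_Q0 _ (fun T => sx0.all (fixMask T)) (fun T hT hM => mem_GInv_fixMask hT hM), cnt_sxQ]
  decide +kernel

/-! ### the normal subgroup of order 64 -/

theorem sqOne_iff {T : ℕ} (hT : validT T = true) : sqOne T = true ↔ toPerm T * toPerm T = 1 := by
  rw [sqOne, allBelow_iff]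
  constructor
  · intro h
    apply Equiv.ext
    intro p
    have hp := idx_lt p
    rw [← pt_idx p, Equiv.Perm.mul_apply, toPerm_pt hT hp, toPerm_pt hT (img_lt hT hp),
      Nat.eq_of_beq_eq_true (h _ hp)]
    rfl
  · intro h i hi
    have h1 := congrFun (congrArg DFunLike.coe h) (pt i)
    rw [Equiv.Perm.mul_apply, toPerm_pt hT hi, toPerm_pt hT (img_lt hT hi),
      Equiv.Perm.one_apply] at h1
    have h2 := congrArg idx h1
    rw [idx_pt (img_lt hT (img_lt hT hi)), idx_pt hi] at h2
    rw [h2]; exact Nat.beq_refl _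

def F1l : List ℕ := [6, 8388609]

theorem F1l_sorted : sortedL F1l = true := by decide

theorem k192_sq : allBelow 192 (fun i => (famTest F1l (getR 120 k192A i)) ==
    (sqOne (getR 120 k192A i))) = true := by decide +kernel

theorem k192_cnt : countBelow 192 (fun i => famTest F1l (getR 120 k192A i)) = 64 := by
  decide +kernel

theorem K0_sq_iff : ∀ g ∈ GInv sx0, (g • famOf F1l = famOf F1l ↔ g * g = 1) :=
  forall_of_list card_K0 k192_mem k192_inc _ (fun T => (famTest F1l T) == (sqOne T))
    (fun T hT h => by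
      rw [beq_iff_eq] at h
      rw [← famTest_iff hT F1l_sorted, ← sqOne_iff hT, h]) k192_sq

theorem card_filter_list {L : List ℕ} {A N : ℕ} (hcard : Nat.card (GInv L) = N)
    (hmem : allBelow N (fun i => invTestF L (getR 120 A i)) = true)
    (hinc : incCheck (getR 120 A) N = true)
    (K : Subgroup (Equiv.Perm GolayPt)) (q : ℕ → Bool)
    (hq : ∀ T, validT T = true → toPerm T ∈ M24 → (q T = true ↔ toPerm T ∈ K)) :
    Nat.card ↥(K ⊓ GInv L) = countBelow N (fun i => q (getR 120 A i)) := by
  have hm : ∀ i < N, validT (getR 120 A i) = true ∧ toPerm (getR 120 A i) ∈ GInv L := by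
    intro i hi
    have := of_allBelow hmem i hi
    rw [invTestF_eq] at this
    exact toPerm_mem_GInv this
  have hmono := strictMono_of_incCheck hinc
  have h := ncard_enum_filter (GInv L : Set (Equiv.Perm GolayPt))
    (fun i => toPerm (getR 120 A i)) N (fun i hi => (hm i hi).2)
    (fun a ha => by
      obtain ⟨i, hi, e⟩ := list_complete hcard hmem hinc a ha
      exact ⟨i, hi, e.symm⟩)
    (by
      intro i j hi hj e
      have e' := toPerm_inj (hm i hi).1 (hm j hj).1 (getR_lt _ _ _) (getR_lt _ _ _) e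
      by_contra hne
      rcases Nat.lt_or_gt_of_ne hne with h | h
      · exact absurd e' (Nat.ne_of_lt (hmono i j h hj))
      · exact absurd e'.symm (Nat.ne_of_lt (hmono j i h hi)))
    (fun σ => σ ∈ K) (fun i => q (getR 120 A i))
    (fun i hi => hq _ (hm i hi).1 (hm i hi).2.1)
  rw [← h]
  show Set.ncard _ = _
  congr 1
  ext c
  simp only [SetLike.mem_coe, Set.mem_ofPred_eq, Subgroup.mem_inf]
  exact and_comm

theorem card_N0 : Nat.card ↥(MulAction.stabilizer (Equiv.Perm GolayPt) (famOf F1l) ⊓ GInv sx0) =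
    64 := by
  rw [card_filter_list card_K0 k192_mem k192_inc _ (fun T => famTest F1l T)
    (fun T hT _ => by rw [famTest_iff hT F1l_sorted, MulAction.mem_stabilizer_iff]), k192_cnt]

end Cfsg.Agent.Lib.Helper8
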