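import Cfsg.Agent.Lib.Helper8.Syl2Data
import Cfsg.Agent.Lib.Helper8.Sx192
import Cfsg.Agent.Lib.Helper8.OctAlt

set_option autoImplicit false

namespace Cfsg.Agent.Lib.Helper8

open Cfsg
open scoped Pointwise

def Pz : Subgroup (Equiv.Perm GolayPt) :=
  M24 ⊓ MulAction.stabilizer (Equiv.Perm GolayPt) (setOf 8536111) ⊓
    MulAction.stabilizer (Equiv.Perm GolayPt) (famOf T0l) ⊓
    MulAction.stabilizer (Equiv.Perm GolayPt) (famOf sx0) ⊓ Subgroup.centralizer {toPerm zS}

theorem mem_Pz {g : Equiv.Perm GolayPt} : g ∈ Pz ↔ g ∈ M24 ∧ g • setOf 8536111 = setOf 8536111 ∧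
    g • famOf T0l = famOf T0l ∧ g • famOf sx0 = famOf sx0 ∧ g * toPerm zS = toPerm zS * g := by
  simp only [Pz, Subgroup.mem_inf, MulAction.mem_stabilizer_iff,
    Subgroup.mem_centralizer_singleton_iff, and_assoc]

def pzTest (T : ℕ) : Bool := fixMask T 8536111 && famTest T0l T && famTest sx0 T && commT T zS

theorem zS_mem : inM24 zS = true := by decide +kernel
theorem T0l_sorted : sortedL T0l = true := by decide
theorem sx0_sorted : sortedL sx0 = true := by decide

theorem pzTest_iff {T : ℕ} (hT : validT T = true) (hM : toPerm T ∈ M24) :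
    pzTest T = true ↔ toPerm T ∈ Pz := by
  have hz := validT_of_inM24 zS_mem
  rw [pzTest, mem_Pz, Bool.and_eq_true, Bool.and_eq_true, Bool.and_eq_true, fixMask_iff hT,
    famTest_iff hT T0l_sorted, famTest_iff hT sx0_sorted]
  constructor
  · rintro ⟨⟨⟨h1, h2⟩, h3⟩, h4⟩
    exact ⟨hM, h1, h2, h3, commute_of_commT hT hz h4⟩
  · rintro ⟨-, h1, h2, h3, h4⟩
    exact ⟨⟨⟨h1, h2⟩, h3⟩, commT_of_commute hT hz h4⟩

theorem a8_chk : allBelow 24 (fun j => !((8536111 : ℕ).testBit j) ||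
    (inM24F (getR 120 a8A j) && pzTest (getR 120 a8A j) &&
    Nat.beq (img (getR 120 a8A j) 23) j)) = true := by decide +kernel

theorem b12_chk : (inM24 b12T && pzTest b12T && Nat.beq (img b12T 23) 23 &&
    Nat.beq (img b12T 1) 2) = true := by decide +kernel

def cosT (Th T : ℕ) : Bool := comm3 Th T zS && eqvL (actL Th (actL T T0l)) T0l

theorem cosT_of {Th T : ℕ} (hTh : validT Th = true) (hT : validT T = true)
    (h : toPerm Th * toPerm T ∈ Pz) : cosT Th T = true := by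
  obtain ⟨-, -, h2, -, h4⟩ := mem_Pz.mp h
  rw [cosT, Bool.and_eq_true]
  refine ⟨comm3_of hTh hT (validT_of_inM24 zS_mem) h4, ?_⟩
  apply eqvL_of_famOf_eq _ (sortedL_spec T0l_sorted).2
  · rw [famOf_actL hTh, famOf_actL hT, ← mul_smul, h2]
  · intro a ha
    obtain ⟨c, _, rfl⟩ := List.mem_map.mp ha
    rw [applyMaskG_eq]
    exact applyMask_lt hTh c

theorem thS1_mem : inM24 thS1 = true := by decide +kernel
theorem thS2_mem : inM24 thS2 = true := by decide +kernel
theorem thS3_mem : inM24 thS3 = true := by decide +kernel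
theorem thS1_img : img thS1 23 = 23 ∧ img thS1 0 = 1 ∧ img thS1 1 = 0 ∧ img thS1 2 = 2 := by
  decide +kernel
theorem thS2_img : img thS2 23 = 23 ∧ img thS2 0 = 2 ∧ img thS2 1 = 0 ∧ img thS2 2 = 1 := by
  decide +kernel
theorem thS3_img : img thS3 23 = 23 ∧ img thS3 0 = 2 ∧ img thS3 1 = 1 ∧ img thS3 2 = 0 := by
  decide +kernel
theorem chkS1 : allBelow 960 (fun i => !(cosT thS1 (getR 120 q960A i))) = true := by decide +kernel
theorem chkS2 : allBelow 960 (fun i => !(cosT thS2 (getR 120 q960A i))) = true := by decide +kernel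
theorem chkS3 : allBelow 960 (fun i => !(cosT thS3 (getR 120 q960A i))) = true := by decide +kernel
theorem cntS : countBelow 960 (fun i => pzTest (getR 120 q960A i)) = 64 := by decide +kernel

theorem no_cosetS {Th a b e : ℕ} (hTh : inM24 Th = true)
    (himg : img Th 23 = 23 ∧ img Th 0 = a ∧ img Th 1 = b ∧ img Th 2 = e)
    (chk : allBelow 960 (fun i => !(cosT Th (getR 120 q960A i))) = true) :
    ∀ c ∈ Pz, c (pt 23) = pt 23 → c (pt 0) = pt a → c (pt 1) = pt b → c (pt 2) = pt e → False := by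
  intro c hc h23 h0 h1 h2
  have hv := validT_of_inM24 hTh
  have hs : (toPerm Th)⁻¹ * c ∈ GInv [2 ^ 2, 2 ^ 1, 2 ^ 0, 2 ^ 23] := by
    apply mem_Q0_of (toPerm_mem_M24 hTh) (mem_Pz.mp hc).1
    · rw [toPerm_pt hv (by norm_num), himg.1, h23]
    · rw [toPerm_pt hv (by norm_num), himg.2.1, h0]
    · rw [toPerm_pt hv (by norm_num), himg.2.2.1, h1]
    · rw [toPerm_pt hv (by norm_num), himg.2.2.2, h2]
  have key := coset_forall (Th := Th) (fun σ => σ ∉ Pz) (fun T => !(cosT Th T)) (by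
      intro T hT hcT hcm
      rw [cosT_of hv hT hcm] at hcT
      simp at hcT) chk _ hs
  rw [mul_inv_cancel_left] at key
  exact key hc

theorem tbT3 : ∀ j < 24, ((8388615 : ℕ).testBit j = true ∧ j ≠ 23) → j = 0 ∨ j = 1 ∨ j = 2 := by
  decide

/-- the action of the stabiliser of `23` on the rest of its tetrad -/
theorem Pz_tetrad {c : Equiv.Perm GolayPt} (hc : c ∈ Pz) (h23 : c (pt 23) = pt 23) :
    (c (pt 0) = pt 0 ∧ c (pt 1) = pt 1 ∧ c (pt 2) = pt 2) ∨
    (c (pt 0) = pt 0 ∧ c (pt 1) = pt 2 ∧ c (pt 2) = pt 1) := by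
  obtain ⟨hM, -, -, hS, -⟩ := mem_Pz.mp hc
  have hT : c • setOf 8388615 = setOf 8388615 := by
    by_contra hne
    have h1 : c • setOf 8388615 ∈ famOf sx0 := by
      rw [← hS]; exact Finset.smul_mem_smul_finset t0_mem_sx0
    have h2 := sext_disjoint sx0_mem h1 t0_mem_sx0 hne
    have h3 : pt 23 ∈ setOf 8388615 := by rw [pt_mem_setOf (by norm_num)]; decide
    have h4 : pt 23 ∈ c • setOf 8388615 := by
      rw [← h23, apply_mem_smul_iff]; exact h3
    exact Finset.disjoint_left.mp h2 h4 h3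
  have inT : ∀ i < 24, (8388615 : ℕ).testBit i = true → i ≠ 23 →
      c (pt i) = pt 0 ∨ c (pt i) = pt 1 ∨ c (pt i) = pt 2 := by
    intro i hi hb n23
    have h1 : c (pt i) ∈ setOf 8388615 := by
      rw [← hT, apply_mem_smul_iff, pt_mem_setOf hi]; exact hb
    rw [mem_setOf] at h1
    have h2 := tbT3 _ (idx_lt _) ⟨h1, idx_ne (fun h => pt_ne hi (by norm_num) n23
      (c.injective (h.trans h23.symm)))⟩
    rcases h2 with h | h | h
    · left; rw [← h, pt_idx]
    · right; left; rw [← h, pt_idx]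
    · right; right; rw [← h, pt_idx]
  have dist : ∀ i j : ℕ, i < 24 → j < 24 → i ≠ j → c (pt i) ≠ c (pt j) := by
    intro i j hi hj hij e
    exact pt_ne hi hj hij (c.injective e)
  have a0 := inT 0 (by norm_num) (by decide) (by norm_num)
  have a1 := inT 1 (by norm_num) (by decide) (by norm_num)
  have a2 := inT 2 (by norm_num) (by decide) (by norm_num)
  have d01 := dist 0 1 (by norm_num) (by norm_num) (by norm_num)
  have d02 := dist 0 2 (by norm_num) (by norm_num) (by norm_num)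
  have d12 := dist 1 2 (by norm_num) (by norm_num) (by norm_num)
  rcases a0 with e0 | e0 | e0 <;> rcases a1 with e1 | e1 | e1 <;> rcases a2 with e2 | e2 | e2
  all_goals first
    | exact (d01 (e0.trans e1.symm)).elim
    | exact (d02 (e0.trans e2.symm)).elim
    | exact (d12 (e1.trans e2.symm)).elim
    | exact Or.inl ⟨e0, e1, e2⟩
    | exact Or.inr ⟨e0, e1, e2⟩
    | exact (no_cosetS thS1_mem thS1_img chkS1 c hc h23 e0 e1 e2).elim
    | exact (no_cosetS thS2_mem thS2_img chkS2 c hc h23 e0 e1 e2).elim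
    | exact (no_cosetS thS3_mem thS3_img chkS3 c hc h23 e0 e1 e2).elim
    | exact (no_cosetS thS2_mem thS2_img chkS2 c⁻¹ (Pz.inv_mem hc)
        (by rw [Equiv.Perm.inv_eq_iff_eq, h23]) (by rw [Equiv.Perm.inv_eq_iff_eq, e2])
        (by rw [Equiv.Perm.inv_eq_iff_eq, e0]) (by rw [Equiv.Perm.inv_eq_iff_eq, e1])).elim

theorem card_Pz : Nat.card Pz = 1024 := by
  have e3 : Pz ⊓ MulAction.stabilizer (Equiv.Perm GolayPt) (pt 23) ⊓
      MulAction.stabilizer (Equiv.Perm GolayPt) (pt 1) =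
      Pz ⊓ GInv [2 ^ 2, 2 ^ 1, 2 ^ 0, 2 ^ 23] := by
    ext c
    constructor
    · rintro ⟨⟨hc, h23⟩, h1⟩
      refine ⟨hc, ?_⟩
      have h23' : c (pt 23) = pt 23 := h23
      have h1' : c (pt 1) = pt 1 := h1
      have h012 : c (pt 0) = pt 0 ∧ c (pt 2) = pt 2 := by
        rcases Pz_tetrad hc h23' with ⟨a, _, b⟩ | ⟨_, b, _⟩
        · exact ⟨a, b⟩
        · exact (pt_ne (by norm_num) (by norm_num) (by norm_num : (1 : ℕ) ≠ 2)
            (h1'.symm.trans b)).elim
      have := mem_Q0_of (h := 1) (g' := c) M24.one_mem (mem_Pz.mp hc).1 h23'.symm h012.1.symm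
        h1'.symm h012.2.symm
      simpa using this
    · rintro ⟨hc, hq⟩
      exact ⟨⟨hc, GInv_fix hq (by norm_num) (by simp)⟩, GInv_fix hq (by norm_num) (by simp)⟩
  rw [card_step Pz (pt 23),
    card_step (Pz ⊓ MulAction.stabilizer (Equiv.Perm GolayPt) (pt 23)) (pt 1), e3,
    orbit_eq_setOf _ _ 8536111 ?_ ?_, orbit_eq_setOf _ _ 6 ?_ ?_,
    card_filter_Q0 _ pzTest (fun T hT hM => pzTest_iff hT hM), cntS]
  · rw [show popc 8536111 = 8 by decide +kernel, show popc 6 = 2 by decide +kernel]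
  · intro j hj hD
    have hj12 : j = 1 ∨ j = 2 := by
      have : ∀ j < 24, (6 : ℕ).testBit j = true → j = 1 ∨ j = 2 := by decide
      exact this j hj hD
    rcases hj12 with rfl | rfl
    · exact ⟨1, Subgroup.one_mem _, rfl⟩
    · have h := b12_chk
      simp only [Bool.and_eq_true] at h
      obtain ⟨⟨⟨h1, h2⟩, h3⟩, h4⟩ := h
      have hv := validT_of_inM24 h1
      refine ⟨toPerm b12T, ⟨(pzTest_iff hv (toPerm_mem_M24 h1)).mp h2, ?_⟩, ?_⟩
      · show toPerm b12T (pt 23) = pt 23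
        rw [toPerm_pt hv (by norm_num), Nat.eq_of_beq_eq_true h3]
      · rw [toPerm_pt hv (by norm_num), Nat.eq_of_beq_eq_true h4]
  · rintro c ⟨hc, h23⟩
    rcases Pz_tetrad hc h23 with ⟨_, b, _⟩ | ⟨_, b, _⟩
    · rw [b, idx_pt (by norm_num)]; decide
    · rw [b, idx_pt (by norm_num)]; decide
  · intro j hj hD
    have h := of_allBelow a8_chk j hj
    rw [hD] at h
    simp only [Bool.not_true, Bool.false_or, Bool.and_eq_true, inM24F_eq] at h
    obtain ⟨⟨h1, h2⟩, h3⟩ := h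
    have hv := validT_of_inM24 h1
    refine ⟨toPerm (getR 120 a8A j), (pzTest_iff hv (toPerm_mem_M24 h1)).mp h2, ?_⟩
    rw [toPerm_pt hv (by norm_num), Nat.eq_of_beq_eq_true h3]
  · intro c hc
    have hO := (mem_Pz.mp hc).2.1
    have h3 : pt 23 ∈ setOf 8536111 := by rw [pt_mem_setOf (by norm_num)]; decide
    have h4 : c (pt 23) ∈ setOf 8536111 := by
      rw [← hO, apply_mem_smul_iff]; exact h3
    rwa [mem_setOf] at h4

end Cfsg.Agent.Lib.Helper8
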