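import Cfsg.Agent.Lib.Helper8.Pair

set_option autoImplicit false

namespace Cfsg.Agent.Lib.Helper8

def zS : ℕ := 961365507626256404119956257276790816
def T0l : List ℕ := [1351424, 6889680, 8536111]
def a8A : ℕ := 685715739696193671152507749728803467990649801625222434767744441285217039248635347629558790638712232613374827881408593462646602982751598106239371610212987946098564799759500365783727543247460629504773171531733387178827140612049030860171953163013037144549555969210105695447853353101424395277071384563119512147097652752076376121687536475600481934436503237518104020442701764405974459666579242897558920654737300785203135839952758814047938326887575222454025693719732203589983582991177454679378967937024593174225648445642581873638418612236873554429119428468515798295928202300946768168793293399902769056438647109808155419505202040144088802512499029900081799398045183823594137581057982534902876346537533048800311878402851795872633361852412086511956827176237785866374936794424140642556933339241452570566910410421334456547881035512702837912981382274800212285135825651086257489975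
def b12T : ℕ := 960869263155771964121666525273293888
def thS1 : ℕ := 971189539498683085533968589662783489
def thS2 : ℕ := 962344020931911909751953841527784450
def thS3 : ℕ := 967850221508991286579562808374362146
def gS : List ℕ := [91053692659720858136074993867522785, 589501523042554366108922584501404835, 218490083647402982823691911264516209]

end Cfsg.Agent.Lib.Helper8
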