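import Cfsg.Agent.Lib.Helper8.Syl2
import Cfsg.Agent.Lib.Helper8.Oct16
import Cfsg.Agent.Lib.Helper8.FixCount

set_option autoImplicit false

namespace Cfsg.Agent.Lib.Helper8

open Cfsg
open scoped Pointwise

theorem gS_chk : gS.all (fun T => inM24 T && pzTest T) = true := by decide +kernel

theorem gS_mem {T : ℕ} (hT : T ∈ gS) : validT T = true ∧ toPerm T ∈ Pz := by
  have h := List.all_eq_true.mp gS_chk T hT
  rw [Bool.and_eq_true] at h
  exact ⟨validT_of_inM24 h.1, (pzTest_iff (validT_of_inM24 h.1) (toPerm_mem_M24 h.1)).mp h.2⟩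

theorem T0l_mem : famOf T0l ∈ trios := (isTrioL_sound T0l (by decide +kernel)).2

theorem uniq_octS :
    {o : Finset GolayPt | o ∈ octads ∧ ∀ T ∈ gS, toPerm T • o = o}.ncard = 1 := by
  rw [ncard_octads_filter _ (fun m => gS.all (fun T => fixMask T m)) ?_]
  · decide +kernel
  · intro m
    rw [List.all_eq_true]
    constructor
    · intro h T hT; exact (fixMask_iff (gS_mem hT).1 m).mp (h T hT)
    · intro h T hT; exact (fixMask_iff (gS_mem hT).1 m).mpr (h T hT)

theorem uniq_sxS :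
    {S : Finset (Finset GolayPt) | S ∈ sextets ∧ ∀ T ∈ gS, toPerm T • S = S}.ncard = 1 := by
  rw [ncard_enum_filter sextets (fun i => famOf (objL 6 sxA i)) 1771 sx_hmem sx_hsurj sx_hinj _
    (fun i => gS.all (fun T => famTest (objL 6 sxA i) T)) ?_]
  · decide +kernel
  · intro i hi
    have hs := (isSextetL_sound _ (of_allBelow sx_chk i hi)).1
    rw [List.all_eq_true]
    constructor
    · intro h T hT; exact (famTest_iff (gS_mem hT).1 hs).mp (h T hT)
    · intro h T hT; exact (famTest_iff (gS_mem hT).1 hs).mpr (h T hT)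

theorem uniq_trS :
    {S : Finset (Finset GolayPt) | S ∈ trios ∧ ∀ T ∈ gS, toPerm T • S = S}.ncard = 1 := by
  rw [ncard_enum_filter trios (fun i => famOf (objL 3 trA i)) 3795 tr_hmem tr_hsurj tr_hinj _
    (fun i => gS.all (fun T => famTest (objL 3 trA i) T)) ?_]
  · decide +kernel
  · intro i hi
    have hs := (isTrioL_sound _ (of_allBelow tr_chk i hi)).1
    rw [List.all_eq_true]
    constructor
    · intro h T hT; exact (famTest_iff (gS_mem hT).1 hs).mp (h T hT)
    · intro h T hT; exact (famTest_iff (gS_mem hT).1 hs).mpr (h T hT)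

theorem fixed_of_uniqueS {X : Type*} [MulAction (Equiv.Perm GolayPt) X] {A : Set X}
    (hA : ∀ g ∈ M24, ∀ a ∈ A, g • a ∈ A)
    (hu : {a | a ∈ A ∧ ∀ T ∈ gS, toPerm T • a = a}.ncard = 1) {x : X} (hx : x ∈ A)
    (hfix : ∀ g ∈ Pz, g • x = x) {n : Equiv.Perm GolayPt} (hn : n ∈ M24)
    (hN : ∀ g ∈ Pz, n⁻¹ * g * n ∈ Pz) : n • x = x := by
  obtain ⟨a, ha⟩ := Set.ncard_eq_one.mp hu
  have h1 : x ∈ {a | a ∈ A ∧ ∀ T ∈ gS, toPerm T • a = a} :=
    ⟨hx, fun T hT => hfix _ (gS_mem hT).2⟩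
  have h2 : n • x ∈ {a | a ∈ A ∧ ∀ T ∈ gS, toPerm T • a = a} := by
    refine ⟨hA n hn x hx, fun T hT => ?_⟩
    have := hfix _ (hN _ (gS_mem hT).2)
    rw [mul_smul, mul_smul, inv_smul_eq_iff] at this
    exact this
  rw [ha] at h1 h2
  rw [Set.mem_singleton_iff] at h1 h2
  rw [h2, h1]

theorem toPerm_eq_one {T : ℕ} (hT : validT T = true)
    (h : allBelow 24 (fun i => Nat.beq (img T i) i) = true) : toPerm T = 1 := by
  apply Equiv.ext
  intro p
  rw [← pt_idx p, toPerm_pt hT (idx_lt p), Nat.eq_of_beq_eq_true (of_allBelow h _ (idx_lt p))]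
  rfl

theorem centS_chk : allBelow 16 (fun i => !(gS.all (fun T => commT (getR 120 o16A i) T)) ||
    allBelow 24 (fun j => Nat.beq (img (getR 120 o16A i) j) j) ||
    Nat.beq (getR 120 o16A i) zS) = true := by decide +kernel

theorem centS : ∀ g ∈ GInv L8, (∀ T ∈ gS, g * toPerm T = toPerm T * g) →
    g = 1 ∨ g = toPerm zS := by
  refine forall_of_list card_L8 o16_mem o16_inc
    (fun g => (∀ T ∈ gS, g * toPerm T = toPerm T * g) → g = 1 ∨ g = toPerm zS)
    (fun T' => !(gS.all (fun T => commT T' T)) ||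
      allBelow 24 (fun j => Nat.beq (img T' j) j) || Nat.beq T' zS) ?_ centS_chk
  intro T' hT' hp hc
  have h1 : gS.all (fun T => commT T' T) = true := by
    rw [List.all_eq_true]
    intro T hT
    exact commT_of_commute hT' (gS_mem hT).1 (hc T hT)
  rw [h1] at hp
  simp only [Bool.not_true, Bool.false_or, Bool.or_eq_true] at hp
  rcases hp with hp | hp
  · exact Or.inl (toPerm_eq_one hT' hp)
  · right; rw [Nat.eq_of_beq_eq_true hp]

theorem zS_L8 : validT zS = true ∧ toPerm zS ∈ GInv L8 :=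
  toPerm_mem_GInv (by decide +kernel)

theorem zS_ne_one : toPerm zS ≠ 1 := by
  intro h
  have h1 := congrFun (congrArg DFunLike.coe h) (pt 4)
  rw [toPerm_pt zS_L8.1 (by norm_num)] at h1
  have h2 : img zS 4 ≠ 4 := by decide +kernel
  have h3 : img zS 4 < 24 := by decide +kernel
  exact pt_ne h3 (by norm_num) h2 h1

theorem Pz_le : Pz ≤ M24 := fun _ h => (mem_Pz.mp h).1

theorem Pz_self_norm {n : Equiv.Perm GolayPt} (hn : n ∈ M24)
    (hN : ∀ g, g ∈ Pz ↔ n * g * n⁻¹ ∈ Pz) : n ∈ Pz := by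
  have hN' : ∀ g ∈ Pz, n⁻¹ * g * n ∈ Pz := by
    intro g hg
    rw [hN]
    have : n * (n⁻¹ * g * n) * n⁻¹ = g := by group
    rw [this]; exact hg
  have hO : n • setOf 8536111 = setOf 8536111 :=
    fixed_of_uniqueS (A := octads) (fun g hg a ha => smul_mem_octads hg ha) uniq_octS O0_mem
      (fun g hg => (mem_Pz.mp hg).2.1) hn hN'
  have hT : n • famOf T0l = famOf T0l :=
    fixed_of_uniqueS (A := trios) (fun g hg a ha => smul_mem_trios hg ha) uniq_trS T0l_mem
      (fun g hg => (mem_Pz.mp hg).2.2.1) hn hN'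
  have hS : n • famOf sx0 = famOf sx0 :=
    fixed_of_uniqueS (A := sextets) (fun g hg a ha => smul_mem_sextets hg ha) uniq_sxS sx0_mem
      (fun g hg => (mem_Pz.mp hg).2.2.2.1) hn hN'
  refine mem_Pz.mpr ⟨hn, hO, hT, hS, ?_⟩
  have hzfix : ∀ x ∈ setOf 8536111, toPerm zS x = x := by
    have h := (fix_conj_iff (g := 1) (k := toPerm zS) (s := setOf 8536111) (m := 8536111)
      (one_smul _ _)).mp
    apply h
    rw [ptsL_O0]
    simpa using (mem_GInv.mp zS_L8.2).2
  have hw : n * toPerm zS * n⁻¹ ∈ GInv L8 := by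
    rw [mem_GInv_conj hn, show L8 = ptsL 8536111 from ptsL_O0.symm, fix_conj_iff hO]
    exact ⟨zS_L8.2.1, hzfix⟩
  have hcomm : ∀ T ∈ gS, n * toPerm zS * n⁻¹ * toPerm T = toPerm T * (n * toPerm zS * n⁻¹) := by
    intro T hT
    have h1 := (mem_Pz.mp (hN' _ (gS_mem hT).2)).2.2.2.2
    have h2 : n * (n⁻¹ * toPerm T * n * toPerm zS) * n⁻¹ =
        n * (toPerm zS * (n⁻¹ * toPerm T * n)) * n⁻¹ := by rw [h1]
    have e1 : n * (n⁻¹ * toPerm T * n * toPerm zS) * n⁻¹ = toPerm T * (n * toPerm zS * n⁻¹) := by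
      group
    have e2 : n * (toPerm zS * (n⁻¹ * toPerm T * n)) * n⁻¹ = n * toPerm zS * n⁻¹ * toPerm T := by
      group
    rw [← e1, ← e2, h2]
  rcases centS _ hw hcomm with h | h
  · exfalso
    apply zS_ne_one
    have : toPerm zS = n⁻¹ * (n * toPerm zS * n⁻¹) * n := by group
    rw [this, h]; group
  · calc n * toPerm zS = (n * toPerm zS * n⁻¹) * n := by group
      _ = toPerm zS * n := by rw [h]

end Cfsg.Agent.Lib.Helper8
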