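import Cfsg.Agent.Lib.Helper8.Pair

set_option autoImplicit false

namespace Cfsg.Agent.Lib.Helper8

open Cfsg
open scoped Pointwise

theorem s5c0 : levelCheck [8663097, 8388640, 2 ^ 0, 340831] [235782043968303495532961066980345344, 970257515862777371154748215719790848] [(1, 0, 1), (1, 1, 2), (1, 6, 3), (0, 5, 4), (1, 5, 8)] 3 274456
    4951760271280750055686930432 4722370986469272649728 3713820155902550476725420032 = true := by
  decide +kernel

theorem s5c1 : levelCheck [2 ^ 3, 8663097, 8388640, 2 ^ 0, 340831] [980355909918726333671898329756320000, 227578386318009578406903204956702752] [(1, 0, 1), (0, 6, 2), (1, 6, 7), (1, 7, 3), (1, 9, 4), (0, 8, 5), (1, 8, 11)] 4 274448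
    4951760319703453249161920512 4785074604081152 1237940078484711431531921408 = true := by
  decide +kernel

theorem s5c2 : levelCheck [2 ^ 4, 2 ^ 3, 8663097, 8388640, 2 ^ 0, 340831] [978311506716414001723901798772745408, 230624449504068125033018689321025792] [(1, 0, 1), (1, 7, 2), (0, 8, 3), (1, 8, 9), (1, 9, 4), (1, 11, 5), (0, 10, 6), (1, 10, 13)] 12 274432
    14855280914146421067818729472 4503599627370496 1237940076178868422318227456 = true := by
  decide +kernel

theorem s5c3 : levelCheck [2 ^ 12, 2 ^ 4, 2 ^ 3, 8663097, 8388640, 2 ^ 0, 340831] [233233386906768391987032901617288256] [(1, 0, 1), (1, 8, 2), (1, 9, 3), (0, 10, 4), (1, 10, 11), (1, 11, 5), (1, 13, 6), (0, 12, 7), (1, 12, 15)] 13 270336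
    16093220510709943573688614912 0 1237940039285380274899124224 = true := by
  decide +kernel


end Cfsg.Agent.Lib.Helper8
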