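import Cfsg.Agent.Lib.Helper8.Sym6
import Cfsg.Agent.Lib.Helper8.Sym5Chain

set_option autoImplicit false

namespace Cfsg.Agent.Lib.Helper8

open Cfsg
open scoped Pointwise

theorem nonempty_symN {n : ℕ} (H : Subgroup M24) (C : Finset GolayPt) (hcard : C.card = n)
    (hC : ∀ g ∈ H, ((g : M24) : Equiv.Perm GolayPt) • C = C)
    (hbij : Function.Bijective (restrictHom H C hC)) : Nonempty (H ≃* Equiv.Perm (Fin n)) :=
  ⟨(MulEquiv.ofBijective _ hbij).trans (C.equivFinOfCardEq hcard).permCongrHom⟩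

theorem uniqO : allBelow 4096 (fun c => !(Nat.beq (popF (cwOf c)) 8 && (cwOf c).testBit 0 &&
    (cwOf c).testBit 5 && (cwOf c).testBit 23 && Nat.beq (popF (cwOf c &&& 340831)) 6) ||
    Nat.beq (cwOf c) 8663097) = true := by decide +kernel

theorem O_inv {g : Equiv.Perm GolayPt} (hg : g ∈ GInv [8388640, 2 ^ 0, 340831]) :
    Inv g 8663097 := by
  have hO : setOf 8663097 ∈ octads := setOf_mem_octads (by decide +kernel)
  have ho' := smul_mem_octads hg.1 hO
  obtain ⟨c, hc, e⟩ := exists_of_mem_supports ho'.1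
  have hchk := of_allBelow uniqO c hc
  rw [cwOf_eq hc] at hchk
  have hQ : g • setOf 8388640 = setOf 8388640 := hg.2 _ (by simp)
  have hD : g • setOf 340831 = setOf 340831 := hg.2 _ (by simp)
  have h0 : g (pt 0) = pt 0 := GInv_fix hg (by norm_num) (by simp)
  have c1 : popF (codeOf c) = 8 := by rw [← card_setOf', ← e]; exact ho'.2
  have c2 : (codeOf c).testBit 0 = true := by
    rw [← pt_mem_setOf (by norm_num), ← e, ← h0, apply_mem_smul_iff, pt_mem_setOf (by norm_num)]
    decide +kernel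
  have hsub : setOf 8388640 ⊆ g • setOf 8663097 := by
    rw [← hQ]
    apply Finset.smul_finset_subset_smul_finset
    intro a ha
    rw [mem_setOf] at ha ⊢
    have : ∀ j < 24, (8388640 : ℕ).testBit j = true → (8663097 : ℕ).testBit j = true := by decide
    exact this _ (idx_lt a) ha
  have c3 : (codeOf c).testBit 5 = true := by
    rw [← pt_mem_setOf (by norm_num), ← e]
    apply hsub
    rw [pt_mem_setOf (by norm_num)]; decide +kernel
  have c4 : (codeOf c).testBit 23 = true := by
    rw [← pt_mem_setOf (by norm_num), ← e]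
    apply hsub
    rw [pt_mem_setOf (by norm_num)]; decide +kernel
  have c5 : popF (codeOf c &&& 340831) = 6 := by
    rw [← card_inter_setOf, ← e]
    conv_lhs => rw [← hD]
    rw [← Finset.smul_finset_inter, Finset.card_smul_finset, card_inter_setOf]
    decide +kernel
  rw [c1, c2, c3, c4, c5] at hchk
  simp only [Nat.beq_refl, Bool.and_self, Bool.not_true, Bool.false_or] at hchk
  rw [Inv, e, Nat.eq_of_beq_eq_true hchk]

theorem s5_bot : GInv [2 ^ 13, 2 ^ 12, 2 ^ 4, 2 ^ 3, 8663097, 8388640, 2 ^ 0, 340831] = ⊥ := by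
  rw [Subgroup.eq_bot_iff_forall]
  intro g hg
  by_contra hne
  have h4 := dod_fix_le D0_mem hg.1 (hg.2 _ (by simp)) hne
  have hsub : setOf 12313 ⊆ setOf 340831 ∩ fixF g := by
    intro a ha
    rw [mem_setOf] at ha
    have h1 : ∀ j < 24, (12313 : ℕ).testBit j = true →
        (j = 0 ∨ j = 3 ∨ j = 4 ∨ j = 12 ∨ j = 13) := by decide
    rw [Finset.mem_inter, mem_fixF, ← pt_idx a]
    rcases h1 _ (idx_lt a) ha with h | h | h | h | h <;> rw [h]
    · exact ⟨(pt_mem_setOf (by norm_num) _).mpr (by decide), GInv_fix hg (by norm_num) (by simp)⟩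
    · exact ⟨(pt_mem_setOf (by norm_num) _).mpr (by decide), GInv_fix hg (by norm_num) (by simp)⟩
    · exact ⟨(pt_mem_setOf (by norm_num) _).mpr (by decide), GInv_fix hg (by norm_num) (by simp)⟩
    · exact ⟨(pt_mem_setOf (by norm_num) _).mpr (by decide), GInv_fix hg (by norm_num) (by simp)⟩
    · exact ⟨(pt_mem_setOf (by norm_num) _).mpr (by decide), GInv_fix hg (by norm_num) (by simp)⟩
  have := Finset.card_le_card hsub
  rw [card_setOf, show popc 12313 = 5 by decide +kernel] at this
  omega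

theorem card_s5 : Nat.card (GInv [8663097, 8388640, 2 ^ 0, 340831]) = 120 := by
  have h0 := level_card s5c0
  have h1 := level_card s5c1
  have h2 := level_card s5c2
  have h3 := level_card s5c3
  rw [s5_bot, Subgroup.card_bot, show popc 270336 = 2 by decide +kernel] at h3
  rw [show popc 274456 = 5 by decide +kernel] at h0
  rw [show popc 274448 = 4 by decide +kernel] at h1
  rw [show popc 274432 = 3 by decide +kernel] at h2
  omega

theorem normDPQ {d : Finset GolayPt} (hd : d ∈ dodecads) {p q q' : GolayPt} (hp : p ∈ d)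
    (hq : q ∉ d) (hq' : q' ∉ d) (hqq' : q ≠ q') :
    ∃ w ∈ M24, w • d = setOf 340831 ∧ w p = pt 0 ∧ w q = pt 23 ∧ w q' = pt 5 := by
  obtain ⟨w, hw, hwd, hw0⟩ := normD1 hd hp
  have nm : ∀ {g : Equiv.Perm GolayPt}, g ∈ GInv [2 ^ 0, 340831] → ∀ {x : GolayPt},
      x ∉ setOf 340831 → ¬ (340831 : ℕ).testBit (idx (g x)) = true := by
    intro g hg x hx
    rw [← mem_setOf, GInv_apply_mem hg (by simp)]; exact hx
  have m0 : w q ∉ setOf 340831 := by rw [← hwd, apply_mem_smul_iff]; exact hq
  have m1 : w q' ∉ setOf 340831 := by rw [← hwd, apply_mem_smul_iff]; exact hq'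
  have h01 : w q ≠ w q' := fun h => hqq' (w.injective h)
  obtain ⟨g, hg, h0, _⟩ := chain_step m11o0 (L0 := [2 ^ 0, 340831]) (by simp)
    (GInv [2 ^ 0, 340831]).one_mem (y := w q) (tbC0 _ (idx_lt _) (nm (Subgroup.one_mem _) m0))
  obtain ⟨k, hk, h1, hz⟩ := chain_step m11o1 (L0 := [2 ^ 0, 340831]) (by simp) hg (y := w q')
    (tbC1 _ (idx_lt _) (nm hg m1) (apply_ne h01 h0))
  have h0' := hz _ _ (by norm_num) (by simp) h0
  refine ⟨k * w, M24.mul_mem hk.1 hw, ?_, ?_, h0', h1⟩
  · rw [mul_smul, hwd]; exact hk.2 _ (by simp)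
  · rw [Equiv.Perm.mul_apply, hw0]; exact GInv_fix hk (by norm_num) (by simp)

theorem m11_pair_sym5 (d : Finset GolayPt) (hd : d ∈ dodecads) (p q q' : GolayPt) (hp : p ∈ d)
    (hq : q ∉ d) (hq' : q' ∉ d) (hqq' : q ≠ q') :
    Nonempty (↥(MulAction.stabilizer M24 d ⊓ MulAction.stabilizer M24 p ⊓
      MulAction.stabilizer M24 ({q, q'} : Finset GolayPt)) ≃* Equiv.Perm (Fin 5)) := by
  obtain ⟨w, hw, hwd, hwp, hwq, hwq'⟩ := normDPQ hd hp hq hq' hqq'
  have hwQ : w • ({q, q'} : Finset GolayPt) = setOf 8388640 := by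
    rw [Finset.smul_finset_insert, Finset.smul_finset_singleton, Equiv.Perm.smul_def,
      Equiv.Perm.smul_def, hwq, hwq']
    decide +kernel
  have hmem : ∀ k : M24, k ∈ MulAction.stabilizer M24 d ⊓ MulAction.stabilizer M24 p ⊓
      MulAction.stabilizer M24 ({q, q'} : Finset GolayPt) ↔
      w * (k : Equiv.Perm GolayPt) * w⁻¹ ∈ GInv [8663097, 8388640, 2 ^ 0, 340831] := by
    intro k
    have e1 : k ∈ MulAction.stabilizer M24 d ⊓ MulAction.stabilizer M24 p ⊓
        MulAction.stabilizer M24 ({q, q'} : Finset GolayPt) ↔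
        w * (k : Equiv.Perm GolayPt) * w⁻¹ ∈ GInv [8388640, 2 ^ 0, 340831] := by
      rw [mem_GInv_conj hw]
      simp only [List.mem_cons, List.not_mem_nil, or_false, forall_eq_or_imp, forall_eq,
        inv_conj_iff hwd, inv_conj_iff hwQ, inv_conj_pt_iff (show 0 < 24 by norm_num) hwp,
        Subgroup.mem_inf, MulAction.mem_stabilizer_iff, k.2, true_and]
      constructor
      · rintro ⟨⟨a, b⟩, c⟩; exact ⟨c, b, a⟩
      · rintro ⟨c, b, a⟩; exact ⟨⟨a, b⟩, c⟩
    rw [e1]
    constructor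
    · intro h
      refine ⟨h.1, ?_⟩
      intro m hm
      rcases List.mem_cons.mp hm with rfl | hm
      · exact O_inv h
      · exact h.2 m hm
    · intro h
      exact GInv_mono (L0 := [8388640, 2 ^ 0, 340831]) (by simp) h
  have hcard := card_eq_card_GInv _ _ hw hmem
  rw [card_s5] at hcard
  set C : Finset GolayPt := w⁻¹ • setOf 274456 with hCdef
  have hc5 : C.card = 5 := by
    rw [hCdef, Finset.card_smul_finset, card_setOf]; decide +kernel
  have hCd : C ⊆ d := by
    have hd' : d = w⁻¹ • setOf 340831 := by rw [← hwd, inv_smul_smul]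
    rw [hCdef, hd']
    apply Finset.smul_finset_subset_smul_finset
    intro a ha
    rw [mem_setOf] at ha ⊢
    have : ∀ j < 24, (274456 : ℕ).testBit j = true → (340831 : ℕ).testBit j = true := by decide
    exact this _ (idx_lt a) ha
  have hst : ∀ g ∈ MulAction.stabilizer M24 d ⊓ MulAction.stabilizer M24 p ⊓
      MulAction.stabilizer M24 ({q, q'} : Finset GolayPt),
      ((g : M24) : Equiv.Perm GolayPt) • C = C := by
    intro g hg
    have h1 := (hmem g).mp hg
    have h2 : Inv (w * (g : Equiv.Perm GolayPt) * w⁻¹) 274456 := by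
      have := ((h1.2 8663097 (by simp)).and (h1.2 340831 (by simp))).xor (h1.2 (2 ^ 0) (by simp))
      have e : ((8663097 &&& 340831) ^^^ 2 ^ 0 : ℕ) = 274456 := by decide +kernel
      rwa [e] at this
    rw [Inv, mul_smul, mul_smul] at h2
    rw [hCdef]
    exact eq_inv_smul_iff.mpr h2
  have hone : ∀ g ∈ MulAction.stabilizer M24 d ⊓ MulAction.stabilizer M24 p ⊓
      MulAction.stabilizer M24 ({q, q'} : Finset GolayPt),
      (∀ a ∈ C, ((g : M24) : Equiv.Perm GolayPt) a = a) → g = 1 := by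
    intro g hg hfix
    apply Subtype.ext
    by_contra hne
    have h4 := dod_fix_le hd g.2 hg.1.1 hne
    have hsub : C ⊆ d ∩ fixF (g : Equiv.Perm GolayPt) := by
      intro a ha
      rw [Finset.mem_inter, mem_fixF]
      exact ⟨hCd ha, hfix a ha⟩
    have := Finset.card_le_card hsub
    omega
  apply nonempty_symN _ C hc5 hst
  apply (restrictHom_injective _ _ hst hone).bijective_of_nat_card_le
  rw [hcard, Nat.card_eq_fintype_card, Fintype.card_perm, Fintype.card_coe, hc5]
  decide

end Cfsg.Agent.Lib.Helper8
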