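import Cfsg.Agent.Lib.Helper8.Elusive
import Cfsg.Prelude.Def_SporadicCombinatorics

set_option autoImplicit false

namespace Cfsg.Agent.Lib.Helper8

open Cfsg
open scoped Pointwise

/-- restriction of a subgroup of `M24` stabilising `C` to `C` -/
noncomputable def restrictHom (H : Subgroup M24) (C : Finset GolayPt)
    (hC : ∀ g ∈ H, ((g : M24) : Equiv.Perm GolayPt) • C = C) : H →* Equiv.Perm {x // x ∈ C} where
  toFun g := ((g : M24) : Equiv.Perm GolayPt).subtypePerm (fun x => by
      conv_lhs => rw [← hC g g.2]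
      exact apply_mem_smul_iff _ _ _)
  map_one' := by ext x; rfl
  map_mul' a b := by ext x; rfl

theorem restrictHom_apply (H : Subgroup M24) (C : Finset GolayPt)
    (hC : ∀ g ∈ H, ((g : M24) : Equiv.Perm GolayPt) • C = C) (g : H) (x : {x // x ∈ C}) :
    ((restrictHom H C hC g x : {x // x ∈ C}) : GolayPt) = ((g : M24) : Equiv.Perm GolayPt) x := rfl

theorem restrictHom_injective (H : Subgroup M24) (C : Finset GolayPt)
    (hC : ∀ g ∈ H, ((g : M24) : Equiv.Perm GolayPt) • C = C)
    (hone : ∀ g ∈ H, (∀ p ∈ C, ((g : M24) : Equiv.Perm GolayPt) p = p) → g = 1) :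
    Function.Injective (restrictHom H C hC) := by
  rw [injective_iff_map_eq_one]
  intro g hg
  apply Subtype.ext
  apply hone g g.2
  intro p hp
  have := congrArg (fun σ : Equiv.Perm {x // x ∈ C} => ((σ ⟨p, hp⟩ : {x // x ∈ C}) : GolayPt)) hg
  exact this

theorem nonempty_sym6 (H : Subgroup M24) (C : Finset GolayPt) (hcard : C.card = 6)
    (hC : ∀ g ∈ H, ((g : M24) : Equiv.Perm GolayPt) • C = C)
    (hbij : Function.Bijective (restrictHom H C hC)) : Nonempty (H ≃* Equiv.Perm (Fin 6)) :=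
  ⟨(MulEquiv.ofBijective _ hbij).trans (C.equivFinOfCardEq hcard).permCongrHom⟩

/-- two permutations agreeing except possibly at one point are equal -/
theorem perm_eq_of_agree {α : Type*} (σ τ : Equiv.Perm α) (c : α) (h : ∀ a, a ≠ c → σ a = τ a) :
    σ = τ := by
  ext a
  by_cases ha : a = c
  · subst ha
    by_contra hne
    -- `τ⁻¹ (σ a)` is different from `a`
    set b := τ⁻¹ (σ a) with hb
    have hτb : τ b = σ a := by rw [hb]; simp
    have hba : b ≠ a := by
      intro e
      rw [e] at hτb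
      exact hne hτb.symm
    have := h b hba
    rw [hτb] at this
    exact hba (σ.injective this)
  · exact h a ha

theorem dod_hexad_sym6 (d : Finset GolayPt) (hd : d ∈ dodecads) (C : Finset GolayPt)
    (hC : C ∈ hexadsOn d) :
    Nonempty (↥(MulAction.stabilizer M24 d ⊓ MulAction.stabilizer M24 C) ≃* Equiv.Perm (Fin 6)) ∧
    (∀ g ∈ MulAction.stabilizer M24 d ⊓ MulAction.stabilizer M24 C,
      (∀ p ∈ C, ((g : ↥M24) : Equiv.Perm GolayPt) p = p) → g = 1) ∧
    ∀ g ∈ MulAction.stabilizer M24 d ⊓ MulAction.stabilizer M24 C,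
      (∀ p ∈ d \ C, ((g : ↥M24) : Equiv.Perm GolayPt) p = p) → g = 1 := by
  obtain ⟨hc6, o, ho, hoC⟩ := hC
  have hCd : C ⊆ d := by rw [← hoC]; exact Finset.inter_subset_right
  have hCo : C ⊆ o := by rw [← hoC]; exact Finset.inter_subset_left
  have faithful : ∀ S : Finset GolayPt, S ⊆ d → 5 ≤ S.card →
      ∀ g ∈ MulAction.stabilizer M24 d ⊓ MulAction.stabilizer M24 C,
      (∀ p ∈ S, ((g : ↥M24) : Equiv.Perm GolayPt) p = p) → g = 1 := by
    intro S hS h5 g hg hfix
    apply Subtype.ext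
    by_contra hne
    have h4 := dod_fix_le hd g.2 hg.1 hne
    have hsub : S ⊆ d ∩ fixF (g : Equiv.Perm GolayPt) := by
      intro a ha
      rw [Finset.mem_inter, mem_fixF]
      exact ⟨hS ha, hfix a ha⟩
    have := Finset.card_le_card hsub
    omega
  have f1 := faithful C hCd (by omega)
  have f2 := faithful (d \ C) Finset.sdiff_subset (by
    rw [Finset.card_sdiff_of_subset hCd, hd.2, hc6]; norm_num)
  refine ⟨?_, f1, f2⟩
  have hst : ∀ g ∈ MulAction.stabilizer M24 d ⊓ MulAction.stabilizer M24 C,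
      ((g : M24) : Equiv.Perm GolayPt) • C = C := fun g hg => hg.2
  apply nonempty_sym6 _ C hc6 hst
  refine ⟨restrictHom_injective _ C hst f1, ?_⟩
  intro σ
  -- five points of `C`
  let e := (C.equivFinOfCardEq hc6).symm
  let x : Fin 5 ↪ GolayPt :=
    (Fin.castSuccEmb.trans e.toEmbedding).trans (Function.Embedding.subtype _)
  let y : Fin 5 ↪ GolayPt :=
    ((Fin.castSuccEmb.trans e.toEmbedding).trans σ.toEmbedding).trans
      (Function.Embedding.subtype _)
  have hxC : ∀ i, x i ∈ C := fun i => (e (Fin.castSucc i)).2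
  have hyC : ∀ i, y i ∈ C := fun i => (σ (e (Fin.castSucc i))).2
  obtain ⟨k, hk, hkd, hkx⟩ := sharp5 hd x y (fun i => hCd (hxC i)) (fun i => hCd (hyC i))
  have hko : k • o = o := by
    by_contra hne
    have h4 := octads_inter_le (smul_mem_octads hk ho) ho hne
    have hsub : Finset.univ.map y ⊆ k • o ∩ o := by
      intro a ha
      obtain ⟨i, _, rfl⟩ := Finset.mem_map.mp ha
      rw [Finset.mem_inter]
      refine ⟨?_, hCo (hyC i)⟩
      rw [← hkx i, apply_mem_smul_iff]
      exact hCo (hxC i)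
    have := Finset.card_le_card hsub
    rw [Finset.card_map, Finset.card_univ, Fintype.card_fin] at this
    omega
  have hkC : k • C = C := by
    rw [← hoC, Finset.smul_finset_inter, hko, hkd]
  refine ⟨⟨⟨k, hk⟩, hkd, hkC⟩, ?_⟩
  apply perm_eq_of_agree _ _ (e (Fin.last 5))
  intro a ha
  obtain ⟨j, rfl⟩ := e.surjective a
  have hj : j ≠ Fin.last 5 := fun h => ha (by rw [h])
  obtain ⟨i, rfl⟩ := Fin.exists_castSucc_eq.mpr hj
  apply Subtype.ext
  exact hkx i

end Cfsg.Agent.Lib.Helper8
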