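import Cfsg.Agent.Lib.Helper8.Fast
import Cfsg.Agent.Lib.Helper8.M24Order

set_option autoImplicit false

namespace Cfsg.Agent.Lib.Helper8

open Cfsg
open scoped Pointwise

theorem level_move {L Ts : List ℕ} {prog : List (ℕ × ℕ × ℕ)} {b D parP gnP levP : ℕ}
    (h : levelCheck L Ts prog b D parP gnP levP = true) (y : GolayPt)
    (hy : D.testBit (idx y) = true) : ∃ g ∈ GInv L, g y = pt b := by
  obtain ⟨g, hg, hgy⟩ := level_trans h (idx y) (idx_lt y) hy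
  refine ⟨g⁻¹, (GInv L).inv_mem hg, ?_⟩
  rw [pt_idx] at hgy
  rw [Equiv.Perm.inv_eq_iff_eq, hgy]

theorem GInv_fix {L : List ℕ} {g : Equiv.Perm GolayPt} (hg : g ∈ GInv L) {i : ℕ} (hi : i < 24)
    (hL : 2 ^ i ∈ L) : g (pt i) = pt i := (hg.2 _ hL).fix hi

theorem idx_ne {y : GolayPt} {i : ℕ} (h : y ≠ pt i) : idx y ≠ i := fun h' => h (by rw [← h', pt_idx])

theorem move1 (x0 : GolayPt) : ∃ g ∈ M24, g x0 = pt 23 := by
  obtain ⟨g, hg, h⟩ := level_move chain0 x0 ((testBit_full _).mpr (idx_lt x0))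
  exact ⟨g, hg.1, h⟩

theorem tb1 : ∀ j < 24, j ≠ 23 → (8388607 : ℕ).testBit j = true := by decide
theorem tb2 : ∀ j < 24, j ≠ 23 → j ≠ 0 → (8388606 : ℕ).testBit j = true := by decide
theorem tb3 : ∀ j < 24, j ≠ 23 → j ≠ 0 → j ≠ 1 → (8388604 : ℕ).testBit j = true := by decide
theorem tb4 : ∀ j < 24, j ≠ 23 → j ≠ 0 → j ≠ 1 → j ≠ 2 → (8388600 : ℕ).testBit j = true := by
  decide

theorem move2 {x0 x1 : GolayPt} (h01 : x0 ≠ x1) : ∃ g ∈ M24, g x0 = pt 23 ∧ g x1 = pt 0 := by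
  obtain ⟨g, hg, h0⟩ := move1 x0
  have n0 : g x1 ≠ pt 23 := fun h => h01 (g.injective (h0.trans h.symm))
  obtain ⟨k, hk, hk1⟩ := level_move chain1 (g x1) (tb1 _ (idx_lt _) (idx_ne n0))
  refine ⟨k * g, M24.mul_mem hk.1 hg, ?_, hk1⟩
  rw [Equiv.Perm.mul_apply, h0, GInv_fix hk (by norm_num) (by simp)]

theorem move3 {x0 x1 x2 : GolayPt} (h01 : x0 ≠ x1) (h02 : x0 ≠ x2) (h12 : x1 ≠ x2) :
    ∃ g ∈ M24, g x0 = pt 23 ∧ g x1 = pt 0 ∧ g x2 = pt 1 := by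
  obtain ⟨g, hg, h0, h1⟩ := move2 h01
  have n0 : g x2 ≠ pt 23 := fun h => h02 (g.injective (h0.trans h.symm))
  have n1 : g x2 ≠ pt 0 := fun h => h12 (g.injective (h1.trans h.symm))
  obtain ⟨k, hk, hk1⟩ := level_move chain2 (g x2) (tb2 _ (idx_lt _) (idx_ne n0) (idx_ne n1))
  refine ⟨k * g, M24.mul_mem hk.1 hg, ?_, ?_, hk1⟩
  · rw [Equiv.Perm.mul_apply, h0, GInv_fix hk (by norm_num) (by simp)]
  · rw [Equiv.Perm.mul_apply, h1, GInv_fix hk (by norm_num) (by simp)]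

theorem move4 {x0 x1 x2 x3 : GolayPt} (h01 : x0 ≠ x1) (h02 : x0 ≠ x2) (h12 : x1 ≠ x2)
    (h03 : x0 ≠ x3) (h13 : x1 ≠ x3) (h23 : x2 ≠ x3) :
    ∃ g ∈ M24, g x0 = pt 23 ∧ g x1 = pt 0 ∧ g x2 = pt 1 ∧ g x3 = pt 2 := by
  obtain ⟨g, hg, h0, h1, h2⟩ := move3 h01 h02 h12
  have n0 : g x3 ≠ pt 23 := fun h => h03 (g.injective (h0.trans h.symm))
  have n1 : g x3 ≠ pt 0 := fun h => h13 (g.injective (h1.trans h.symm))
  have n2 : g x3 ≠ pt 1 := fun h => h23 (g.injective (h2.trans h.symm))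
  obtain ⟨k, hk, hk1⟩ :=
    level_move chain3 (g x3) (tb3 _ (idx_lt _) (idx_ne n0) (idx_ne n1) (idx_ne n2))
  refine ⟨k * g, M24.mul_mem hk.1 hg, ?_, ?_, ?_, hk1⟩
  · rw [Equiv.Perm.mul_apply, h0, GInv_fix hk (by norm_num) (by simp)]
  · rw [Equiv.Perm.mul_apply, h1, GInv_fix hk (by norm_num) (by simp)]
  · rw [Equiv.Perm.mul_apply, h2, GInv_fix hk (by norm_num) (by simp)]

theorem move5 {x0 x1 x2 x3 x4 : GolayPt} (h01 : x0 ≠ x1) (h02 : x0 ≠ x2) (h12 : x1 ≠ x2)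
    (h03 : x0 ≠ x3) (h13 : x1 ≠ x3) (h23 : x2 ≠ x3) (h04 : x0 ≠ x4) (h14 : x1 ≠ x4)
    (h24 : x2 ≠ x4) (h34 : x3 ≠ x4) :
    ∃ g ∈ M24, g x0 = pt 23 ∧ g x1 = pt 0 ∧ g x2 = pt 1 ∧ g x3 = pt 2 ∧ g x4 = pt 3 := by
  obtain ⟨g, hg, h0, h1, h2, h3⟩ := move4 h01 h02 h12 h03 h13 h23
  have n0 : g x4 ≠ pt 23 := fun h => h04 (g.injective (h0.trans h.symm))
  have n1 : g x4 ≠ pt 0 := fun h => h14 (g.injective (h1.trans h.symm))
  have n2 : g x4 ≠ pt 1 := fun h => h24 (g.injective (h2.trans h.symm))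
  have n3 : g x4 ≠ pt 2 := fun h => h34 (g.injective (h3.trans h.symm))
  obtain ⟨k, hk, hk1⟩ :=
    level_move chain4 (g x4) (tb4 _ (idx_lt _) (idx_ne n0) (idx_ne n1) (idx_ne n2) (idx_ne n3))
  refine ⟨k * g, M24.mul_mem hk.1 hg, ?_, ?_, ?_, ?_, hk1⟩
  · rw [Equiv.Perm.mul_apply, h0, GInv_fix hk (by norm_num) (by simp)]
  · rw [Equiv.Perm.mul_apply, h1, GInv_fix hk (by norm_num) (by simp)]
  · rw [Equiv.Perm.mul_apply, h2, GInv_fix hk (by norm_num) (by simp)]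
  · rw [Equiv.Perm.mul_apply, h3, GInv_fix hk (by norm_num) (by simp)]

theorem move5_emb (x : Fin 5 ↪ GolayPt) :
    ∃ g ∈ M24, g (x 0) = pt 23 ∧ g (x 1) = pt 0 ∧ g (x 2) = pt 1 ∧ g (x 3) = pt 2 ∧
      g (x 4) = pt 3 := by
  apply move5 <;> exact fun h => absurd (x.injective h) (by decide)

theorem M24_five_trans : MulAction.IsMultiplyPretransitive M24 GolayPt 5 := by
  refine ⟨fun x y => ?_⟩
  obtain ⟨g, hg, g0, g1, g2, g3, g4⟩ := move5_emb x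
  obtain ⟨k, hk, k0, k1, k2, k3, k4⟩ := move5_emb y
  refine ⟨⟨k⁻¹ * g, M24.mul_mem (M24.inv_mem hk) hg⟩, ?_⟩
  ext i : 1
  show (k⁻¹ * g) (x i) = y i
  rw [Equiv.Perm.mul_apply, Equiv.Perm.inv_eq_iff_eq]
  fin_cases i
  · exact g0.trans k0.symm
  · exact g1.trans k1.symm
  · exact g2.trans k2.symm
  · exact g3.trans k3.symm
  · exact g4.trans k4.symm

end Cfsg.Agent.Lib.Helper8
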