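import Cfsg.Agent.Lib.Helper8.Fam

set_option autoImplicit false

namespace Cfsg.Agent.Lib.Helper8

open Cfsg
open scoped Pointwise

def isTrioL (l : List ℕ) : Bool :=
  sortedL l && Nat.beq l.length 3 && l.all isOctF &&
    l.all (fun a => l.all fun b => Nat.beq a b || Nat.beq (Nat.land a b) 0)

theorem disjoint_setOf {a b : ℕ} (h : a &&& b = 0) : Disjoint (setOf a) (setOf b) := by
  rw [Finset.disjoint_iff_inter_eq_empty, ← setOf_and, h, setOf_zero]

theorem isTrioL_sound (l : List ℕ) (h : isTrioL l = true) :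
    sortedL l = true ∧ famOf l ∈ trios := by
  simp only [isTrioL, Bool.and_eq_true, List.all_eq_true, Bool.or_eq_true, Nat.beq_eq] at h
  obtain ⟨⟨⟨h1, h2⟩, h3⟩, h4⟩ := h
  refine ⟨h1, by rw [card_famOf h1, h2], ?_, ?_⟩
  · intro t ht
    obtain ⟨a, ha, rfl⟩ := mem_famOf.mp ht
    have := h3 a ha
    rw [isOctF_eq] at this
    exact setOf_mem_octads this
  · intro t ht u hu htu
    obtain ⟨a, ha, rfl⟩ := mem_famOf.mp ht
    obtain ⟨b, hb, rfl⟩ := mem_famOf.mp hu
    rcases h4 a ha b hb with e | e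
    · exact absurd (by rw [e]) htu
    · exact disjoint_setOf e

theorem smul_disjoint_iff (g : Equiv.Perm GolayPt) (s t : Finset GolayPt) :
    Disjoint (g • s) (g • t) ↔ Disjoint s t := by
  rw [Finset.disjoint_iff_inter_eq_empty, Finset.disjoint_iff_inter_eq_empty,
    ← Finset.smul_finset_inter, Finset.smul_finset_eq_empty]

theorem smul_mem_trios {g : Equiv.Perm GolayPt} (hg : g ∈ M24) {S : Finset (Finset GolayPt)}
    (hS : S ∈ trios) : g • S ∈ trios := by
  obtain ⟨h1, h2, h3⟩ := hS
  refine ⟨by rw [Finset.card_smul_finset, h1], ?_, ?_⟩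
  · intro t ht
    obtain ⟨t', ht', rfl⟩ := Finset.mem_smul_finset.mp ht
    exact smul_mem_octads hg (h2 t' ht')
  · intro t ht u hu htu
    obtain ⟨t', ht', rfl⟩ := Finset.mem_smul_finset.mp ht
    obtain ⟨u', hu', rfl⟩ := Finset.mem_smul_finset.mp hu
    rw [smul_disjoint_iff]
    exact h3 t' ht' u' hu' (fun e => htu (by rw [e]))

theorem smul_mem_trios_iff {g : Equiv.Perm GolayPt} (hg : g ∈ M24)
    {S : Finset (Finset GolayPt)} : g • S ∈ trios ↔ S ∈ trios :=
  ⟨fun h => by simpa using smul_mem_trios (M24.inv_mem hg) h, smul_mem_trios hg⟩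

theorem univ_mem_supports : (Finset.univ : Finset GolayPt) ∈
    supports (golayCode : Set (GolayPt → ZMod 2)) := by
  rw [← setOf_full, setOf_mem_supports_iff (by norm_num)]
  decide +kernel

theorem compl_mem_supports {s : Finset GolayPt}
    (hs : s ∈ supports (golayCode : Set (GolayPt → ZMod 2))) :
    sᶜ ∈ supports (golayCode : Set (GolayPt → ZMod 2)) := by
  have := symmDiff_mem_supports univ_mem_supports hs
  rwa [← Finset.top_eq_univ, top_symmDiff] at this

/-- the complement of the union of two disjoint octads is an octad -/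
theorem compl_union_mem_octads {o o' : Finset GolayPt} (ho : o ∈ octads) (ho' : o' ∈ octads)
    (hd : Disjoint o o') : (o ∪ o')ᶜ ∈ octads := by
  constructor
  · apply compl_mem_supports
    have := symmDiff_mem_supports ho.1 ho'.1
    rwa [Disjoint.symmDiff_eq_sup hd] at this
  · rw [Finset.card_compl, Finset.card_union_of_disjoint hd, ho.2, ho'.2]
    decide

def tr0 : List ℕ := [337856, 7903248, 8536111]

theorem famOf_tr0 : famOf tr0 = {setOf 8536111, setOf 337856, setOf 7903248} := by
  ext s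
  simp only [mem_famOf, tr0, List.mem_cons, List.not_mem_nil, or_false, Finset.mem_insert,
    Finset.mem_singleton]
  constructor
  · rintro ⟨a, rfl | rfl | rfl, rfl⟩ <;> simp
  · rintro (rfl | rfl | rfl)
    · exact ⟨_, Or.inr (Or.inr rfl), rfl⟩
    · exact ⟨_, Or.inl rfl, rfl⟩
    · exact ⟨_, Or.inr (Or.inl rfl), rfl⟩

theorem trio_norm {T : Finset (Finset GolayPt)} (hT : T ∈ trios) {o : Finset GolayPt}
    (ho : o ∈ T) : ∃ g ∈ M24, g • T = famOf tr0 ∧ g • o = setOf 8536111 := by
  obtain ⟨h1, h2, h3⟩ := hT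
  have hc : (T.erase o).card = 2 := by rw [Finset.card_erase_of_mem ho, h1]
  obtain ⟨b, c, hbc, hbc'⟩ := Finset.card_eq_two.mp hc
  have hb : b ∈ T.erase o := by rw [hbc']; simp
  have hc' : c ∈ T.erase o := by rw [hbc']; simp
  rw [Finset.mem_erase] at hb hc'
  have hT' : T = {o, b, c} := by rw [← Finset.insert_erase ho, hbc']
  have hOa : setOf 337856 ∈ octads := setOf_mem_octads (by decide +kernel)
  obtain ⟨g, hg, hgo, hgb⟩ := norm_O_code (h2 o ho) (h2 b hb.2).1 hOa.1
    ((h2 b hb.2).2.trans hOa.2.symm) (by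
      rw [Finset.disjoint_iff_inter_eq_empty.mp (h3 o ho b hb.2 (Ne.symm hb.1)), card_inter_setOf]
      decide +kernel)
  have hgc : g • c = setOf 7903248 := by
    apply Finset.eq_of_subset_of_card_le
    · intro x hx
      have d1 : Disjoint (g • o) (g • c) := (smul_disjoint_iff g o c).mpr (h3 o ho c hc'.2 (Ne.symm hc'.1))
      have d2 : Disjoint (g • b) (g • c) := (smul_disjoint_iff g b c).mpr (h3 b hb.2 c hc'.2 hbc)
      rw [hgo] at d1
      rw [hgb] at d2
      have n1 := Finset.disjoint_right.mp d1 hx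
      have n2 := Finset.disjoint_right.mp d2 hx
      rw [mem_setOf] at n1 n2 ⊢
      have : ∀ j < 24, ¬ (8536111 : ℕ).testBit j = true → ¬ (337856 : ℕ).testBit j = true →
          (7903248 : ℕ).testBit j = true := by decide
      exact this _ (idx_lt x) n1 n2
    · rw [Finset.card_smul_finset, (h2 c hc'.2).2, card_setOf]
      decide +kernel
  refine ⟨g, hg, ?_, hgo⟩
  rw [famOf_tr0, hT', Finset.smul_finset_insert, Finset.smul_finset_insert,
    Finset.smul_finset_singleton, hgo, hgb, hgc]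

theorem trio_trans : ∀ S ∈ trios, ∃ g ∈ GInv [], g • famOf tr0 = S := by
  intro S hS
  have hne : S.Nonempty := by rw [← Finset.card_pos, hS.1]; norm_num
  obtain ⟨t, ht⟩ := hne
  obtain ⟨g, hg, hgS, _⟩ := trio_norm hS ht
  refine ⟨g⁻¹, by rw [GInv_nil]; exact M24.inv_mem hg, ?_⟩
  rw [← hgS, inv_smul_smul]

end Cfsg.Agent.Lib.Helper8
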